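import Cfsg.Agent.Lib.Linear.AltDeg.Minimal
import Mathlib.Algebra.Field.ZMod

/-!
# A minimal cover with nonscalar kernel
-/

set_option autoImplicit false

namespace Cfsg.Lib.Linear.AltDeg

open Module
open scoped MatrixGroups

universe u v w

variable {L : Type u} [Field L] {V : Type v} [AddCommGroup V] [Module L V] {H : Type w} [Group H] {r : ℕ}

/-- The crude bound for alternating sections of linear groups over prime fields. -/
def SmallBound (r d : ℕ) : Prop :=
  ∀ (s : ℕ) [Fact s.Prime] (G : Subgroup (GL (Fin d) (ZMod s))) (φ : G →* Alt r), Function.Surjective φ → r - 2 ≤ d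

theorem sq_lt_two_pow : ∀ d : ℕ, 5 ≤ d → d * d < 2 ^ d := by
  intro d hd
  induction d, hd using Nat.le_induction with
  | base => norm_num
  | succ d hd ih =>
    rw [pow_succ]
    nlinarith

theorem alt_card_large (hr : 9 ≤ r) : 16 ^ 4 < Nat.card (Alt r) := by
  haveI : Nontrivial (Fin r) := Fin.nontrivial_iff_two_le.2 (by omega)
  have h2 := two_mul_nat_card_alternatingGroup (α := Fin r)
  rw [Nat.card_perm, Nat.card_fin] at h2
  change 2 * Nat.card (Alt r) = _ at h2
  have := Nat.factorial_le hr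
  rw [show Nat.factorial 9 = 362880 by decide] at this
  omega

/-- The linear action on an elementary abelian normal subgroup. -/
theorem exists_linear_action {H : Type w} [Group H] {G : Type w} [Group G] [Finite G] (s : ℕ) [Fact s.Prime]
    (q : H →* G) (Q : Subgroup G) [Q.Normal] (hc : ∀ a b : Q, a * b = b * a) (he : ∀ a : Q, a ^ s = 1) :
    ∃ (d : ℕ) (π : H →* GL (Fin d) (ZMod s)), Nat.card Q = s ^ d ∧
      ∀ h, π h = 1 → ∀ x ∈ Q, q h * x * (q h)⁻¹ = x := by
  letI : CommGroup Q := { (inferInstance : Group Q) with mul_comm := hc }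
  letI : Module (ZMod s) (Additive Q) := AddCommGroup.zmodModule (n := s) he
  haveI : Finite (Additive Q) := inferInstanceAs (Finite Q)
  haveI : Module.Finite (ZMod s) (Additive Q) := Module.Finite.of_finite
  let T₀ : G →* End (ZMod s) (Additive Q) :=
    { toFun := fun g => AddMonoidHom.toZModLinearMap s
        (MonoidHom.toAdditive (MulAut.conjNormal g : MulAut Q).toMonoidHom)
      map_one' := LinearMap.ext fun a => by
        simp only [Module.End.one_apply]
        apply Additive.toMul.injective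
        apply Subtype.ext
        simp
      map_mul' := fun g h => LinearMap.ext fun a => by
        simp only [Module.End.mul_apply]
        apply Additive.toMul.injective
        apply Subtype.ext
        simp [mul_assoc] }
  let b := Module.finBasis (ZMod s) (Additive Q)
  refine ⟨_, MonoidHom.toHomUnits ((LinearMap.toMatrixAlgEquiv b).toAlgHom.toMonoidHom.comp (T₀.comp q)), ?_,
    fun h h1 x hx => ?_⟩
  · have h1 : Nat.card (Additive Q) = Nat.card (ZMod s) ^ Module.finrank (ZMod s) (Additive Q) :=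
      Module.natCard_eq_pow_finrank
    rw [Nat.card_zmod] at h1
    rw [← h1]
    exact Nat.card_congr Additive.ofMul
  · have h2 : T₀ (q h) = 1 :=
      (LinearMap.toMatrixAlgEquiv b).injective ((congrArg Units.val h1).trans (map_one _).symm)
    have h3 := congrArg (fun z : Additive Q => ((Additive.toMul z : Q) : G))
      (LinearMap.congr_fun h2 (Additive.ofMul (⟨x, hx⟩ : Q)))
    exact h3

namespace MinCover

variable {ρ : H →* End L V} {φ : H →* Alt r}

/-- A cover with scalar kernel is a projective representation. -/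
theorem prep_of_central (C : MinCover ρ φ) (hr : 4 ≤ r) (hK : φ.ker ≤ scalars ρ) :
    Nonempty (PRep L V r) := by
  classical
  let s : Alt r → H := fun a => if a = 1 then 1 else (C.surj a).choose
  have hs : ∀ a, φ (s a) = a := fun a => by
    by_cases h : a = 1
    · simp [s, h]
    · simp only [s, if_neg h]; exact (C.surj a).choose_spec
  refine ⟨⟨fun a => ρ (s a), by simp [s], fun a b => ?_, fun a ⟨c, hc⟩ => ?_⟩⟩
  · obtain ⟨c, hc0, hc⟩ := hK (show s a * s b * (s (a * b))⁻¹ ∈ φ.ker by simp [hs])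
    refine ⟨c, hc0, ?_⟩
    rw [← map_mul, ← inv_mul_cancel_right (s a * s b) (s (a * b)), map_mul, hc, smul_mul_assoc, one_mul]
  · have hcen : a ∈ Subgroup.center (Alt r) := Subgroup.mem_center_iff.2 fun b => by
      rw [← hs a, ← hs b, ← map_mul, ← map_mul]
      refine congrArg φ (C.inj ?_)
      rw [map_mul, map_mul, hc, mul_smul_comm, mul_one, smul_mul_assoc, one_mul]
    rwa [alternatingGroup.center_eq_bot (by simpa using hr), Subgroup.mem_bot] at hcen

variable [IsAlgClosed L] [FiniteDimensional L V] [Finite H]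

/-- A cover with nonscalar kernel has degree above the recursive bound. -/
theorem bound_of_noncentral (C : MinCover ρ φ) (hr : 9 ≤ r) [Nontrivial V] (hK : ¬ φ.ker ≤ scalars ρ)
    (rec : ∀ d < finrank L V, SmallBound r d) : r - 1 ≤ finrank L V := by
  classical
  by_contra hn
  have habel : ∀ (A : Subgroup H) [A.Normal], (∀ a ∈ A, ∀ b ∈ A, a * b = b * a) → A ≤ scalars ρ := fun A _ hc =>
    (C.abelian_scalar (by omega) A hc).resolve_left fun h => hn (by omega)
  haveI := C.scalars_normal
  let S : Subgroup H := φ.ker ⊓ scalars ρ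
  haveI hSn : S.Normal := Subgroup.normal_inf_normal _ _
  let q : H →* H ⧸ S := QuotientGroup.mk' S
  have hq : ∀ x, q x = 1 ↔ x ∈ S := fun x => QuotientGroup.eq_one_iff x
  -- a prime order central element of the kernel modulo scalars
  haveI : Group.IsNilpotent φ.ker := C.ker_nilpotent
  let KQ : Subgroup (H ⧸ S) := φ.ker.map q
  haveI : Group.IsNilpotent KQ := Group.nilpotent_of_surjective (q.subgroupMap φ.ker) (q.subgroupMap_surjective _)
  haveI : Nontrivial KQ := by
    rw [Subgroup.nontrivial_iff_ne_bot]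
    intro e
    exact hK fun x hx => ((hq x).1 ((Subgroup.mem_bot).1 (e ▸ Subgroup.mem_map_of_mem q hx))).2
  have hc1 : Nat.card (Subgroup.center KQ) ≠ 1 := fun e =>
    (Group.IsNilpotent.center_ne_bot (G := KQ)) (Subgroup.card_eq_one.1 e)
  obtain ⟨s, hsp, hsd⟩ := Nat.exists_prime_and_dvd hc1
  haveI : Fact s.Prime := ⟨hsp⟩
  obtain ⟨e0, he0⟩ := exists_prime_orderOf_dvd_card' s hsd
  obtain ⟨x0, hx0K, hx0⟩ := Subgroup.mem_map.1 (e0.1.2 : (e0.1.1 : H ⧸ S) ∈ φ.ker.map q)
  -- the subgroup
  let E : Subgroup H :=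
    { carrier := {x | x ∈ φ.ker ∧ (∀ k ∈ φ.ker, Commute (q x) (q k)) ∧ q x ^ s = 1}
      one_mem' := ⟨one_mem _, fun k _ => by rw [map_one]; exact Commute.one_left _, by rw [map_one, one_pow]⟩
      mul_mem' := fun {a b} ⟨a1, a2, a3⟩ ⟨b1, b2, b3⟩ => ⟨mul_mem a1 b1,
        fun k hk => by rw [map_mul]; exact (a2 k hk).mul_left (b2 k hk),
        by rw [map_mul, (a2 b b1).mul_pow, a3, b3, one_mul]⟩
      inv_mem' := fun {a} ⟨a1, a2, a3⟩ => ⟨inv_mem a1, fun k hk => by rw [map_inv]; exact (a2 k hk).inv_left,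
        by rw [map_inv, inv_pow, a3, inv_one]⟩ }
  haveI hEn : E.Normal := ⟨fun x ⟨x1, x2, x3⟩ h => ⟨φ.normal_ker.conj_mem x x1 h, fun k hk => by
      have := x2 _ (φ.normal_ker.conj_mem k hk h⁻¹)
      rw [show k = h * (h⁻¹ * k * h⁻¹⁻¹) * h⁻¹ by group]
      simp only [map_mul, map_inv] at this ⊢
      show _ * _ = _ * _
      calc _ = q h * (q x * ((q h)⁻¹ * q k * (q h)⁻¹⁻¹)) * (q h)⁻¹ := by group
        _ = q h * ((q h)⁻¹ * q k * (q h)⁻¹⁻¹ * q x) * (q h)⁻¹ := by rw [this.eq]
        _ = _ := by group,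
    by rw [map_mul, map_mul, map_inv, conj_pow, x3, mul_one, mul_inv_cancel]⟩⟩
  have hx0E : x0 ∈ E := by
    refine ⟨hx0K, fun k hk => ?_, ?_⟩
    · have := (Subgroup.mem_center_iff.1 e0.2) ⟨q k, Subgroup.mem_map_of_mem q hk⟩
      rw [hx0]
      exact (congrArg Subtype.val this).symm
    · rw [hx0]
      exact congrArg (fun z : Subgroup.center KQ => (z.1.1 : H ⧸ S)) (he0 ▸ pow_orderOf_eq_one e0)
  have hES : ¬ E ≤ scalars ρ := fun hle => by
    have h1 : q x0 = 1 := (hq x0).2 ⟨hx0K, hle hx0E⟩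
    have : e0 = 1 := Subtype.ext (Subtype.ext (hx0 ▸ h1))
    rw [this, orderOf_one] at he0
    exact hsp.one_lt.ne he0
  have hrad : ∀ x ∈ E, (∀ y ∈ E, y * x = x * y) → x ∈ S := fun x hx hxy => by
    let R : Subgroup H := E ⊓ Subgroup.centralizer (E : Set H)
    haveI : R.Normal := ⟨fun a ha h => ⟨hEn.conj_mem a ha.1 h, Subgroup.mem_centralizer_iff.2 fun y hy => by
      have := Subgroup.mem_centralizer_iff.1 ha.2 _ (hEn.conj_mem y hy h⁻¹)
      calc y * (h * a * h⁻¹) = h * ((h⁻¹ * y * h⁻¹⁻¹) * a) * h⁻¹ := by group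
        _ = h * (a * (h⁻¹ * y * h⁻¹⁻¹)) * h⁻¹ := by rw [this]
        _ = _ := by group⟩⟩
    exact ⟨hx.1, habel R (fun a ha b hb => Subgroup.mem_centralizer_iff.1 hb.2 a ha.1)
      ⟨hx, Subgroup.mem_centralizer_iff.2 hxy⟩⟩
  -- scalar values
  have hval : ∀ z : S, ∃ c : L, ρ z = c • (1 : End L V) := fun z => by
    obtain ⟨c, -, hc⟩ := z.2.2; exact ⟨c, hc⟩
  choose val hval using hval
  have val_inj : Function.Injective val := fun a b e => Subtype.ext (C.inj (by rw [hval, hval, e]))
  have val_mul : ∀ a b : S, val (a * b) = val a * val b := fun a b => smul_left_injective L (one_ne_zero (α := End L V)) (by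
    show val (a * b) • (1 : End L V) = (val a * val b) • 1
    rw [← hval, Subgroup.coe_mul, map_mul, hval, hval, smul_mul_smul_comm, one_mul])
  -- the module
  let QE : Subgroup (H ⧸ S) := E.map q
  haveI hQEn : QE.Normal := hEn.map q (QuotientGroup.mk'_surjective S)
  have hQEc : ∀ a b : QE, a * b = b * a := by
    rintro ⟨_, x, hx, rfl⟩ ⟨_, y, hy, rfl⟩
    exact Subtype.ext (hx.2.1 y hy.1).eq
  have hQEs : ∀ a : QE, a ^ s = 1 := by
    rintro ⟨_, x, hx, rfl⟩
    exact Subtype.ext hx.2.2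
  obtain ⟨d, π, hcardQ, hπ⟩ := exists_linear_action s q QE hQEc hQEs
  have hker : π.ker ≤ φ.ker := by
    by_contra hno
    have htop := C.normal_top (by omega) _ hno
    refine hES fun x hx => (hrad x hx fun y _ => ?_).2
    have hz : ∀ h, h * x * h⁻¹ * x⁻¹ ∈ S := fun h => by
      have h1 : π h = 1 := MonoidHom.mem_ker.1 (by rw [htop]; exact Subgroup.mem_top h)
      have h3 : q h * q x * (q h)⁻¹ = q x := hπ h h1 (q x) (Subgroup.mem_map_of_mem q hx)
      rw [← hq, map_mul, map_mul, map_mul, map_inv, map_inv, h3, mul_inv_cancel]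
    let ψ : H →* Lˣ :=
      MonoidHom.toHomUnits
        { toFun := fun h => val ⟨_, hz h⟩
          map_one' := smul_left_injective L (one_ne_zero (α := End L V)) (by
            show val ⟨_, hz 1⟩ • (1 : End L V) = (1 : L) • 1
            rw [← hval, one_smul]; simp)
          map_mul' := fun g h => by
            rw [← val_mul]
            refine congrArg val (Subtype.ext ?_)
            show g * h * x * (g * h)⁻¹ * x⁻¹ = g * x * g⁻¹ * x⁻¹ * (h * x * h⁻¹ * x⁻¹)
            rw [C.scalars_commute (hz g).2 (h * x * h⁻¹ * x⁻¹)]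
            calc g * h * x * (g * h)⁻¹ * x⁻¹ = g * (h * x * h⁻¹ * x⁻¹) * (x * g⁻¹ * x⁻¹) := by group
              _ = h * x * h⁻¹ * x⁻¹ * g * (x * g⁻¹ * x⁻¹) := by rw [C.scalars_commute (hz h).2 g]
              _ = _ := by group }
    have hy := congrArg Units.val (C.hom_trivial (by omega) ψ y)
    have h1 : y * x * y⁻¹ * x⁻¹ = 1 := C.inj (by
      rw [map_one, hval ⟨_, hz y⟩, show val ⟨_, hz y⟩ = 1 from hy, one_smul])
    exact mul_inv_eq_iff_eq_mul.1 (mul_inv_eq_one.1 h1)
  by_cases hd : d < finrank L V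
  · have h := rec d hd s π.range
      (π.rangeRestrict.liftOfSurjective π.rangeRestrict_surjective ⟨φ, by rwa [π.ker_rangeRestrict]⟩)
      fun a => by
        obtain ⟨h, rfl⟩ := C.surj a
        exact ⟨π.rangeRestrict h, MonoidHom.liftOfRightInverse_comp_apply _ _ _ _ h⟩
    omega
  -- otherwise everything is tiny
  choose rep hrepE hrep using fun a : QE => Subgroup.mem_map.1 a.2
  have hz : ∀ (y : E) (a : QE), (y : H) * rep a * (y : H)⁻¹ * (rep a)⁻¹ ∈ S := fun y a => by
    rw [← hq, map_mul, map_mul, map_mul, map_inv, map_inv, (y.2.2.1 _ (hrepE a).1).eq, mul_inv_cancel_right,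
      mul_inv_cancel]
  obtain ⟨-, hcard⟩ := finite_of_systems
    (fun y : E => (LinearMap.mulLeft L (ρ y)).comp (LinearMap.mulRight L (ρ (y : H)⁻¹)))
    (fun (a : QE) (y : E) => val ⟨_, hz y a⟩) (fun a a' e => by
      have h1 : ∀ y ∈ E, y * ((rep a)⁻¹ * rep a') = (rep a)⁻¹ * rep a' * y := fun y hy => by
        have h2 := congrArg Subtype.val (val_inj (congrFun e ⟨y, hy⟩))
        calc y * ((rep a)⁻¹ * rep a')
            = (rep a)⁻¹ * (y * rep a * y⁻¹ * (rep a)⁻¹)⁻¹ * (y * rep a' * y⁻¹ * (rep a')⁻¹) * rep a' * y := by group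
          _ = _ := by rw [show (y * rep a * y⁻¹ * (rep a)⁻¹) = y * rep a' * y⁻¹ * (rep a')⁻¹ from h2]; group
      have h3 := (hq _).2 (hrad _ (mul_mem (inv_mem (hrepE a)) (hrepE a')) h1)
      rw [map_mul, map_inv, inv_mul_eq_one, hrep, hrep] at h3
      exact Subtype.ext h3)
    (fun a => ρ (rep a)) (fun a e => by
      obtain ⟨v, hv⟩ := exists_ne (0 : V)
      refine hv ?_
      have : v = (ρ (rep a)⁻¹ * ρ (rep a)) v := by rw [← map_mul, inv_mul_cancel, map_one]; rfl
      rw [this, e, mul_zero]; rfl)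
    fun y a => by
      show ρ y * (ρ (rep a) * ρ (y : H)⁻¹) = _
      rw [← map_mul, ← map_mul, ← smul_one_mul (val ⟨_, hz y a⟩) (ρ (rep a)), ← hval, ← map_mul]
      exact congrArg ρ (by group)
  rw [hcardQ, Module.finrank_linearMap] at hcard
  have hdd : s ^ d ≤ d * d := hcard.trans (Nat.mul_le_mul (by omega) (by omega))
  have hd4 : d ≤ 4 := by
    by_contra h5
    have := sq_lt_two_pow d (by omega)
    have := Nat.pow_le_pow_left hsp.two_le d
    omega
  have h16 : s ^ d ≤ 16 := hdd.trans (Nat.mul_le_mul hd4 hd4)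
  have h1 := card_alt_le C.surj π hker
  have h2 : Nat.card (GL (Fin d) (ZMod s)) ≤ Nat.card (Matrix (Fin d) (Fin d) (ZMod s)) :=
    Nat.card_le_card_of_injective _ Units.val_injective
  have h3 : Nat.card (Matrix (Fin d) (Fin d) (ZMod s)) = (s ^ d) ^ d := by
    simp [Matrix, Nat.card_fun, Nat.card_zmod]
  have h4 : (s ^ d) ^ d ≤ 16 ^ 4 := (Nat.pow_le_pow_left h16 d).trans (Nat.pow_le_pow_right (by norm_num) hd4)
  have := alt_card_large hr
  omega

end MinCover

end Cfsg.Lib.Linear.AltDeg
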