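import Cfsg.Agent.Lib.Linear.AltDeg.Two

/-!
# The degree of a projective representation of an alternating group
-/

set_option autoImplicit false

namespace Cfsg.Lib.Linear.AltDeg

open Module

universe u v

/-- Over an algebraically closed field a faithful projective representation of the alternating group on at
least nine letters has degree at least `r - 2`, and at least `r - 1` unless the characteristic divides `r`. -/
theorem degBound {L : Type u} [Field L] [IsAlgClosed L] :
    ∀ (r : ℕ), 9 ≤ r → ∀ (V : Type v) [AddCommGroup V] [Module L V] [FiniteDimensional L V],
      PRep L V r → DegBound L V r := by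
  intro r
  induction r using Nat.strong_induction_on with
  | _ r ih =>
    intro hr V _ _ _ R
    by_cases h3 : (3 : L) = 0
    · have h2 : (2 : L) ≠ 0 := fun h2 => one_ne_zero (α := L) (by
        calc (1 : L) = 3 - 2 := by norm_num
          _ = 0 := by rw [h3, h2, sub_zero])
      have h5 : (5 : L) ≠ 0 := fun h5 => h2 (by
        calc (2 : L) = 5 - 3 := by norm_num
          _ = 0 := by rw [h3, h5, sub_zero])
      by_cases h9 : r = 9
      · subst h9
        exact degBound_of_le_of_eq (R.seven_le (by omega) h2) (by
          rw [show ((9 : ℕ) : L) = 3 * 3 by norm_num, h3, mul_zero])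
      · refine R.degBound_two (by omega) h2 h5 fun h13 U R' => ?_
        have := (ih (r - 4) (by omega) (by omega) U R').1
        omega
    · refine R.degBound_three hr h3 fun h12 U R' => ?_
      have := (ih (r - 3) (by omega) (by omega) U R').1
      omega

end Cfsg.Lib.Linear.AltDeg
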