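import Cfsg.Agent.Lib.Linear.AltDeg.Characters
import Cfsg.Agent.Lib.Linear.AltDeg.Main
import Mathlib.GroupTheory.Frattini
import Mathlib.GroupTheory.SpecificGroups.Alternating
import Mathlib.Algebra.Module.ZMod
import Mathlib.FieldTheory.Finiteness
import Mathlib.LinearAlgebra.Matrix.ToLin

/-!
# Minimal linear groups covering an alternating group
-/

set_option autoImplicit false

namespace Cfsg.Lib.Linear.AltDeg

open Module

universe u v w

variable {L : Type u} [Field L] {V : Type v} [AddCommGroup V] [Module L V] {H : Type w} [Group H] {r : ℕ}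

/-- A linear group with a quotient `Alt r`, minimal as a group and irreducible. -/
structure MinCover (ρ : H →* End L V) (φ : H →* Alt r) : Prop where
  inj : Function.Injective ρ
  surj : Function.Surjective φ
  top : ∀ M : Subgroup H, M.map φ = ⊤ → M = ⊤
  irr : ∀ W : Submodule L V, (∀ h, ∀ w ∈ W, ρ h w ∈ W) → W = ⊥ ∨ W = ⊤

/-- The scalar elements. -/
noncomputable def scalars (ρ : H →* End L V) : Subgroup H where
  carrier := {h | ∃ c : L, c ≠ 0 ∧ ρ h = c • (1 : End L V)}
  one_mem' := ⟨1, one_ne_zero, by rw [map_one, one_smul]⟩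
  mul_mem' := fun {a b} ⟨c, hc, ha⟩ ⟨d, hd, hb⟩ => ⟨c * d, mul_ne_zero hc hd, by
    rw [map_mul, ha, hb, smul_mul_smul_comm, one_mul]⟩
  inv_mem' := fun {a} ⟨c, hc, ha⟩ => ⟨c⁻¹, inv_ne_zero hc, by
    have h : ρ a⁻¹ * ρ a = 1 := by rw [← map_mul, inv_mul_cancel, map_one]
    rw [ha, mul_smul_comm, mul_one] at h
    exact (eq_inv_smul_iff₀ hc).2 h⟩

theorem alt_noncomm (hr : 5 ≤ r) : ∃ a b : Alt r, a * b ≠ b * a := by
  let f : Fin 5 ↪ Fin r := Fin.castLEEmb hr
  refine ⟨emb f ⟨Equiv.swap 0 1 * Equiv.swap 1 2, Equiv.Perm.mem_alternatingGroup.2 (by decide)⟩,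
    emb f ⟨Equiv.swap 0 2 * Equiv.swap 2 3, Equiv.Perm.mem_alternatingGroup.2 (by decide)⟩, fun h => ?_⟩
  rw [← map_mul, ← map_mul] at h
  have h' := emb_injective f h
  revert h'; decide

/-- In a minimal cover a normal subgroup not under the kernel is everything. -/
theorem normal_top_of {φ : H →* Alt r} (hs : Function.Surjective φ)
    (htop : ∀ M : Subgroup H, M.map φ = ⊤ → M = ⊤) (hr : 5 ≤ r) (N : Subgroup H) [hN : N.Normal]
    (h : ¬ N ≤ φ.ker) : N = ⊤ := by
  haveI := hN.map φ hs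
  haveI : IsSimpleGroup (Alt r) := alternatingGroup.isSimpleGroup (by simpa using hr)
  refine htop N ((Subgroup.Normal.eq_bot_or_eq_top ‹(N.map φ).Normal›).resolve_left fun e => h ?_)
  exact (Subgroup.map_eq_bot_iff N).1 e

namespace MinCover

variable {ρ : H →* End L V} {φ : H →* Alt r} (C : MinCover ρ φ)

include C

theorem normal_top (hr : 5 ≤ r) (N : Subgroup H) [N.Normal] (h : ¬ N ≤ φ.ker) : N = ⊤ :=
  normal_top_of C.surj C.top hr N h

theorem hom_trivial (hr : 5 ≤ r) {M : Type*} [CommGroup M] (ψ : H →* M) (h : H) : ψ h = 1 := by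
  have : ψ.ker = ⊤ := C.normal_top hr _ fun hle => by
    obtain ⟨a, b, hab⟩ := alt_noncomm hr
    obtain ⟨x, rfl⟩ := C.surj a
    obtain ⟨y, rfl⟩ := C.surj b
    refine hab ?_
    have hm : x * y * x⁻¹ * y⁻¹ ∈ φ.ker := hle (by
      rw [MonoidHom.mem_ker, map_mul, map_mul, map_mul, map_inv, map_inv, mul_comm (ψ x) (ψ y),
        mul_inv_cancel_right, mul_inv_cancel])
    rw [MonoidHom.mem_ker, map_mul, map_mul, map_mul, map_inv, map_inv] at hm
    exact mul_inv_eq_iff_eq_mul.1 (by rw [mul_inv_eq_one.1 hm])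
  exact MonoidHom.mem_ker.1 (this ▸ Subgroup.mem_top h : h ∈ ψ.ker)

theorem ker_nilpotent [Finite H] : Group.IsNilpotent φ.ker := by
  have hle : φ.ker ≤ frattini H := by
    refine le_iInf₂ fun M hM => ?_
    by_contra hn
    refine hM.1 (C.top M ?_)
    have hs : M ⊔ φ.ker = ⊤ := hM.2 _ (lt_of_le_of_ne le_sup_left fun e => hn (sup_eq_left.1 e.symm))
    have := congrArg (Subgroup.map φ) hs
    rw [Subgroup.map_sup, (Subgroup.map_eq_bot_iff _).2 le_rfl, sup_bot_eq,
      Subgroup.map_top_of_surjective φ C.surj] at this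
    exact this
  haveI := frattini_nilpotent (G := H)
  exact Group.nilpotent_of_mulEquiv (Subgroup.subgroupOfEquivOfLe hle)

theorem scalars_commute {z : H} (hz : z ∈ scalars ρ) (h : H) : z * h = h * z := by
  obtain ⟨c, -, hc⟩ := hz
  exact C.inj (by rw [map_mul, map_mul, hc, smul_mul_assoc, one_mul, mul_smul_comm, mul_one])

theorem scalars_normal : (scalars ρ).Normal :=
  ⟨fun z hz h => by rw [← C.scalars_commute hz h, mul_inv_cancel_right]; exact hz⟩

end MinCover

/-- The order of `Alt r` against factorials. -/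
theorem le_of_card_le {r k : ℕ} (hr : 3 ≤ r) (h : Nat.card (Alt r) ≤ k.factorial) : r ≤ k := by
  by_contra hk
  haveI : Nontrivial (Fin r) := Fin.nontrivial_iff_two_le.2 (by omega)
  have h2 := two_mul_nat_card_alternatingGroup (α := Fin r)
  rw [Nat.card_perm, Nat.card_fin] at h2
  obtain ⟨s, rfl⟩ : ∃ s, r = s + 1 := ⟨r - 1, by omega⟩
  change 2 * Nat.card (Alt (s + 1)) = _ at h2
  have h3 : k.factorial ≤ s.factorial := Nat.factorial_le (by omega)
  rw [Nat.factorial_succ] at h2
  have h4 : (s + 1) * s.factorial ≤ 2 * s.factorial := by rw [← h2]; omega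
  have := Nat.le_of_mul_le_mul_right h4 s.factorial_pos
  omega

/-- The order of the image of a homomorphism whose kernel lies in that of the cover. -/
theorem card_alt_le {φ : H →* Alt r} (hs : Function.Surjective φ) {G : Type*} [Group G] [Finite G] (π : H →* G)
    (hle : π.ker ≤ φ.ker) : Nat.card (Alt r) ≤ Nat.card G := by
  refine Nat.card_le_card_of_injective (fun a => π (hs a).choose) fun a b e => ?_
  have h : (hs a).choose * (hs b).choose⁻¹ ∈ π.ker := by
    rw [MonoidHom.mem_ker, map_mul, map_inv, mul_inv_eq_one]; exact e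
  have h' := hle h
  rw [MonoidHom.mem_ker, map_mul, map_inv, mul_inv_eq_one, (hs a).choose_spec, (hs b).choose_spec] at h'
  exact h'

namespace MinCover

variable [IsAlgClosed L] [FiniteDimensional L V] {ρ : H →* End L V} {φ : H →* Alt r}

/-- Abelian normal subgroups under the cover are scalar, or the degree is at least `r`. -/
theorem abelian_scalar (C : MinCover ρ φ) (hr : 5 ≤ r) [Nontrivial V] (A : Subgroup H) [hA : A.Normal]
    (hc : ∀ a ∈ A, ∀ b ∈ A, a * b = b * a) : r ≤ finrank L V ∨ A ≤ scalars ρ := by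
  let X := {χ : A → L // ∃ v : V, v ≠ 0 ∧ ∀ a : A, ρ a v = χ a • v}
  obtain ⟨hfin, hcard⟩ := finite_of_systems (κ := X) (fun a : A => ρ a) (fun χ => χ.1) Subtype.val_injective
    (fun χ => χ.2.choose) (fun χ => χ.2.choose_spec.1) fun a χ => χ.2.choose_spec.2 a
  have hcomm : ∀ a b : A, Commute (ρ a) (ρ b) := fun a b => by
    show _ * _ = _ * _
    rw [← map_mul, ← map_mul, hc a a.2 b b.2]
  obtain ⟨v, hv0, hv⟩ := exists_common_eigenvector (fun a : A => ρ a) hcomm
  choose μ hμ using hv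
  let χ0 : X := ⟨μ, v, hv0, hμ⟩
  let conjA : H → A → A := fun h a => ⟨h⁻¹ * a * h, by simpa using hA.conj_mem a a.2 h⁻¹⟩
  have hmove : ∀ (h : H) (χ : A → L) (w : V), (∀ a : A, ρ a w = χ a • w) →
      ∀ a : A, ρ a (ρ h w) = χ (conjA h a) • ρ h w := fun h χ w hw a => by
    rw [← map_smul, ← hw, ← End.mul_apply, ← End.mul_apply, ← map_mul, ← map_mul]
    simp [conjA, mul_assoc]
  have hne : ∀ (h : H) {w : V}, w ≠ 0 → ρ h w ≠ 0 := fun h w hw e => hw (by
    have : ρ h⁻¹ (ρ h w) = w := by rw [← End.mul_apply, ← map_mul, inv_mul_cancel, map_one]; rfl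
    rw [← this, e, map_zero])
  let act : H → X → X := fun h χ => ⟨fun a => χ.1 (conjA h a), ρ h χ.2.choose, hne h χ.2.choose_spec.1,
    hmove h χ.1 _ χ.2.choose_spec.2⟩
  have act_one : ∀ χ, act 1 χ = χ := fun χ => Subtype.ext (funext fun a => congrArg χ.1 (Subtype.ext (by simp [conjA])))
  have act_mul : ∀ g h χ, act (g * h) χ = act g (act h χ) := fun g h χ =>
    Subtype.ext (funext fun a => congrArg χ.1 (Subtype.ext (by simp [conjA, mul_assoc])))
  let π : H →* Equiv.Perm X :=
    { toFun := fun h => ⟨act h, act h⁻¹, fun χ => by rw [← act_mul, inv_mul_cancel, act_one],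
        fun χ => by rw [← act_mul, mul_inv_cancel, act_one]⟩
      map_one' := Equiv.ext act_one
      map_mul' := fun g h => Equiv.ext (act_mul g h) }
  by_cases hker : π.ker ≤ φ.ker
  · refine Or.inl (le_trans ?_ hcard)
    exact le_of_card_le (by omega) ((card_alt_le C.surj π hker).trans Nat.card_perm.le)
  refine Or.inr fun a ha => ?_
  have htop := C.normal_top hr _ hker
  let W : Submodule L V := ⨅ a : A, LinearMap.ker (ρ a - μ a • (1 : End L V))
  have hW : ∀ w, w ∈ W ↔ ∀ a : A, ρ a w = μ a • w := fun w => by simp [W, sub_eq_zero]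
  have hinv : ∀ h, ∀ w ∈ W, ρ h w ∈ W := fun h w hw => by
    rw [hW] at hw ⊢
    intro a
    rw [hmove h μ w hw a]
    have hk : h ∈ π.ker := by rw [htop]; exact Subgroup.mem_top h
    have hk' : π h = 1 := MonoidHom.mem_ker.1 hk
    have : act h χ0 = χ0 := Equiv.congr_fun hk' χ0
    rw [show μ (conjA h a) = μ a from congrFun (congrArg Subtype.val this) a]
  rcases C.irr W hinv with h | h
  · exact absurd ((Submodule.mem_bot L).1 (h ▸ (hW v).2 hμ)) hv0
  · refine ⟨μ ⟨a, ha⟩, fun e => hne a hv0 ?_, LinearMap.ext fun w => (hW w).1 (h ▸ Submodule.mem_top) ⟨a, ha⟩⟩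
    rw [hμ ⟨a, ha⟩, e, zero_smul]

end MinCover

end Cfsg.Lib.Linear.AltDeg
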