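import Cfsg.Agent.Lib.Linear.AltDeg.ClassTwo
import Mathlib.FieldTheory.IsAlgClosed.AlgebraicClosure
import Mathlib.LinearAlgebra.Matrix.GeneralLinearGroup.Defs

/-!
# Alternating sections of linear groups
-/

set_option autoImplicit false

namespace Cfsg.Lib.Linear.AltDeg

open Module
open scoped MatrixGroups

universe u v w

theorem DegBound.mono {L : Type u} [Field L] {V W : Type v} [AddCommGroup V] [Module L V] [AddCommGroup W]
    [Module L W] {r : ℕ} (h : DegBound L W r) (hle : finrank L W ≤ finrank L V) : DegBound L V r :=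
  ⟨h.1.trans hle, fun h0 => (h.2 h0).trans hle⟩

/-- The degree bound for a linear group with an alternating section, given the recursive bound. -/
theorem section_bound {L : Type u} [Field L] [IsAlgClosed L] {r : ℕ} (hr : 9 ≤ r) :
    ∀ n, (∀ d < n, SmallBound r d) → ∀ (c : ℕ) (H : Type w) [Group H] [Finite H] (V : Type v) [AddCommGroup V]
      [Module L V] [FiniteDimensional L V] (ρ : H →* End L V) (φ : H →* Alt r), Nat.card H = c →
        finrank L V = n → Function.Surjective φ → ρ.ker ≤ φ.ker → DegBound L V r := by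
  intro n
  induction n using Nat.strong_induction_on with
  | _ n ihn =>
  intro rec c
  induction c using Nat.strong_induction_on with
  | _ c ihc =>
  intro H _ _ V _ _ _ ρ φ hc hn hs hker
  by_cases hinj : ρ.ker = ⊥
  swap
  · obtain ⟨φ', hφ'⟩ : ∃ φ' : H ⧸ ρ.ker →* Alt r, ∀ h : H, φ' (QuotientGroup.mk h) = φ h :=
      ⟨QuotientGroup.lift ρ.ker φ hker, fun h => QuotientGroup.lift_mk _ hker h⟩
    have hs' : Function.Surjective φ' := fun a => by
      obtain ⟨h, e⟩ := hs a
      exact ⟨QuotientGroup.mk h, (hφ' h).trans e⟩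
    obtain ⟨ρ', hρ'⟩ : ∃ ρ' : H ⧸ ρ.ker →* End L V, Function.Injective ρ' :=
      ⟨QuotientGroup.lift ρ.ker ρ le_rfl, (injective_iff_map_eq_one _).2 fun x hx => by
        induction x using QuotientGroup.induction_on with
        | H h => exact (QuotientGroup.eq_one_iff h).2 (MonoidHom.mem_ker.2 hx)⟩
    have hker' : ρ'.ker ≤ φ'.ker := ((MonoidHom.ker_eq_bot_iff ρ').2 hρ').trans_le bot_le
    refine ihc (Nat.card (H ⧸ ρ.ker)) ?_ (H ⧸ ρ.ker) V ρ' φ' rfl hn hs' hker'
    rw [← hc, Subgroup.card_eq_card_quotient_mul_card_subgroup ρ.ker]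
    refine lt_mul_of_one_lt_right Nat.card_pos ?_
    exact (Subgroup.one_lt_card_iff_ne_bot _).2 hinj
  have hρ : Function.Injective ρ := (MonoidHom.ker_eq_bot_iff ρ).1 hinj
  by_cases htop : ∀ M : Subgroup H, M.map φ = ⊤ → M = ⊤
  swap
  · push Not at htop
    obtain ⟨M, hM, hne⟩ := htop
    refine ihc (Nat.card M) ?_ M V (ρ.comp M.subtype) (φ.comp M.subtype) rfl hn (fun a => ?_) fun x hx => hker hx
    · rw [← hc]
      exact lt_of_le_of_ne M.card_le_card_group fun e => hne (Subgroup.eq_top_of_card_eq _ e)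
    · obtain ⟨m, hm, e⟩ := Subgroup.mem_map.1 (hM.symm ▸ Subgroup.mem_top a : a ∈ M.map φ)
      exact ⟨⟨m, hm⟩, e⟩
  obtain ⟨a0, b0, hab⟩ := alt_noncomm (r := r) (by omega)
  haveI : Nontrivial V := by
    by_contra hV
    rw [not_nontrivial_iff_subsingleton] at hV
    obtain ⟨a, rfl⟩ := hs a0
    obtain ⟨b, rfl⟩ := hs b0
    exact hab (by rw [← map_mul, ← map_mul]; exact congrArg φ (hρ (Subsingleton.elim _ _)))
  by_cases hirr : ∀ W : Submodule L V, (∀ h, ∀ w ∈ W, ρ h w ∈ W) → W = ⊥ ∨ W = ⊤
  · have C : MinCover ρ φ := ⟨hρ, hs, htop, hirr⟩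
    by_cases hK : φ.ker ≤ scalars ρ
    · obtain ⟨R⟩ := C.prep_of_central (by omega) hK
      exact degBound r hr V R
    · exact degBound_of_le (C.bound_of_noncentral hr hK (hn ▸ rec))
  push Not at hirr
  obtain ⟨W, hW, hW0, hW1⟩ := hirr
  let ρW : H →* End L W :=
    { toFun := fun h => (ρ h).restrict (hW h)
      map_one' := LinearMap.ext fun x => Subtype.ext (LinearMap.congr_fun (map_one ρ) x.1)
      map_mul' := fun g h => LinearMap.ext fun x => Subtype.ext (LinearMap.congr_fun (map_mul ρ g h) x.1) }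
  let ρQ : H →* End L (V ⧸ W) :=
    { toFun := fun h => W.mapQ W (ρ h) fun x hx => hW h x hx
      map_one' := by
        refine Submodule.linearMap_qext _ (LinearMap.ext fun x => ?_)
        simp
      map_mul' := fun g h => by
        refine Submodule.linearMap_qext _ (LinearMap.ext fun x => ?_)
        simp }
  have hsum := Submodule.finrank_quotient_add_finrank W
  have hWlt : finrank L W < n := hn ▸ Submodule.finrank_lt hW1
  have hQlt : finrank L (V ⧸ W) < n := by
    have : 0 < finrank L W := Nat.pos_of_ne_zero fun e => hW0 (Submodule.finrank_eq_zero.1 e)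
    omega
  by_cases h1 : ρW.ker ≤ φ.ker
  · exact (ihn _ hWlt (fun d hd => rec d (hd.trans hWlt)) _ H W ρW φ rfl rfl hs h1).mono (Submodule.finrank_le W)
  by_cases h2 : ρQ.ker ≤ φ.ker
  · exact (ihn _ hQlt (fun d hd => rec d (hd.trans hQlt)) _ H (V ⧸ W) ρQ φ rfl rfl hs h2).mono (by omega)
  exfalso
  have t1 := normal_top_of hs htop (by omega) _ h1
  have t2 := normal_top_of hs htop (by omega) _ h2
  have e1 : ∀ h, ∀ w ∈ W, ρ h w = w := fun h w hw => by
    have h' : h ∈ ρW.ker := by rw [t1]; exact Subgroup.mem_top h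
    exact congrArg Subtype.val (LinearMap.congr_fun (MonoidHom.mem_ker.1 h') ⟨w, hw⟩)
  have e2 : ∀ h v, ρ h v - v ∈ W := fun h v => by
    have h' : h ∈ ρQ.ker := by rw [t2]; exact Subgroup.mem_top h
    exact (Submodule.Quotient.eq W).1 (LinearMap.congr_fun (MonoidHom.mem_ker.1 h') (Submodule.Quotient.mk v))
  obtain ⟨a, rfl⟩ := hs a0
  obtain ⟨b, rfl⟩ := hs b0
  refine hab ?_
  rw [← map_mul, ← map_mul]
  refine congrArg φ (hρ (LinearMap.ext fun v => ?_))
  have k : ∀ g h, ρ (g * h) v = ρ g v + ρ h v - v := fun g h => by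
    have := e1 g _ (e2 h v)
    rw [map_sub] at this
    rw [map_mul, End.mul_apply, ← sub_add_cancel (ρ g (ρ h v)) (ρ g v), this]
    abel
  rw [k, k, add_comm]

/-- The linear map of an invertible matrix over a field extension. -/
noncomputable def extRep {F : Type u} [Field F] (L : Type v) [Field L] [Algebra F L] {n : ℕ}
    (G : Subgroup (GL (Fin n) F)) : G →* End L (Fin n → L) :=
  (Matrix.toLinAlgEquiv' (R := L) (n := Fin n)).toAlgHom.toMonoidHom.comp
    ((algebraMap F L).mapMatrix.toMonoidHom.comp ((Units.coeHom _).comp G.subtype))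

theorem extRep_injective {F : Type u} [Field F] (L : Type v) [Field L] [Algebra F L] {n : ℕ}
    (G : Subgroup (GL (Fin n) F)) : Function.Injective (extRep L G) := fun a b h =>
  Subtype.ext (Units.ext (Matrix.map_injective (algebraMap F L).injective
    ((Matrix.toLinAlgEquiv' (R := L)).injective h)))

/-- Prime fields: a linear group with an alternating section has degree at least `r - 2`. -/
theorem smallBound {r : ℕ} (hr : 9 ≤ r) : ∀ d, SmallBound r d := by
  intro d
  induction d using Nat.strong_induction_on with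
  | _ d ih =>
    intro s _ G φ hs
    haveI : Finite G := inferInstance
    have h := section_bound (L := AlgebraicClosure (ZMod s)) hr d ih (Nat.card G) G
      (Fin d → AlgebraicClosure (ZMod s)) (extRep _ G) φ rfl (Module.finrank_fin_fun _) hs
      (fun x hx => by
        rw [show x = 1 from extRep_injective _ G ((MonoidHom.mem_ker.1 hx).trans (map_one _).symm)]
        exact one_mem _)
    have h1 := h.1
    rwa [Module.finrank_fin_fun] at h1

end Cfsg.Lib.Linear.AltDeg
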