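import Mathlib.LinearAlgebra.FiniteDimensional.Lemmas
import Mathlib.RingTheory.RootsOfUnity.PrimitiveRoots
import Mathlib.Data.ZMod.Basic
import Mathlib.Algebra.Field.GeomSum

/-!
# Eigenvectors of commuting operators of order prime to the characteristic
-/

set_option autoImplicit false

namespace Cfsg.Lib.Linear.AltDeg

open Module

variable {L : Type*} [Field L] {V : Type*} [AddCommGroup V] [Module L V] {m : ℕ} [NeZero m] {ζ : L}

/-- The power of `ζ` indexed by a residue. -/
def rootPow (ζ : L) (i : ZMod m) : L := ζ ^ i.val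

theorem rootPow_zero : rootPow ζ (0 : ZMod m) = 1 := by simp [rootPow]

theorem rootPow_injective (hζ : IsPrimitiveRoot ζ m) : Function.Injective (rootPow ζ : ZMod m → L) := fun i j h =>
  ZMod.val_injective m (hζ.pow_inj i.val_lt j.val_lt h)

theorem rootPow_pow (hζ : IsPrimitiveRoot ζ m) (i : ZMod m) : rootPow ζ i ^ m = 1 := by
  rw [rootPow, ← pow_mul, mul_comm, pow_mul, hζ.pow_eq_one, one_pow]

theorem rootPow_ne_zero (hζ : IsPrimitiveRoot ζ m) (i : ZMod m) : rootPow ζ i ≠ 0 :=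
  pow_ne_zero _ (hζ.ne_zero (NeZero.ne m))

theorem rootPow_add (hζ : IsPrimitiveRoot ζ m) (i j : ZMod m) : rootPow ζ (i + j) = rootPow ζ i * rootPow ζ j := by
  simp only [rootPow, ZMod.val_add, ← pow_add]
  exact (pow_eq_pow_mod (i.val + j.val) hζ.pow_eq_one).symm

/-- The projection onto the eigenvectors of eigenvalue `ζ ^ i`. -/
noncomputable def proj (ζ : L) (x : End L V) (i : ZMod m) : End L V :=
  (m : L)⁻¹ • ∑ j ∈ Finset.range m, ((rootPow ζ i)⁻¹ ^ j) • x ^ j

variable {x : End L V}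

theorem proj_apply (i : ZMod m) (v : V) :
    proj ζ x i v = (m : L)⁻¹ • ∑ j ∈ Finset.range m, ((rootPow ζ i)⁻¹ ^ j) • (x ^ j) v := by
  simp [proj]

theorem proj_eigen (hζ : IsPrimitiveRoot ζ m) (hx : x ^ m = 1) (i : ZMod m) (v : V) :
    x (proj ζ x i v) = rootPow ζ i • proj ζ x i v := by
  rw [proj_apply]
  set μ := rootPow ζ i with hμ
  have hμ0 : μ ≠ 0 := rootPow_ne_zero hζ i
  have hμm : μ⁻¹ ^ m = 1 := by rw [inv_pow, rootPow_pow hζ i, inv_one]
  set f : ℕ → V := fun j => μ⁻¹ ^ j • (x ^ j) v with hf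
  have h1 : ∀ j, x (f j) = μ • f (j + 1) := fun j => by
    simp only [hf, map_smul, smul_smul, pow_succ μ⁻¹, pow_succ' x, End.mul_apply]
    rw [show μ * (μ⁻¹ ^ j * μ⁻¹) = μ⁻¹ ^ j by field_simp]
  have h2 : ∑ j ∈ Finset.range m, f (j + 1) = ∑ j ∈ Finset.range m, f j := by
    refine add_right_cancel (b := f 0) ?_
    rw [← Finset.sum_range_succ' f m, Finset.sum_range_succ]
    rw [inv_pow] at hμm
    simp [hf, hμm, hx]
  rw [map_smul, map_sum, Finset.sum_congr rfl fun j _ => h1 j, ← Finset.smul_sum, h2, smul_comm]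

theorem proj_of_eigen (hζ : IsPrimitiveRoot ζ m) (hm : (m : L) ≠ 0) (i k : ZMod m) {v : V}
    (hv : x v = rootPow ζ k • v) : proj ζ x i v = if i = k then v else 0 := by
  have hpow : ∀ j : ℕ, (x ^ j) v = rootPow ζ k ^ j • v := fun j => by
    induction j with
    | zero => simp
    | succ j ih => rw [pow_succ', End.mul_apply, ih, map_smul, hv, smul_smul, pow_succ]
  rw [proj_apply, Finset.sum_congr rfl fun j _ => (by rw [hpow, smul_smul, ← mul_pow] :
    ((rootPow ζ i)⁻¹ ^ j) • (x ^ j) v = (((rootPow ζ i)⁻¹ * rootPow ζ k) ^ j) • v), ← Finset.sum_smul]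
  split_ifs with h
  · subst h
    simp [inv_mul_cancel₀ (rootPow_ne_zero hζ i), smul_smul, inv_mul_cancel₀ hm]
  · have hne : (rootPow ζ i)⁻¹ * rootPow ζ k ≠ 1 := fun e => h (rootPow_injective hζ
      (inv_mul_eq_one₀ (rootPow_ne_zero hζ i) |>.1 e))
    rw [geom_sum_eq hne, mul_pow, inv_pow, rootPow_pow hζ i, rootPow_pow hζ k]
    simp

theorem proj_sum (hζ : IsPrimitiveRoot ζ m) (hm : (m : L) ≠ 0) (v : V) : ∑ i : ZMod m, proj ζ x i v = v := by
  simp only [proj_apply]
  rw [← Finset.smul_sum, Finset.sum_comm]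
  have h : ∀ j ∈ Finset.range m, ∑ i : ZMod m, ((rootPow ζ i)⁻¹ ^ j) • (x ^ j) v =
      if j = 0 then (m : L) • v else 0 := fun j hj => by
    rw [← Finset.sum_smul]
    split_ifs with h0
    · simp [h0]
    · have hne : (ζ⁻¹) ^ j ≠ 1 := (hζ.inv).pow_ne_one_of_pos_of_lt h0 (Finset.mem_range.1 hj)
      have he : ∑ i : ZMod m, (rootPow ζ i)⁻¹ ^ j = ∑ l ∈ Finset.range m, ((ζ⁻¹) ^ j) ^ l := by
        refine Finset.sum_bij (fun i _ => i.val) (fun i _ => Finset.mem_range.2 i.val_lt)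
          (fun a _ b _ e => ZMod.val_injective m e)
          (fun l hl => ⟨l, Finset.mem_univ _, ZMod.val_cast_of_lt (Finset.mem_range.1 hl)⟩) fun i _ => ?_
        rw [rootPow, ← inv_pow, ← pow_mul, ← pow_mul, mul_comm]
      rw [he, geom_sum_eq hne, ← pow_mul, mul_comm j m, pow_mul, inv_pow, hζ.pow_eq_one, inv_one, one_pow]
      simp
  rw [Finset.sum_congr rfl h, Finset.sum_ite_eq']
  simp [NeZero.pos m, smul_smul, inv_mul_cancel₀ hm]

theorem exists_eigen_component (hζ : IsPrimitiveRoot ζ m) (hm : (m : L) ≠ 0) {v : V} (hv : v ≠ 0) :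
    ∃ i : ZMod m, proj ζ x i v ≠ 0 := by
  by_contra h
  push Not at h
  exact hv (by rw [← proj_sum (x := x) hζ hm v]; exact Finset.sum_eq_zero fun i _ => h i)

theorem proj_commute {y : End L V} (h : x * y = y * x) (i : ZMod m) (v : V) :
    y (proj ζ x i v) = proj ζ x i (y v) := by
  simp only [proj_apply, map_smul, map_sum]
  refine congrArg _ (Finset.sum_congr rfl fun j _ => congrArg _ ?_)
  exact (LinearMap.congr_fun ((show Commute x y from h).pow_left j).eq v).symm

/-- The moved part and the fixed part meet trivially. -/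
theorem range_sub_one_inf (hζ : IsPrimitiveRoot ζ m) (hm : (m : L) ≠ 0) (hx : x ^ m = 1) {v : V}
    (h1 : v ∈ LinearMap.range (x - 1)) (h2 : x v = v) : v = 0 := by
  obtain ⟨w, rfl⟩ := h1
  have h := proj_of_eigen (x := x) (v := (x - 1) w) hζ hm (0 : ZMod m) 0 (by rw [rootPow_zero, one_smul]; exact h2)
  rw [if_pos rfl, LinearMap.sub_apply, End.one_apply, map_sub, ← proj_commute rfl, proj_eigen hζ hx, rootPow_zero,
    one_smul, sub_self] at h
  rw [LinearMap.sub_apply, End.one_apply, ← h]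

theorem mem_range_sub_one (hζ : IsPrimitiveRoot ζ m) (hm : (m : L) ≠ 0) (hx : x ^ m = 1) {v : V}
    (h : proj ζ x (0 : ZMod m) v = 0) : v ∈ LinearMap.range (x - 1) := by
  rw [← proj_sum (x := x) hζ hm v]
  refine Submodule.sum_mem _ fun i _ => ?_
  by_cases hi : i = 0
  · rw [hi, h]; exact zero_mem _
  · have hne : rootPow ζ i - 1 ≠ 0 := fun e => hi (rootPow_injective hζ (by rw [sub_eq_zero.1 e, rootPow_zero]))
    refine ⟨(rootPow ζ i - 1)⁻¹ • proj ζ x i v, ?_⟩
    rw [map_smul, LinearMap.sub_apply, End.one_apply, proj_eigen hζ hx]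
    rw [← sub_smul_one_smul_aux, smul_smul, inv_mul_cancel₀ hne, one_smul]
where
  sub_smul_one_smul_aux {a : L} {w : V} : (a - 1) • w = a • w - w := by rw [sub_smul, one_smul]

/-- The space splits into moved and fixed part. -/
theorem range_sub_one_sup (hζ : IsPrimitiveRoot ζ m) (hm : (m : L) ≠ 0) (hx : x ^ m = 1) (v : V) :
    ∃ a ∈ LinearMap.range (x - 1), ∃ b, x b = b ∧ v = a + b := by
  set b := proj ζ x (0 : ZMod m) v with hb
  have hxb : x b = b := by rw [proj_eigen hζ hx, rootPow_zero, one_smul]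
  refine ⟨v - b, mem_range_sub_one hζ hm hx ?_, b, hxb, (sub_add_cancel v b).symm⟩
  have hb0 : proj ζ x (0 : ZMod m) b = b := by
    rw [proj_of_eigen hζ hm 0 0 (by rw [rootPow_zero, one_smul]; exact hxb), if_pos rfl]
  rw [map_sub, hb0, ← hb, sub_self]

/-- Joint eigenvalues of three operators. -/
def Occurs (ζ : L) (x y z : End L V) (w : ZMod m × ZMod m × ZMod m) : Prop :=
  ∃ v : V, v ≠ 0 ∧ x v = rootPow ζ w.1 • v ∧ y v = rootPow ζ w.2.1 • v ∧ z v = rootPow ζ w.2.2 • v

/-- An eigenvector of the first operator has a joint eigenvector component. -/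
theorem exists_occurs {y z : End L V} (hζ : IsPrimitiveRoot ζ m) (hm : (m : L) ≠ 0) (hy : y ^ m = 1)
    (hz : z ^ m = 1) (hxy : x * y = y * x) (hxz : x * z = z * x) (hyz : y * z = z * y) {v : V} (hv : v ≠ 0)
    {a : ZMod m} (hxv : x v = rootPow ζ a • v) : ∃ b c, Occurs ζ x y z (a, b, c) := by
  obtain ⟨b, hb⟩ := exists_eigen_component (x := y) hζ hm hv
  obtain ⟨c, hc⟩ := exists_eigen_component (x := z) hζ hm hb
  refine ⟨b, c, _, hc, ?_, ?_, proj_eigen hζ hz c _⟩
  · rw [proj_commute hxz.symm, proj_commute hxy.symm, hxv, map_smul, map_smul]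
  · rw [proj_commute hyz.symm, proj_eigen hζ hy, map_smul]

/-- There are at most `dim V` joint eigenvalues. -/
theorem card_le_finrank [FiniteDimensional L V] {y z : End L V} (hζ : IsPrimitiveRoot ζ m) (hm : (m : L) ≠ 0)
    (S : Finset (ZMod m × ZMod m × ZMod m)) (hS : ∀ w ∈ S, Occurs ζ x y z w) :
    S.card ≤ finrank L V := by
  classical
  choose! v hv0 hvx hvy hvz using hS
  let v' : {w // w ∈ S} → V := fun w => v w
  have hli : LinearIndependent L v' := by
    rw [Fintype.linearIndependent_iff]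
    intro g hg w
    have h := congrArg (fun u => proj ζ z w.1.2.2 (proj ζ y w.1.2.1 (proj ζ x w.1.1 u))) hg
    simp only [map_sum, map_smul, map_zero] at h
    rw [Finset.sum_eq_single w (fun w' _ hne => ?_) (by simp)] at h
    · rw [proj_of_eigen hζ hm w.1.1 _ (hvx _ w.2), if_pos rfl, proj_of_eigen hζ hm w.1.2.1 _ (hvy _ w.2), if_pos rfl,
        proj_of_eigen hζ hm w.1.2.2 _ (hvz _ w.2), if_pos rfl] at h
      exact (smul_eq_zero.1 h).resolve_right (hv0 _ w.2)
    · rw [proj_of_eigen hζ hm w.1.1 _ (hvx _ w'.2)]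
      split_ifs with h1
      · rw [proj_of_eigen hζ hm w.1.2.1 _ (hvy _ w'.2)]
        split_ifs with h2
        · rw [proj_of_eigen hζ hm w.1.2.2 _ (hvz _ w'.2)]
          split_ifs with h3
          · exact absurd (Subtype.ext (Prod.ext h1 (Prod.ext h2 h3))) (Ne.symm hne)
          · simp
        · simp
      · simp
  simpa using hli.fintype_card_le_finrank

end Cfsg.Lib.Linear.AltDeg
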