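import Cfsg.Agent.Lib.Linear.AltDeg.PRep

/-!
# The chain of moved spaces of a class of short elements
-/

set_option autoImplicit false

namespace Cfsg.Lib.Linear.AltDeg

open Module

variable {L : Type*} [Field L] {V : Type*} [AddCommGroup V] [Module L V] {c r : ℕ}

/-- An injection into a set with two prescribed values. -/
theorem exists_embedding_two {S : Finset (Fin r)} (hS : c ≤ S.card) {i j : Fin c} (hij : i ≠ j) {a b : Fin r}
    (ha : a ∈ S) (hb : b ∈ S) (hab : a ≠ b) :
    ∃ h : Fin c ↪ Fin r, (∀ k, h k ∈ S) ∧ h i = a ∧ h j = b := by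
  classical
  obtain ⟨h₀⟩ : Nonempty (Fin c ↪ {x // x ∈ S}) := Function.Embedding.nonempty_of_card_le (by simpa using hS)
  let e₁ := h₀.trans (Equiv.swap (h₀ i) ⟨a, ha⟩).toEmbedding
  let e₂ := e₁.trans (Equiv.swap (e₁ j) ⟨b, hb⟩).toEmbedding
  refine ⟨e₂.trans (Function.Embedding.subtype _), fun k => (e₂ k).2, ?_, ?_⟩
  · have h1 : e₁ i = ⟨a, ha⟩ := Equiv.swap_apply_left _ _
    show (Equiv.swap (e₁ j) (⟨b, hb⟩ : {x // x ∈ S}) (e₁ i)).1 = a
    rw [Equiv.swap_apply_of_ne_of_ne (e₁.injective.ne hij) (by rw [h1]; exact fun e => hab (congrArg Subtype.val e)), h1]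
  · show (Equiv.swap (e₁ j) (⟨b, hb⟩ : {x // x ∈ S}) (e₁ j)).1 = b
    rw [Equiv.swap_apply_left]

/-- A conjugation invariant family of representing maps of one class, with the facts that make the chain grow. -/
structure MovedClass (R : PRep L V r) (c : ℕ) where
  /-- The element on `c` letters. -/
  π0 : Alt c
  /-- The representing map of a member of the class. -/
  x : Alt r → End L V
  two_le : 2 ≤ c
  moves : ∀ i, π0.1 i ≠ i
  isLift : ∀ f : Fin c ↪ Fin r, R.IsLift (emb f π0) (x (emb f π0))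
  conj : ∀ (f : Fin c ↪ Fin r) (σ : Alt r) (y : End L V), R.IsLift σ y →
    y * x (emb f π0) = x (σ * emb f π0 * σ⁻¹) * y
  fix : ∀ f g : Fin c ↪ Fin r, (∀ i j, f i ≠ g j) →
    ∀ v ∈ LinearMap.range (x (emb f π0) - 1), x (emb g π0) v = v
  swap : ∀ f g : Fin c ↪ Fin r, (∀ i j, f i = g j → i.val = 0 ∧ j.val = 0) → (∀ i, i.val = 0 → f i = g i) →
    ¬ Commute (emb f π0) (emb g π0) ∧
      ∃ σ : Alt r, σ * emb f π0 * σ⁻¹ = emb g π0 ∧ σ * emb g π0 * σ⁻¹ = emb f π0
  core : ∀ T : Finset (Fin r), T.card = c → ∀ v ∈ ⨆ (f : Fin c ↪ Fin r) (_ : ∀ i, f i ∈ T),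
    LinearMap.range (x (emb f π0) - 1), (∀ f : Fin c ↪ Fin r, (∀ i, f i ∈ T) → x (emb f π0) v = v) → v = 0

namespace MovedClass

variable {R : PRep L V r} (M : MovedClass R c)

/-- The space moved by one member. -/
noncomputable def W (f : Fin c ↪ Fin r) : Submodule L V := LinearMap.range (M.x (emb f M.π0) - 1)

/-- The space moved by the members inside `S`. -/
noncomputable def span (S : Finset (Fin r)) : Submodule L V := ⨆ (f : Fin c ↪ Fin r) (_ : ∀ i, f i ∈ S), M.W f

theorem W_le_span {S : Finset (Fin r)} {f : Fin c ↪ Fin r} (hf : ∀ i, f i ∈ S) : M.W f ≤ M.span S :=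
  le_iSup₂ (f := fun (f : Fin c ↪ Fin r) (_ : ∀ i, f i ∈ S) => M.W f) f hf

theorem span_mono {S T : Finset (Fin r)} (h : S ⊆ T) : M.span S ≤ M.span T :=
  iSup₂_le fun f hf => M.W_le_span fun i => h (hf i)

theorem map_W {σ : Alt r} {y : End L V} (hy : R.IsLift σ y) (f : Fin c ↪ Fin r) :
    (M.W f).map y = M.W (move σ f) := by
  have h := M.conj f σ y hy
  rw [conj_emb] at h
  refine le_antisymm ?_ ?_
  · rintro _ ⟨_, ⟨v, rfl⟩, rfl⟩
    refine ⟨y v, ?_⟩
    have := LinearMap.congr_fun h v
    simp only [End.mul_apply] at this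
    simp [this]
  · rintro _ ⟨v, rfl⟩
    obtain ⟨u, rfl⟩ := hy.surjective v
    refine ⟨_, ⟨u, rfl⟩, ?_⟩
    have := LinearMap.congr_fun h u
    simp only [End.mul_apply] at this
    simp [this]

theorem map_span {σ : Alt r} {y : End L V} (hy : R.IsLift σ y) (S : Finset (Fin r)) :
    (M.span S).map y = M.span (S.map σ.1.toEmbedding) := by
  simp only [span, Submodule.map_iSup]
  refine le_antisymm (iSup₂_le fun f hf => ?_) (iSup₂_le fun f hf => ?_)
  · rw [M.map_W hy]
    exact M.W_le_span fun i => Finset.mem_map_of_mem _ (hf i)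
  · have hm : move σ (move σ⁻¹ f) = f := Function.Embedding.ext fun i => by simp
    rw [← hm, ← M.map_W hy]
    refine le_iSup₂_of_le (f := fun (f : Fin c ↪ Fin r) (_ : ∀ i, f i ∈ S) => (M.W f).map y) (move σ⁻¹ f) (fun i => ?_) le_rfl
    obtain ⟨a, ha, ea⟩ := Finset.mem_map.1 (hf i)
    rw [move_apply, ← ea]
    simpa using ha

theorem W_fixed {S : Finset (Fin r)} {g : Fin c ↪ Fin r} (hg : ∀ i, g i ∉ S) {v : V} (hv : v ∈ M.span S) :
    M.x (emb g M.π0) v = v := by
  have hle : M.span S ≤ LinearMap.ker (M.x (emb g M.π0) - 1) := iSup₂_le fun f hf w hw =>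
    LinearMap.mem_ker.2 (sub_eq_zero.2 (M.fix f g (fun i j e => hg j (e ▸ hf i)) w hw))
  exact sub_eq_zero.1 (LinearMap.mem_ker.1 (hle hv))

/-- Disjoint sets of letters move independent spaces. -/
theorem span_inf {S T : Finset (Fin r)} (hT : T.card = c) (hd : Disjoint S T) : M.span S ⊓ M.span T = ⊥ := by
  rw [eq_bot_iff]
  intro v hv
  rw [Submodule.mem_bot]
  refine M.core T hT v hv.2 fun f hf => M.W_fixed (S := S) (fun i h => ?_) hv.1
  exact Finset.disjoint_left.1 hd h (hf i)

theorem eq_bot_of_le (hr : 2 * c ≤ r) {U : Submodule L V} (hU : ∀ T : Finset (Fin r), T.card = c → U ≤ M.span T) :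
    U = ⊥ := by
  classical
  obtain ⟨T, -, hT⟩ := Finset.exists_subset_card_eq (s := (Finset.univ : Finset (Fin r))) (n := c) (by simp; omega)
  obtain ⟨S, hS, hS'⟩ := Finset.exists_subset_card_eq (s := Tᶜ) (n := c) (by simp [Finset.card_compl, hT]; omega)
  rw [eq_bot_iff]
  intro v hv
  rw [← M.span_inf (S := S) hT (Finset.disjoint_left.2 fun a ha hb => Finset.mem_compl.1 (hS ha) hb)]
  exact ⟨hU S hS' hv, hU T hT hv⟩

/-- Exchanging one letter. -/
theorem span_insert {S : Finset (Fin r)} (hS : c ≤ S.card) {q r0 : Fin r} (hq : q ∉ S) (hr0 : r0 ∈ S) :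
    M.span (insert q S) = M.span S ⊔ M.span (insert q (S.erase r0)) := by
  classical
  refine le_antisymm (iSup₂_le fun f hf => ?_) (sup_le (M.span_mono (Finset.subset_insert _ _))
    (M.span_mono (Finset.insert_subset_insert _ (Finset.erase_subset _ _))))
  by_cases h1 : ∀ i, f i ≠ q
  · exact le_sup_of_le_left (M.W_le_span fun i => (Finset.mem_insert.1 (hf i)).resolve_left (h1 i))
  by_cases h2 : ∀ i, f i ≠ r0
  · exact le_sup_of_le_right (M.W_le_span fun i => (Finset.mem_insert.1 (hf i)).elim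
      (fun e => by rw [e]; exact Finset.mem_insert_self _ _)
      fun h => Finset.mem_insert_of_mem (Finset.mem_erase.2 ⟨h2 i, h⟩))
  push Not at h1 h2
  obtain ⟨i1, hi1⟩ := h1
  obtain ⟨i2, hi2⟩ := h2
  obtain ⟨s, hsS, hs⟩ : ∃ s ∈ S, ∀ i, f i ≠ s := by
    by_contra hno
    push Not at hno
    have hsub : insert q S ⊆ Finset.univ.map f := fun a ha => by
      rcases Finset.mem_insert.1 ha with rfl | ha
      · exact Finset.mem_map.2 ⟨i1, Finset.mem_univ _, hi1⟩
      · obtain ⟨i, hi⟩ := hno a ha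
        exact Finset.mem_map.2 ⟨i, Finset.mem_univ _, hi⟩
    have := Finset.card_le_card hsub
    rw [Finset.card_insert_of_notMem hq, Finset.card_map, Finset.card_univ, Fintype.card_fin] at this
    omega
  have hc : 0 < c := by have := M.two_le; omega
  obtain ⟨h, hhS, hha, hhb⟩ := exists_embedding_two hS (M.moves ⟨0, hc⟩) hr0 hsS fun e => hs i2 (hi2.trans e)
  set σ := emb h M.π0 with hσ
  have hσs : σ.1 s = r0 := by rw [← hhb, hσ, emb_apply, hha]
  set U := M.span S ⊔ M.span (insert q (S.erase r0)) with hU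
  set y := M.x σ with hy
  have hyl : R.IsLift σ y := M.isLift h
  have hyU : ∀ v ∈ U, y v ∈ U := fun v hv => by
    have e : y v = (y - 1) v + v := by simp
    rw [e]
    exact add_mem (Submodule.mem_sup_left (M.W_le_span hhS ⟨v, rfl⟩)) hv
  have hmem : ∀ i, (move σ f) i ∈ insert q (S.erase r0) := fun i => by
    rw [move_apply]
    by_cases hh : ∀ k, h k ≠ f i
    · rw [hσ, emb_apply_of_notMem h M.π0 hh]
      rcases Finset.mem_insert.1 (hf i) with e | e
      · rw [e]; exact Finset.mem_insert_self _ _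
      · exact Finset.mem_insert_of_mem (Finset.mem_erase.2 ⟨fun e' => hh _ (hha.trans e'.symm), e⟩)
    · push Not at hh
      obtain ⟨k, hk⟩ := hh
      refine Finset.mem_insert_of_mem (Finset.mem_erase.2 ⟨fun e => hs i ?_, ?_⟩)
      · exact σ.1.injective (e.trans hσs.symm)
      · rw [← hk, hσ, emb_apply]; exact hhS _
  obtain ⟨y', hy', hyy', -⟩ := hyl.exists_inv
  intro v hv
  have h1 : y v ∈ U := Submodule.mem_sup_right (M.W_le_span hmem (by rw [← M.map_W hyl]; exact ⟨v, hv, rfl⟩))
  have hfin : ∀ w, y w ∈ U → w ∈ U := fun w hw => by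
    have e : w = y w - (y - 1) w := by simp
    rw [e]
    exact sub_mem hw (Submodule.mem_sup_left (M.W_le_span hhS ⟨w, rfl⟩))
  exact hfin v h1

theorem eq_of_isLift {a b : Alt r} {x : End L V} (ha : R.IsLift a x) (hb : R.IsLift b x) : a = b := by
  obtain ⟨y, hy, hxy, -⟩ := hb.exists_inv
  exact mul_inv_eq_one.1 ((ha.mul hy).eq_one (c := 1) (by rw [hxy, one_smul]))

/-- The moved space grows with each new letter. -/
theorem span_lt {S : Finset (Fin r)} (h1 : c - 1 ≤ S.card) (h2 : S.card + c ≤ r) {q : Fin r} (hq : q ∉ S) :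
    M.span S < M.span (insert q S) := by
  classical
  have hc := M.two_le
  refine lt_of_le_of_ne (M.span_mono (Finset.subset_insert _ _)) fun he => ?_
  have key : ∀ T : Finset (Fin r), q ∉ T → c - 1 ≤ T.card →
      ∃ f : Fin c ↪ Fin r, (∀ i, f i ∈ insert q T) ∧ f ⟨0, by omega⟩ = q ∧ ∀ i, i.val ≠ 0 → f i ∈ T := fun T hqT hT => by
    obtain ⟨f, hf⟩ : ∃ f : Fin c ↪ Fin r, (∀ i, f i ∈ insert q T) := by
      obtain ⟨e⟩ : Nonempty (Fin c ↪ {x // x ∈ insert q T}) := Function.Embedding.nonempty_of_card_le (by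
        rw [Fintype.card_fin, Fintype.card_coe, Finset.card_insert_of_notMem hqT]; omega)
      exact ⟨e.trans (Function.Embedding.subtype _), fun i => (e i).2⟩
    let f' := f.trans (Equiv.swap (f ⟨0, by omega⟩) q).toEmbedding
    refine ⟨f', fun i => ?_, Equiv.swap_apply_left _ _, fun i hi => ?_⟩
    · show Equiv.swap _ q (f i) ∈ _
      rw [Equiv.swap_apply_def]; split_ifs <;> simp [hf]
    · have hm : Equiv.swap (f ⟨0, by omega⟩) q (f i) ∈ insert q T := by
        rw [Equiv.swap_apply_def]; split_ifs <;> simp [hf]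
      refine (Finset.mem_insert.1 hm).resolve_left fun e => hi ?_
      have : f i = f ⟨0, by omega⟩ := (Equiv.swap _ q).injective (e.trans (Equiv.swap_apply_left _ _).symm)
      exact congrArg Fin.val (f.injective this)
  obtain ⟨f, hfm, hf0, hfS⟩ := key S hq h1
  obtain ⟨g, -, hg0, hgS⟩ := key (insert q S)ᶜ (by simp) (by
    rw [Finset.card_compl, Finset.card_insert_of_notMem hq, Fintype.card_fin]; omega)
  have hmeet : ∀ i j, f i = g j → i.val = 0 ∧ j.val = 0 := fun i j e => by
    by_cases hj : j.val = 0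
    · refine ⟨?_, hj⟩
      by_contra hi
      have hgq : g j = q := by rw [← hg0]; exact congrArg g (Fin.ext hj)
      exact hq (hgq ▸ e ▸ hfS i hi)
    · exact absurd (hfm i) (Finset.mem_compl.1 (e ▸ hgS j hj))
  obtain ⟨hnc, σ, hσ1, hσ2⟩ := M.swap f g hmeet fun i hi => by
    rw [show i = ⟨0, by omega⟩ from Fin.ext hi, hf0, hg0]
  have hgf : ∀ i, g i ∉ S := fun i hi => by
    by_cases h : i.val = 0
    · rw [show i = ⟨0, by omega⟩ from Fin.ext h, hg0] at hi; exact hq hi
    · exact Finset.mem_compl.1 (hgS i h) (Finset.mem_insert_of_mem hi)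
  set a := M.x (emb f M.π0) with ha
  set b := M.x (emb g M.π0) with hb
  have hba : ∀ v ∈ LinearMap.range (a - 1), b v = v := fun v hv => M.W_fixed hgf (he ▸ M.W_le_span hfm hv)
  set y := R.ρ σ with hy
  have hyl : R.IsLift σ y := R.isLift_rho σ
  have e1 : y * a = b * y := by rw [M.conj f σ y hyl, hσ1]
  have e2 : y * b = a * y := by rw [M.conj g σ y hyl, hσ2]
  have hab : ∀ v ∈ LinearMap.range (b - 1), a v = v := by
    rintro _ ⟨w, rfl⟩
    obtain ⟨u, rfl⟩ := hyl.surjective w
    have h3 : (b - 1) (y u) = y ((a - 1) u) := by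
      have := LinearMap.congr_fun e1 u
      simp only [End.mul_apply] at this
      simp [this]
    rw [h3, ← End.mul_apply, ← e2, End.mul_apply, hba _ ⟨u, rfl⟩]
  have z1 : (b - 1) * (a - 1) = 0 := LinearMap.ext fun v => sub_eq_zero.2 (hba _ ⟨v, rfl⟩)
  have z2 : (a - 1) * (b - 1) = 0 := LinearMap.ext fun v => sub_eq_zero.2 (hab _ ⟨v, rfl⟩)
  have hcomm : a * b = b * a := by
    have e := z2.trans z1.symm
    simp only [sub_mul, mul_sub, one_mul, mul_one] at e
    calc a * b = a * b - b - (a - 1) + (a + b - 1) := by abel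
      _ = b * a - a - (b - 1) + (a + b - 1) := by rw [e]
      _ = b * a := by abel
  exact hnc (eq_of_isLift ((M.isLift f).mul (M.isLift g)) (hcomm ▸ (M.isLift g).mul (M.isLift f)))

/-- The dimensions along a chain. -/
theorem finrank_chain [FiniteDimensional L V] {S : Finset (Fin r)} (hS : c - 1 ≤ S.card) :
    ∀ T : Finset (Fin r), S ⊆ T → T.card + c ≤ r + 1 →
      finrank L (M.span S) + T.card ≤ finrank L (M.span T) + S.card := by
  classical
  intro T
  induction T using Finset.induction_on with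
  | empty => intro h _; rw [Finset.subset_empty.1 h]
  | @insert q T hq ih =>
    intro hST hT
    rw [Finset.card_insert_of_notMem hq] at hT ⊢
    by_cases hqS : q ∈ S
    · by_cases heq : insert q T = S
      · rw [← Finset.card_insert_of_notMem hq, heq]
      · obtain ⟨z, hzT, hzS⟩ := Finset.not_subset.1 fun h => heq (Finset.Subset.antisymm h hST)
        have hz : z ∈ T := (Finset.mem_insert.1 hzT).resolve_left fun e => hzS (e ▸ hqS)
        have hsub : S ⊆ (insert q T).erase z := fun a ha => Finset.mem_erase.2 ⟨fun e => hzS (e ▸ ha), hST ha⟩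
        have hcard : ((insert q T).erase z).card = T.card := by
          rw [Finset.card_erase_of_mem hzT, Finset.card_insert_of_notMem hq]; rfl
        have h1 := Submodule.finrank_lt_finrank_of_lt (M.span_lt (S := (insert q T).erase z)
          (by have := Finset.card_le_card hsub; omega) (by omega) (Finset.notMem_erase _ _))
        rw [Finset.insert_erase hzT] at h1
        have hrec := finrank_aux hsub (by omega)
        omega
    · have h1 := Submodule.finrank_lt_finrank_of_lt (M.span_lt (S := T)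
        (by have := Finset.card_le_card ((Finset.subset_insert_iff_of_notMem hqS).1 hST); omega) (by omega) hq)
      have := ih ((Finset.subset_insert_iff_of_notMem hqS).1 hST) (by omega)
      omega
where
  finrank_aux {T' : Finset (Fin r)} (h : S ⊆ T') (h' : T'.card + c ≤ r + 1) :
      finrank L (M.span S) + T'.card ≤ finrank L (M.span T') + S.card := by
    classical
    induction hn : (T' \ S).card generalizing T' with
    | zero =>
      obtain rfl : T' = S := Finset.Subset.antisymm (Finset.sdiff_eq_empty_iff_subset.1 (Finset.card_eq_zero.1 hn)) h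
      rfl
    | succ n ih =>
      obtain ⟨z, hz⟩ := Finset.card_pos.1 (by omega : 0 < (T' \ S).card)
      obtain ⟨hzT, hzS⟩ := Finset.mem_sdiff.1 hz
      have hsub : S ⊆ T'.erase z := fun a ha => Finset.mem_erase.2 ⟨fun e => hzS (e ▸ ha), h ha⟩
      have hc1 := Finset.card_le_card hsub
      have h1 := Submodule.finrank_lt_finrank_of_lt (M.span_lt (S := T'.erase z) (by omega) (by
        rw [Finset.card_erase_of_mem hzT]; have := Finset.card_pos.2 ⟨z, hzT⟩; omega) (Finset.notMem_erase _ _))
      rw [Finset.insert_erase hzT] at h1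
      have h2 := ih hsub (by rw [Finset.card_erase_of_mem hzT]; omega) (by
        rw [Finset.erase_sdiff_comm, Finset.card_erase_of_mem hz, hn]; omega)
      rw [Finset.card_erase_of_mem hzT] at h2
      have := Finset.card_pos.2 ⟨z, hzT⟩
      omega

/-- The dimension count. -/
theorem finrank_bound [FiniteDimensional L V] (hr : 2 * c ≤ r) :
    ∀ T : Finset (Fin r), T.card = c → c - 1 ≤ finrank L (M.span T) →
      r - 2 ≤ finrank L V ∧ (finrank L V ≤ r - 2 → ∀ S : Finset (Fin r), c ≤ S.card → S.card + c ≤ r →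
        finrank L (M.span S) + 1 = S.card) := by
  classical
  intro T hT hD
  have hc := M.two_le
  have hconst : ∀ A B : Finset (Fin r), A.card = c → B.card = c → c + 2 ≤ r →
      finrank L (M.span A) = finrank L (M.span B) := fun A B hA hB hcr => by
    let fA := (A.orderEmbOfFin hA).toEmbedding
    let fB := (B.orderEmbOfFin hB).toEmbedding
    obtain ⟨σ, hσ⟩ := exists_move fA fB hcr
    have hAB : A.map σ.1.toEmbedding = B := by
      refine Finset.eq_of_subset_of_card_le (fun b hb => ?_) (by rw [Finset.card_map, hA, hB])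
      obtain ⟨a, ha, rfl⟩ := Finset.mem_map.1 hb
      obtain ⟨i, rfl⟩ : a ∈ Set.range (A.orderEmbOfFin hA) := by rw [Finset.range_orderEmbOfFin]; exact ha
      show σ.1 (fA i) ∈ B
      rw [← move_apply, hσ]
      exact Finset.orderEmbOfFin_mem _ _ i
    rw [← hAB, ← M.map_span (R.isLift_rho σ)]
    exact (Submodule.equivMapOfInjective _ (R.isLift_rho σ).injective _).finrank_eq
  have hlow : ∀ S : Finset (Fin r), c ≤ S.card → S.card + c ≤ r → S.card ≤ finrank L (M.span S) + 1 := fun S h1 h2 => by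
    obtain ⟨A, hA, hAc⟩ := Finset.exists_subset_card_eq h1
    have := M.finrank_chain (S := A) (by omega) S hA (by omega)
    rw [hAc] at this
    have := hconst A T hAc hT (by omega)
    omega
  have hsum : ∀ S : Finset (Fin r), S.card + c = r → finrank L (M.span S) + finrank L (M.span T) ≤ finrank L V :=
    fun S hS => by
      have hcc : (Sᶜ : Finset (Fin r)).card = c := by rw [Finset.card_compl, Fintype.card_fin]; omega
      have h := Submodule.finrank_sup_add_finrank_inf_eq (M.span S) (M.span Sᶜ)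
      rw [M.span_inf hcc disjoint_compl_right, finrank_bot, add_zero] at h
      have := Submodule.finrank_le (M.span S ⊔ M.span Sᶜ)
      rw [← hconst Sᶜ T hcc hT (by omega)]
      omega
  have hcard : (Tᶜ : Finset (Fin r)).card + c = r := by rw [Finset.card_compl, Fintype.card_fin]; omega
  refine ⟨?_, fun hn S h1 h2 => ?_⟩
  · have := hlow Tᶜ (by omega) (by omega)
    have := hsum Tᶜ hcard
    omega
  · obtain ⟨B, hB, -, hBc⟩ := Finset.exists_subsuperset_card_eq (n := r - c) (Finset.subset_univ S) (by omega)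
      (by simp)
    have h3 := M.finrank_chain (S := S) (by omega) B hB (by omega)
    have h4 := hsum B (by omega)
    have := hlow S h1 h2
    omega

end MovedClass

end Cfsg.Lib.Linear.AltDeg
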