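import Mathlib.LinearAlgebra.Eigenspace.Triangularizable
import Mathlib.LinearAlgebra.FiniteDimensional.Lemmas

/-!
# Joint eigenvectors of families of operators
-/

set_option autoImplicit false

namespace Cfsg.Lib.Linear.AltDeg

open Module

variable {L : Type*} [Field L] {V : Type*} [AddCommGroup V] [Module L V] {ι κ : Type*}

/-- Joint eigenvectors with different systems of eigenvalues are independent. -/
theorem linearIndependent_of_systems (T : ι → End L V) (χ : κ → ι → L) (hχ : Function.Injective χ) (v : κ → V)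
    (hv0 : ∀ q, v q ≠ 0) (hv : ∀ i q, T i (v q) = χ q i • v q) : LinearIndependent L v := by
  classical
  rw [linearIndependent_iff']
  intro s
  induction s using Finset.induction_on with
  | empty => simp
  | @insert a s ha ih =>
    intro g hg
    have hz : ∀ i, ∀ q ∈ s, g q * (χ q i - χ a i) = 0 := fun i => by
      refine ih (fun q => g q * (χ q i - χ a i)) ?_
      have h1 := congrArg (T i) hg
      have h2 := congrArg (χ a i • ·) hg
      simp only [map_sum, map_smul, hv, map_zero, Finset.smul_sum, smul_smul, smul_zero] at h1 h2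
      rw [Finset.sum_insert ha] at h1 h2
      calc ∑ q ∈ s, (g q * (χ q i - χ a i)) • v q
          = ((g a * χ a i) • v a + ∑ q ∈ s, (g q * χ q i) • v q) -
            ((χ a i * g a) • v a + ∑ q ∈ s, (χ a i * g q) • v q) := by
            rw [mul_comm (χ a i) (g a)]
            simp only [mul_sub, sub_smul, Finset.sum_sub_distrib, mul_comm (χ a i)]
            abel
        _ = 0 := by rw [h1, h2, sub_zero]
    have hs : ∀ q ∈ s, g q = 0 := fun q hq => by
      by_contra hne
      refine ha (?_ : a ∈ s)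
      have : χ q = χ a := funext fun i => sub_eq_zero.1 ((mul_eq_zero.1 (hz i q hq)).resolve_left hne)
      exact hχ this ▸ hq
    intro q hq
    rcases Finset.mem_insert.1 hq with rfl | hq
    · rw [Finset.sum_insert ha, Finset.sum_eq_zero fun j hj => by rw [hs j hj, zero_smul], add_zero] at hg
      exact (smul_eq_zero.1 hg).resolve_right (hv0 q)
    · exact hs q hq

theorem finite_of_systems [FiniteDimensional L V] (T : ι → End L V) (χ : κ → ι → L) (hχ : Function.Injective χ)
    (v : κ → V) (hv0 : ∀ q, v q ≠ 0) (hv : ∀ i q, T i (v q) = χ q i • v q) :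
    Finite κ ∧ Nat.card κ ≤ finrank L V := by
  have hli := linearIndependent_of_systems T χ hχ v hv0 hv
  haveI := hli.finite
  haveI := Fintype.ofFinite κ
  exact ⟨inferInstance, by rw [Nat.card_eq_fintype_card]; exact hli.fintype_card_le_finrank⟩

/-- Commuting operators have a common eigenvector. -/
theorem exists_common_eigenvector [IsAlgClosed L] [FiniteDimensional L V] [Nontrivial V] (T : ι → End L V)
    (hT : ∀ i j, Commute (T i) (T j)) : ∃ v, v ≠ 0 ∧ ∀ i, ∃ μ : L, T i v = μ • v := by
  classical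
  have hex : ∃ d, ∃ W : Submodule L V, W ≠ ⊥ ∧ (∀ i, ∀ w ∈ W, T i w ∈ W) ∧ finrank L W = d :=
    ⟨_, ⊤, top_ne_bot, fun _ _ _ => Submodule.mem_top, rfl⟩
  obtain ⟨W, hW0, hWinv, hWd⟩ := Nat.find_spec hex
  obtain ⟨v, hv, hv0⟩ := Submodule.exists_mem_ne_zero_of_ne_bot hW0
  refine ⟨v, hv0, fun i => ?_⟩
  haveI : Nontrivial W := Submodule.nontrivial_iff_ne_bot.2 hW0
  obtain ⟨μ, hμ⟩ := Module.End.exists_eigenvalue ((T i).restrict (hWinv i))
  obtain ⟨⟨w, hwW⟩, hw⟩ := hμ.exists_hasEigenvector
  let U : Submodule L V := W ⊓ LinearMap.ker (T i - μ • (1 : End L V))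
  have hU : ∀ u, u ∈ U ↔ u ∈ W ∧ T i u = μ • u := fun u => by simp [U, sub_eq_zero]
  have hU0 : U ≠ ⊥ := by
    have h1 : T i w = μ • w := congrArg Subtype.val hw.apply_eq_smul
    intro e
    exact hw.2 (Subtype.ext ((Submodule.mem_bot L).1 (e ▸ (hU w).2 ⟨hwW, h1⟩)))
  have hle : U ≤ W := inf_le_left
  have hUinv : ∀ j, ∀ u ∈ U, T j u ∈ U := fun j u hu => by
    rw [hU] at hu ⊢
    refine ⟨hWinv j u hu.1, ?_⟩
    rw [← End.mul_apply, (hT i j).eq, End.mul_apply, hu.2, map_smul]
  have hmin := Nat.find_min' hex ⟨U, hU0, hUinv, rfl⟩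
  have := Submodule.eq_of_le_of_finrank_le hle (by omega)
  exact ⟨μ, ((hU v).1 (this.symm ▸ hv)).2⟩

end Cfsg.Lib.Linear.AltDeg
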