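import Cfsg.Agent.Lib.Linear.AltDeg.Norm

/-!
# The normalised lifts of short cycles
-/

set_option autoImplicit false

namespace Cfsg.Lib.Linear.AltDeg

open Module

/-- The three-cycle on three letters. -/
def c3 : Alt 3 := ⟨finRotate 3, Equiv.Perm.mem_alternatingGroup.2 (by decide)⟩

/-- The five-cycle on five letters. -/
def c5 : Alt 5 := ⟨finRotate 5, Equiv.Perm.mem_alternatingGroup.2 (by decide)⟩

theorem c3_centralizer : ∀ e : Equiv.Perm (Fin 3), e * c3.1 = c3.1 * e → ∃ i < 3, e = c3.1 ^ i := by decide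

theorem c5_centralizer (e : Equiv.Perm (Fin 5)) (h : e * c5.1 = c5.1 * e) : ∃ i < 5, e = c5.1 ^ i := by
  have h' : ∀ i, e (i + 1) = e i + 1 := fun i => by
    have := Equiv.congr_fun h i
    simpa [c5, Equiv.Perm.mul_apply] using this
  have hp : ∀ k i : Fin 5, (c5.1 ^ k.val) i = i + k := by decide
  refine ⟨(e 0).val, (e 0).isLt, Equiv.ext fun i => ?_⟩
  rw [hp]
  have h1 := h' 0
  have h2 := h' 1
  have h3 := h' 2
  have h4 := h' 3
  fin_cases i <;> simp_all [Fin.ext_iff, Fin.val_add] <;> omega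

namespace PRep

variable {L : Type*} [Field L] {V : Type*} [AddCommGroup V] [Module L V] {r : ℕ}

variable (R : PRep L V r)

/-- Elements whose lifts are centralised by the lifts of their centralisers, and which are inverted. -/
structure Good (m : ℕ) (a : Alt r) : Prop where
  comm : ∀ (u : Alt r) (x y : End L V), R.IsLift a x → R.IsLift u y → Commute a u → x * y = y * x
  pow_eq : a ^ m = 1
  inverted : ∃ s, a * s * a = s

open scoped Classical in
/-- The normalised lift, where there is one. -/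
noncomputable def nrm (m : ℕ) (a : Alt r) : End L V := if h : ∃ x, R.IsNorm m a x then h.choose else 1

variable {R} {m : ℕ} {a b : Alt r}

theorem IsNorm.eq_nrm (hr : 3 ≤ r) (hm : Odd m) (ha : R.Good m a) {x : End L V} (hx : R.IsNorm m a x) :
    x = R.nrm m a := by
  have hex : ∃ x, R.IsNorm m a x := ⟨x, hx⟩
  rw [nrm, dif_pos hex]
  exact IsNorm.unique hr hm hex.choose_spec hx fun u y hu hy => ha.comm u _ y hex.choose_spec.1 hy hu

theorem Good.nrm_spec [IsAlgClosed L] (hr : 3 ≤ r) (hm : Odd m) (ha : R.Good m a) :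
    R.IsNorm m a (R.nrm m a) := by
  obtain ⟨s, hs⟩ := ha.inverted
  have hex := R.exists_norm hr hm ha.pow_eq hs
  rw [nrm, dif_pos hex]
  exact hex.choose_spec

theorem Good.conj (ha : R.Good m a) (σ : Alt r) : R.Good m (σ * a * σ⁻¹) := by
  refine ⟨fun u x y hx hy hu => ?_, ?_, ?_⟩
  · obtain ⟨z', hz', hzz', hz'z⟩ := (R.isLift_rho σ).exists_inv
    set z := R.ρ σ with hz
    have h := ha.comm (σ⁻¹ * u * σ) (z' * x * z) (z' * y * z)
      (((hz'.mul hx).mul (R.isLift_rho σ)).congr (by group)) ((hz'.mul hy).mul (R.isLift_rho σ)) (by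
        show a * (σ⁻¹ * u * σ) = σ⁻¹ * u * σ * a
        calc a * (σ⁻¹ * u * σ) = σ⁻¹ * (σ * a * σ⁻¹ * u) * σ := by group
          _ = σ⁻¹ * (u * (σ * a * σ⁻¹)) * σ := by rw [hu.eq]
          _ = _ := by group)
    calc x * y = z * (z' * x * z * (z' * y * z)) * z' := by
          simp only [← mul_assoc, hzz', one_mul]; simp only [mul_assoc, hzz', mul_one]
      _ = z * (z' * y * z * (z' * x * z)) * z' := by rw [h]
      _ = y * x := by
          simp only [← mul_assoc, hzz', one_mul]; simp only [mul_assoc, hzz', mul_one]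
  · rw [conj_pow, ha.pow_eq, mul_one, mul_inv_cancel]
  · obtain ⟨s, hs⟩ := ha.inverted
    exact ⟨σ * s * σ⁻¹, by
      calc σ * a * σ⁻¹ * (σ * s * σ⁻¹) * (σ * a * σ⁻¹) = σ * (a * s * a) * σ⁻¹ := by group
        _ = _ := by rw [hs]⟩

/-- Conjugation permutes the normalised lifts. -/
theorem Good.nrm_conj [IsAlgClosed L] (hr : 3 ≤ r) (hm : Odd m) (ha : R.Good m a) {σ : Alt r} {y : End L V}
    (hy : R.IsLift σ y) : y * R.nrm m a = R.nrm m (σ * a * σ⁻¹) * y := by
  obtain ⟨y', hy', h, h'⟩ := hy.exists_inv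
  rw [← IsNorm.eq_nrm hr hm (ha.conj σ) ((ha.nrm_spec hr hm).conj hy hy' h h'), mul_assoc _ y', h', mul_one]

/-- Powers of normalised lifts. -/
theorem Good.nrm_sq [IsAlgClosed L] (hr : 3 ≤ r) (hm : Odd m) (ha : R.Good m a) (ha2 : R.Good m (a ^ 2)) :
    R.nrm m (a ^ 2) = R.nrm m a ^ 2 := by
  obtain ⟨hl, hxm, s, t, htl, hs, hxt⟩ := ha.nrm_spec hr hm
  refine (IsNorm.eq_nrm hr hm ha2 ⟨hl.pow 2, ?_, s, t, htl, ?_, ?_⟩).symm
  · rw [← pow_mul, mul_comm, pow_mul, hxm, one_pow]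
  · calc a ^ 2 * s * a ^ 2 = a * (a * s * a) * a := by simp only [sq, mul_assoc]
      _ = s := by rw [hs, hs]
  · calc R.nrm m a ^ 2 * t * R.nrm m a ^ 2 = R.nrm m a * (R.nrm m a * t * R.nrm m a) * R.nrm m a := by
          simp only [sq, mul_assoc]
      _ = t := by rw [hxt, hxt]

/-- Every lift of an inverting element inverts the normalised lift. -/
theorem Good.inverts [IsAlgClosed L] (hr : 3 ≤ r) (hm : Odd m) (ha : R.Good m a) {s : Alt r} (hs : a * s * a = s)
    {t : End L V} (ht : R.IsLift s t) : R.nrm m a * t * R.nrm m a = t := by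
  obtain ⟨hl, hxm, s', t', htl', hs', hxt'⟩ := ha.nrm_spec hr hm
  set x := R.nrm m a with hx
  have hu : Commute a (s'⁻¹ * s) := by
    show a * (s'⁻¹ * s) = s'⁻¹ * s * a
    calc a * (s'⁻¹ * s) = a * s'⁻¹ * (a * s * a) := by rw [hs, mul_assoc]
      _ = a * (a * s' * a)⁻¹ * a * s * a := by rw [hs']; simp only [mul_assoc]
      _ = _ := by group
  obtain ⟨y, hy⟩ : ∃ y, R.IsLift (s'⁻¹ * s) y := ⟨_, R.isLift_rho _⟩
  obtain ⟨d, -, rfl⟩ := ((htl'.mul hy).congr (mul_inv_cancel_left s' s)).exists_smul ht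
  rw [mul_smul_comm, smul_mul_assoc]
  congr 1
  calc x * (t' * y) * x = x * t' * (y * x) := by simp only [mul_assoc]
    _ = x * t' * (x * y) := by rw [ha.comm _ x y hl hy hu]
    _ = _ := by rw [← mul_assoc, hxt']

theorem good_emb {k : ℕ} (hk : k + 5 ≤ r) (f : Fin k ↪ Fin r) (c : Alt k) (hc : ∀ i, c.1 i ≠ i)
    (hcent : ∀ e : Equiv.Perm (Fin k), e * c.1 = c.1 * e → ∃ i < k, e = c.1 ^ i) (hm : c ^ m = 1)
    (hinv : ∃ s, (emb f c) * s * (emb f c) = s) : R.Good m (emb f c) := by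
  obtain ⟨g, hg⟩ := exists_compl f
  refine ⟨fun u x y hx hy hu => ?_, by rw [← map_pow, hm, map_one], hinv⟩
  obtain ⟨i, b, rfl⟩ := centralizer_cases f g hg c hc hcent hu
  have hb := R.isLift_rho (emb g b)
  obtain ⟨d, -, rfl⟩ := ((hx.pow i).mul hb).exists_smul hy
  have hxb := R.commute_emb (k := r - k) (by omega) g hx
    (fun b' => commute_of_disjoint f g (fun i j h => (hg (g j)).1 ⟨j, rfl⟩ i h) c b') hb
  rw [mul_smul_comm, smul_mul_assoc]
  congr 1
  rw [← mul_assoc, (Commute.self_pow x i).eq, mul_assoc, hxb, ← mul_assoc]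

end PRep

/-- An inverter of a three-cycle. -/
theorem exists_inverts_three {r : ℕ} (f : Fin 3 ↪ Fin r) {u v : Fin r} (huv : u ≠ v) (hu : ∀ i, f i ≠ u)
    (hv : ∀ i, f i ≠ v) : ∃ h : Fin 5 ↪ Fin r, ∃ s : Alt 5,
      emb f c3 = emb h (emb (Fin.castAddEmb 2) c3) ∧ emb f c3 * emb h s * emb f c3 = emb h s ∧
        (∀ i, h (Fin.castAdd 2 i) = f i) ∧ h 3 = u ∧ h 4 = v := by
  have hinj : Function.Injective ![f 0, f 1, f 2, u, v] := by
    intro i j
    fin_cases i <;> fin_cases j <;> simp [f.injective.eq_iff, huv, huv.symm, hu, hv, (hu _).symm, (hv _).symm]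
  let h : Fin 5 ↪ Fin r := ⟨_, hinj⟩
  have hf : (Fin.castAddEmb 2).trans h = f := Function.Embedding.ext fun i => by fin_cases i <;> rfl
  have e1 : emb f c3 = emb h (emb (Fin.castAddEmb 2) c3) := by rw [emb_trans, hf]
  refine ⟨h, ⟨Equiv.swap 1 2 * Equiv.swap 3 4, Equiv.Perm.mem_alternatingGroup.2 (by decide)⟩, e1, ?_,
    fun i => by fin_cases i <;> rfl, rfl, rfl⟩
  rw [e1, ← map_mul, ← map_mul]
  congr 1
  have e2 : emb (Fin.castAddEmb 2) c3 =
      (⟨Equiv.swap 0 1 * Equiv.swap 1 2, Equiv.Perm.mem_alternatingGroup.2 (by decide)⟩ : Alt 5) :=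
    emb_eq _ _ _ (by decide) (by decide)
  rw [e2]
  decide

/-- An inverter of a five-cycle. -/
theorem exists_inverts_five {r : ℕ} (f : Fin 5 ↪ Fin r) : ∃ s, emb f c5 * s * emb f c5 = s := by
  refine ⟨emb f ⟨Equiv.swap 1 4 * Equiv.swap 2 3, Equiv.Perm.mem_alternatingGroup.2 (by decide)⟩, ?_⟩
  rw [← map_mul, ← map_mul]
  congr 1
  decide

end Cfsg.Lib.Linear.AltDeg
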