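import Cfsg.Agent.Lib.Linear.AltDeg.Geometry

/-!
# Lines indexed by pairs of letters force the characteristic
-/

set_option autoImplicit false

namespace Cfsg.Lib.Linear.AltDeg

open Module

variable {L : Type*} [Field L] {V : Type*} [AddCommGroup V] [Module L V] [FiniteDimensional L V] {r : ℕ}

namespace Flat

variable (P : Flat L V r 2)

/-- The line of two letters. -/
noncomputable def line (i j : Fin r) : Submodule L V := P.F {i, j}

theorem line_symm (i j : Fin r) : P.line i j = P.line j i := by rw [line, line, Finset.pair_comm]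

theorem finrank_line {i j : Fin r} (h : i ≠ j) : finrank L (P.line i j) = 1 := by
  have hc := Finset.card_pair h
  have hd := P.dim {i, j} (by omega) (by omega)
  rw [hc] at hd
  exact Nat.succ_injective hd

theorem plane_eq {a b c : Fin r} (hab : a ≠ b) (hac : a ≠ c) (hbc : b ≠ c) :
    P.F {a, b, c} = P.line a b ⊔ P.line c b := by
  have hc := Finset.card_pair hab
  have h := P.join {a, b} c a (by omega) (by omega) (by simp [hac.symm, hbc.symm]) (by simp)
  rw [Finset.erase_insert (by simp [hab]), show insert c ({a, b} : Finset (Fin r)) = {a, b, c} by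
    ext; simp; tauto] at h
  exact h

theorem finrank_plane {a b c : Fin r} (hab : a ≠ b) (hac : a ≠ c) (hbc : b ≠ c) : finrank L (P.F {a, b, c}) = 2 := by
  have hc : ({a, b, c} : Finset (Fin r)).card = 3 := Finset.card_eq_three.2 ⟨a, b, c, hab, hac, hbc, rfl⟩
  have := P.dim {a, b, c} (by omega) (by omega)
  omega

/-- Two lines through a letter are different. -/
theorem line_inf {a b c : Fin r} (hab : a ≠ b) (hac : a ≠ c) (hbc : b ≠ c) : P.line a b ⊓ P.line c b = ⊥ := by
  have h := Submodule.finrank_sup_add_finrank_inf_eq (P.line a b) (P.line c b)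
  rw [← P.plane_eq hab hac hbc, P.finrank_plane hab hac hbc, P.finrank_line hab, P.finrank_line hbc.symm] at h
  exact Submodule.finrank_eq_zero.1 (by omega)

/-- Two planes through a line meet in it. -/
theorem plane_inf {a b i j : Fin r} (hab : a ≠ b) (hai : a ≠ i) (haj : a ≠ j) (hbi : b ≠ i) (hbj : b ≠ j)
    (hij : i ≠ j) : P.F {a, i, j} ⊓ P.F {b, i, j} = P.line i j := by
  have h := Submodule.finrank_sup_add_finrank_inf_eq (P.F {a, i, j}) (P.F {b, i, j})
  have hc : ({a, i, j} : Finset (Fin r)).card = 3 := Finset.card_eq_three.2 ⟨a, i, j, hai, haj, hij, rfl⟩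
  have hj := P.join {a, i, j} b a (by omega) (by omega) (by simp [hab.symm, hbi, hbj]) (by simp)
  rw [Finset.erase_insert (by simp [hai, haj])] at hj
  rw [← hj, P.finrank_plane hai haj hij, P.finrank_plane hbi hbj hij] at h
  have hb : b ∉ ({a, i, j} : Finset (Fin r)) := by simp [hab.symm, hbi, hbj]
  have hd := P.dim (insert b {a, i, j}) (by rw [Finset.card_insert_of_notMem hb]; omega)
    (by rw [Finset.card_insert_of_notMem hb]; omega)
  rw [Finset.card_insert_of_notMem hb, hc] at hd
  refine (Submodule.eq_of_le_of_finrank_eq (le_inf ?_ ?_) (by rw [P.finrank_line hij]; omega)).symm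
  · have := P.le_insert (S := {i, j}) (q := a) (by rw [Finset.card_pair hij]) (by rw [Finset.card_pair hij]; omega)
      (by simp [hai, haj]) ⟨i, by simp⟩
    exact this
  · have := P.le_insert (S := {i, j}) (q := b) (by rw [Finset.card_pair hij]) (by rw [Finset.card_pair hij]; omega)
      (by simp [hbi, hbj]) ⟨i, by simp⟩
    exact this

include P in
/-- The characteristic divides the number of letters. -/
theorem char_dvd (hr : 6 ≤ r) (hn : finrank L V + 2 ≤ r) : (r : L) = 0 := by
  classical
  let o : Fin r := ⟨0, by omega⟩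
  let e : Fin r := ⟨1, by omega⟩
  have hoe : o ≠ e := by simp [o, e, Fin.ext_iff]
  obtain ⟨ve, hve, hve0⟩ := Submodule.exists_mem_ne_zero_of_ne_bot (p := P.line o e) fun h => by
    have := P.finrank_line hoe
    rw [h, finrank_bot] at this
    omega
  have hex : ∀ i : Fin r, ∃ u : V, (i = o → u = 0) ∧ (i = e → u = ve) ∧
      (i ≠ o → i ≠ e → u ∈ P.line o i ∧ ve - u ∈ P.line e i) := fun i => by
    by_cases hio : i = o
    · exact ⟨0, fun _ => rfl, fun h => absurd (hio.symm.trans h) hoe, fun h => absurd hio h⟩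
    by_cases hie : i = e
    · exact ⟨ve, fun h => absurd h hio, fun _ => rfl, fun _ h => absurd hie h⟩
    have hmem : ve ∈ P.line o i ⊔ P.line e i := by
      rw [← P.plane_eq (Ne.symm hio) hoe hie]
      have h : P.line o e ≤ P.F {o, i, e} := by
        rw [show ({o, i, e} : Finset (Fin r)) = {o, e, i} by ext; simp; tauto, P.plane_eq hoe (Ne.symm hio) (Ne.symm hie)]
        exact le_sup_left
      exact h hve
    obtain ⟨u, hu, w, hw, huw⟩ := Submodule.mem_sup.1 hmem
    exact ⟨u, fun h => absurd h hio, fun h => absurd h hie, fun _ _ => ⟨hu, by rwa [← huw, add_sub_cancel_left]⟩⟩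
  choose v hvo hve' hv using hex
  have hv0 : v o = 0 := hvo o rfl
  have hv1 : v e = ve := hve' e rfl
  have hline0 : ∀ i, i ≠ o → v i ∈ P.line o i := fun i hi => by
    by_cases hie : i = e
    · rw [hie, hv1]; exact hve
    · exact (hv i hi hie).1
  have hline1 : ∀ i, i ≠ e → v i - ve ∈ P.line e i := fun i hi => by
    by_cases hio : i = o
    · rw [hio, hv0, zero_sub, line_symm]; exact neg_mem hve
    · rw [← neg_sub]; exact neg_mem (hv i hio hi).2
  have hdiff : ∀ i j, i ≠ j → v i - v j ∈ P.line i j := by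
    intro i j hij
    by_cases hio : i = o
    · subst hio; rw [hv0, zero_sub]; exact neg_mem (hline0 j hij.symm)
    by_cases hjo : j = o
    · subst hjo; rw [hv0, sub_zero, line_symm]; exact hline0 i hio
    by_cases hie : i = e
    · subst hie; rw [hv1, ← neg_sub]; exact neg_mem (hline1 j hij.symm)
    by_cases hje : j = e
    · subst hje; rw [hv1, line_symm]; exact hline1 i hie
    rw [← P.plane_inf hoe (Ne.symm hio) (Ne.symm hjo) (Ne.symm hie) (Ne.symm hje) hij]
    refine ⟨?_, ?_⟩
    · rw [SetLike.mem_coe, P.plane_eq (Ne.symm hio) (Ne.symm hjo) hij, line_symm P j i]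
      have h1 : P.line o j ≤ P.line o i ⊔ P.line i j := by
        rw [line_symm P i j, ← P.plane_eq (Ne.symm hio) (Ne.symm hjo) hij,
          show ({o, i, j} : Finset (Fin r)) = {o, j, i} by ext; simp; tauto, P.plane_eq (Ne.symm hjo) (Ne.symm hio) (Ne.symm hij)]
        exact le_sup_left
      exact sub_mem (Submodule.mem_sup_left (hline0 i hio)) (h1 (hline0 j hjo))
    · rw [SetLike.mem_coe, P.plane_eq (Ne.symm hie) (Ne.symm hje) hij, line_symm P j i]
      have h1 : P.line e j ≤ P.line e i ⊔ P.line i j := by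
        rw [line_symm P i j, ← P.plane_eq (Ne.symm hie) (Ne.symm hje) hij,
          show ({e, i, j} : Finset (Fin r)) = {e, j, i} by ext; simp; tauto, P.plane_eq (Ne.symm hje) (Ne.symm hie) (Ne.symm hij)]
        exact le_sup_left
      rw [show v i - v j = (v i - ve) - (v j - ve) by abel]
      exact sub_mem (Submodule.mem_sup_left (hline1 i hie)) (h1 (hline1 j hje))
  have hne : ∀ i, i ≠ o → v i ≠ 0 := fun i hi h0 => by
    by_cases hie : i = e
    · exact hve0 (by rw [← hv1, ← hie, h0])
    · refine hve0 ((Submodule.eq_bot_iff _).1 (P.line_inf hoe (Ne.symm hi) (Ne.symm hie)) ve ⟨hve, ?_⟩)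
      have h := (hv i hi hie).2
      rw [h0, sub_zero] at h
      show ve ∈ P.line i e
      rwa [line_symm]
  have hvne : ∀ i j, i ≠ j → v i ≠ v j := fun i j hij h => by
    by_cases hio : i = o
    · subst hio; exact hne j hij.symm (h.symm.trans hv0)
    by_cases hjo : j = o
    · subst hjo; exact hne i hio (h.trans hv0)
    refine hne i hio ((Submodule.eq_bot_iff _).1 (P.line_inf hio hij (Ne.symm hjo)) _ ⟨?_, ?_⟩)
    · rw [SetLike.mem_coe, line_symm]; exact hline0 i hio
    · rw [h, SetLike.mem_coe, line_symm]; exact hline0 j hjo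
  -- the relations are invariant
  set Φ : (Fin r → L) →ₗ[L] V := Fintype.linearCombination L v with hΦ
  have hΦa : ∀ c, Φ c = ∑ i, c i • v i := fun c => Fintype.linearCombination_apply L v c
  have hinv : ∀ (σ : Alt r) (c : Fin r → L), ∑ i, c i = 0 → Φ c = 0 → Φ (c ∘ σ.1) = 0 := by
    intro σ c hc hc'
    obtain ⟨y, hy, hF⟩ := P.equivariant σ
    let h : Fin r → V := fun i => y (v (σ.1⁻¹ i)) - y (v (σ.1⁻¹ o))
    have hh : ∀ i j, i ≠ j → h i - h j ∈ P.line i j := fun i j hij => by
      show y (v (σ.1⁻¹ i)) - y (v (σ.1⁻¹ o)) - (y (v (σ.1⁻¹ j)) - y (v (σ.1⁻¹ o))) ∈ _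
      rw [sub_sub_sub_cancel_right, ← map_sub]
      have hne' : σ.1⁻¹ i ≠ σ.1⁻¹ j := (σ.1⁻¹).injective.ne hij
      have := hF {σ.1⁻¹ i, σ.1⁻¹ j} (Finset.card_pair hne').ge (by rw [Finset.card_pair hne']; omega)
      rw [Finset.map_insert, Finset.map_singleton] at this
      simp only [Equiv.coe_toEmbedding, Equiv.Perm.inv_def, Equiv.apply_symm_apply] at this
      rw [line, ← this]
      exact ⟨_, hdiff _ _ hne', rfl⟩
    have hho : h o = 0 := sub_self _
    obtain ⟨lam, hlam⟩ : ∃ lam : L, h e = lam • ve := by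
      have h1 : h e ∈ P.line o e := by
        have := hh e o hoe.symm
        rwa [hho, sub_zero, line_symm] at this
      obtain ⟨⟨w, hw⟩, hwne, hsp⟩ := finrank_eq_one_iff'.1 (P.finrank_line hoe)
      obtain ⟨a, ha⟩ := hsp ⟨ve, hve⟩
      obtain ⟨b, hb⟩ := hsp ⟨h e, h1⟩
      have ha' : a • w = ve := congrArg Subtype.val ha
      have hb' : b • w = h e := congrArg Subtype.val hb
      have ha0 : a ≠ 0 := fun h0 => hve0 (by rw [← ha', h0, zero_smul])
      exact ⟨b * a⁻¹, by rw [← hb', ← ha', smul_smul, inv_mul_cancel_right₀ ha0]⟩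
    have key : ∀ i, h i = lam • v i := fun i => by
      by_cases hio : i = o
      · rw [hio, hho, hv0, smul_zero]
      by_cases hie : i = e
      · rw [hie, hlam, hv1]
      have a1 : h i - lam • v i ∈ P.line o i := by
        refine sub_mem ?_ (Submodule.smul_mem _ _ (hline0 i hio))
        have := hh i o hio
        rwa [hho, sub_zero, line_symm] at this
      have a2 : h i - lam • v i ∈ P.line e i := by
        have := hh i e hie
        rw [line_symm, hlam] at this
        rw [show h i - lam • v i = (h i - lam • ve) - lam • (v i - ve) by rw [smul_sub]; abel]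
        exact sub_mem this (Submodule.smul_mem _ _ (hline1 i hie))
      exact sub_eq_zero.1 ((Submodule.eq_bot_iff _).1 (P.line_inf (Ne.symm hio) hoe (Ne.symm (Ne.symm hie))) _ ⟨a1, a2⟩)
    refine hy ?_
    rw [map_zero, hΦa, map_sum]
    simp only [map_smul, Function.comp_apply]
    calc ∑ i, c (σ.1 i) • y (v i) = ∑ i, c i • y (v (σ.1⁻¹ i)) := by
          refine Fintype.sum_equiv σ.1 _ _ fun i => ?_
          simp
      _ = ∑ i, c i • h i := by
          simp only [h, smul_sub, Finset.sum_sub_distrib, ← Finset.sum_smul, hc, zero_smul, sub_zero]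
      _ = lam • Φ c := by
          rw [hΦa, Finset.smul_sum]
          exact Finset.sum_congr rfl fun i _ => by rw [key i, smul_comm]
      _ = 0 := by rw [hc', smul_zero]
  -- a relation exists
  let sm : (Fin r → L) →ₗ[L] L := Fintype.linearCombination L (fun _ : Fin r => (1 : L))
  have hsm : ∀ c, sm c = ∑ i, c i := fun c => by simp [sm, Fintype.linearCombination_apply]
  obtain ⟨c, hcmem, hc0⟩ := Submodule.exists_mem_ne_zero_of_ne_bot
    (p := LinearMap.ker (Φ.prod sm)) fun hker => by
      have := LinearMap.finrank_le_finrank_of_injective (LinearMap.ker_eq_bot.1 hker)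
      rw [finrank_prod, finrank_self, Module.finrank_fin_fun] at this
      omega
  rw [LinearMap.mem_ker, LinearMap.prod_apply, Prod.ext_iff] at hcmem
  change Φ c = 0 ∧ sm c = 0 at hcmem
  rw [hsm] at hcmem
  -- it is constant
  have hconst : ∀ a b, c a = c b := by
    intro a b
    by_contra hab'
    have hab : a ≠ b := fun h => hab' (h ▸ rfl)
    obtain ⟨d, hd⟩ : ∃ d, d ∉ ({a, b} : Finset (Fin r)) := by
      by_contra hcon
      push Not at hcon
      have := Finset.card_le_card (show (Finset.univ : Finset (Fin r)) ⊆ {a, b} from fun x _ => hcon x)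
      rw [Finset.card_univ, Fintype.card_fin, Finset.card_pair hab] at this
      omega
    simp only [Finset.mem_insert, Finset.mem_singleton, not_or] at hd
    let σ : Alt r := ⟨Equiv.swap a d * Equiv.swap a b, Equiv.Perm.mem_alternatingGroup.2 (by
      rw [map_mul, Equiv.Perm.sign_swap (Ne.symm hd.1), Equiv.Perm.sign_swap hab]; rfl)⟩
    have h1 := hinv σ c hcmem.2 hcmem.1
    have h2 : Φ (c - c ∘ σ.1) = 0 := by rw [map_sub, hcmem.1, h1, sub_zero]
    have σa : σ.1 a = b := by simp [σ, Equiv.swap_apply_of_ne_of_ne hab.symm (Ne.symm hd.2)]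
    have σb : σ.1 b = d := by simp [σ]
    have σd : σ.1 d = a := by simp [σ, Equiv.swap_apply_of_ne_of_ne hd.1 hd.2]
    have σx : ∀ x, x ≠ a → x ≠ b → x ≠ d → σ.1 x = x := fun x h1 h2 h3 => by
      simp [σ, Equiv.swap_apply_of_ne_of_ne h1 h2, Equiv.swap_apply_of_ne_of_ne h1 h3]
    rw [hΦa, ← Finset.sum_subset (Finset.subset_univ ({a, b, d} : Finset (Fin r))) fun x _ hx => by
      simp only [Finset.mem_insert, Finset.mem_singleton, not_or] at hx
      simp [σx x hx.1 hx.2.1 hx.2.2]] at h2
    rw [Finset.sum_insert (by simp [hab, Ne.symm hd.1]), Finset.sum_insert (by simp [Ne.symm hd.2]),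
      Finset.sum_singleton] at h2
    simp only [Pi.sub_apply, Function.comp_apply, σa, σb, σd] at h2
    have h3 : (c a - c b) • (v a - v d) + (c b - c d) • (v b - v d) = 0 := by
      rw [← h2]
      simp only [smul_sub, sub_smul]
      abel
    have h4 : (c a - c b) • (v a - v d) = 0 :=
      (Submodule.eq_bot_iff _).1 (P.line_inf (Ne.symm hd.1) hab hd.2) _
        ⟨Submodule.smul_mem _ _ (hdiff a d (Ne.symm hd.1)), by
          rw [SetLike.mem_coe, eq_neg_of_add_eq_zero_left h3]
          exact neg_mem (Submodule.smul_mem _ _ (hdiff b d (Ne.symm hd.2)))⟩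
    rcases smul_eq_zero.1 h4 with h | h
    · exact hab' (sub_eq_zero.1 h)
    · exact hvne a d (Ne.symm hd.1) (sub_eq_zero.1 h)
  have hco : c o ≠ 0 := fun h => hc0 (funext fun i => by rw [hconst i o, h]; rfl)
  have hs := hcmem.2
  rw [Finset.sum_congr rfl fun i _ => hconst i o, Finset.sum_const, Finset.card_univ, Fintype.card_fin,
    nsmul_eq_mul] at hs
  exact (mul_eq_zero.1 hs).resolve_right hco

end Flat

end Cfsg.Lib.Linear.AltDeg
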