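import Cfsg.Agent.Lib.Linear.AltDeg.Pairs

/-!
# An elementary abelian group of order eight normalised by an element of order seven
-/

set_option autoImplicit false

namespace Cfsg.Lib.Linear.AltDeg

open Module Equiv

namespace Elts

/-- Translations and a linear map of the space of eight letters. -/
def e1 : Alt 8 := ⟨swap 0 1 * swap 2 3 * swap 4 5 * swap 6 7, Perm.mem_alternatingGroup.2 (by decide)⟩

@[inherit_doc e1]
def e2 : Alt 8 := ⟨swap 0 2 * swap 1 3 * swap 4 6 * swap 5 7, Perm.mem_alternatingGroup.2 (by decide)⟩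

@[inherit_doc e1]
def e3 : Alt 8 := ⟨swap 0 4 * swap 1 5 * swap 2 6 * swap 3 7, Perm.mem_alternatingGroup.2 (by decide)⟩

@[inherit_doc e1]
def g7 : Alt 8 := ⟨⟨![0, 2, 4, 6, 3, 1, 7, 5], ![0, 5, 1, 4, 2, 7, 3, 6], by decide, by decide⟩,
  Perm.mem_alternatingGroup.2 (by decide)⟩

theorem conj8 : g7 * e1 * g7⁻¹ = e2 ∧ g7 * e2 * g7⁻¹ = e3 ∧ g7 * e3 * g7⁻¹ = e1 * e2 ∧
    e1 * e1 = 1 ∧ e1 ≠ 1 ∧ Commute e1 e2 ∧ Commute e1 e3 ∧ Commute e2 e3 := by
  refine ⟨?_, ?_, ?_, ?_, ?_, ?_, ?_, ?_⟩ <;> first | decide | (show _ * _ = _ * _; decide)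

/-- The action of the linear map on characters, twisted by a sign. -/
def A8 (ε : ZMod 2) (w : ZMod 2 × ZMod 2 × ZMod 2) : ZMod 2 × ZMod 2 × ZMod 2 := (w.2.1, w.2.2, ε + (w.1 + w.2.1))

theorem closure8 : ∀ (ε : ZMod 2) (w : ZMod 2 × ZMod 2 × ZMod 2), w.1 ≠ ε ∨ w.2.1 ≠ ε ∨ w.2.2 ≠ ε → 7 ≤
    ((fun S : Finset (ZMod 2 × ZMod 2 × ZMod 2) => S ∪ S.image (A8 ε) ∪ S.image (A8 ε))^[6] {w}).card := by
  decide +kernel

end Elts

open Elts

namespace PRep

variable {L : Type*} [Field L] {V : Type*} [AddCommGroup V] [Module L V] {r : ℕ}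

/-- A lift of an involution squaring to one. -/
theorem exists_lift_sq [IsAlgClosed L] (R : PRep L V r) {a : Alt r} (ha : a * a = 1) :
    ∃ x, R.IsLift a x ∧ x * x = 1 := by
  obtain ⟨c, hc, h⟩ := (((R.isLift_rho a).mul (R.isLift_rho a)).congr ha).eq_scalar
  obtain ⟨d, hd⟩ := IsAlgClosed.exists_eq_mul_self c⁻¹
  refine ⟨d • R.ρ a, (R.isLift_rho a).smul (fun e => ?_), ?_⟩
  · rw [e, mul_zero] at hd; exact inv_ne_zero hc hd
  · rw [smul_mul_smul_comm, h, smul_smul, ← hd, inv_mul_cancel₀ hc, one_smul]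

/-- From eight letters on, the degree is at least seven away from characteristic two. -/
theorem seven_le [IsAlgClosed L] [FiniteDimensional L V] (R : PRep L V r) (hr : 8 ≤ r) (h2 : (2 : L) ≠ 0) :
    7 ≤ finrank L V := by
  by_contra hn
  haveI : Nontrivial V := R.nontrivial (by omega)
  let e : Fin 8 ↪ Fin r := Fin.castLEEmb hr
  obtain ⟨c1, c2, c3, s1, ne1, k12, k13, k23⟩ := conj8
  obtain ⟨x1, hx1, q1⟩ := R.exists_lift_sq (a := emb e e1) (by rw [← map_mul, s1, map_one])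
  obtain ⟨z', hz', hzz', hz'z⟩ := (R.isLift_rho (emb e g7)).exists_inv
  set z := R.ρ (emb e g7) with hz
  set C : End L V → End L V := fun x => z * x * z' with hC
  have Cmul : ∀ x y, C x * C y = C (x * y) := fun x y => by
    simp only [hC, mul_assoc, ← mul_assoc z' z, hz'z, one_mul]
  have Csmul : ∀ (a : L) x, C (a • x) = a • C x := fun a x => by simp only [hC, mul_smul_comm, smul_mul_assoc]
  have C1 : C 1 = 1 := by simp only [hC, mul_one, hzz']
  have Cint : ∀ x, z * x = C x * z := fun x => by simp only [hC, mul_assoc, hz'z, mul_one]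
  have hl : ∀ (u w : Alt 8) x, g7 * u * g7⁻¹ = w → R.IsLift (emb e u) x → R.IsLift (emb e w) (C x) :=
    fun u w x h hx => (((R.isLift_rho _).mul hx).mul hz').congr (by rw [← map_inv, ← map_mul, ← map_mul, h])
  obtain ⟨x2, hx2d⟩ : ∃ x2, x2 = C x1 := ⟨_, rfl⟩
  obtain ⟨x3, hx3d⟩ : ∃ x3, x3 = C x2 := ⟨_, rfl⟩
  have hx2 : R.IsLift (emb e e2) x2 := hx2d ▸ hl _ _ _ c1 hx1
  have hx3 : R.IsLift (emb e e3) x3 := hx3d ▸ hl _ _ _ c2 hx2
  have q2 : x2 * x2 = 1 := by rw [hx2d, Cmul, q1, C1]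
  have q3 : x3 * x3 = 1 := by rw [hx3d, Cmul, q2, C1]
  obtain ⟨γ, hγ, h3⟩ := ((hx1.mul hx2).congr (map_mul (emb e) e1 e2).symm).exists_smul (hl _ _ _ c3 hx3)
  obtain ⟨a, ha, h12⟩ := R.exists_comm hx1 hx2 (k12.map (emb e))
  obtain ⟨b, hb, h13⟩ := R.exists_comm hx1 hx3 (k13.map (emb e))
  have inj : ∀ {x : End L V} {s t : L}, Function.Injective x → s • x = t • x → s = t := fun {x s t} hx h => by
    obtain ⟨v, hv⟩ := exists_ne (0 : V)
    refine smul_left_injective L (fun e0 => hv (hx ?_)) h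
    rw [e0, map_zero]; rfl
  have h23 : x2 * x3 = a • (x3 * x2) := by rw [hx3d]; nth_rw 1 [hx2d]; rw [Cmul, h12, Csmul, ← Cmul, ← hx2d]
  have e13 : C (x1 * x3) = b • C (x3 * x1) := by rw [h13, Csmul]
  rw [← Cmul x1 x3, ← Cmul x3 x1, ← hx2d, h3, mul_smul_comm, smul_mul_assoc, smul_smul, ← mul_assoc] at e13
  have h21 : x2 * x1 = a⁻¹ • (x1 * x2) := by rw [h12, smul_smul, inv_mul_cancel₀ ha, one_smul]
  rw [h21, smul_mul_assoc, mul_assoc, q2, mul_one, smul_smul] at e13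
  have hab : γ * a⁻¹ = b * γ := inj hx1.injective e13
  have e23 : C (x2 * x3) = a • C (x3 * x2) := by rw [h23, Csmul]
  rw [← Cmul x2 x3, ← Cmul x3 x2, ← hx3d, h3, mul_smul_comm, smul_mul_assoc, smul_smul, mul_assoc x1, h23, mul_smul_comm,
    ← mul_assoc x1, h13, smul_mul_assoc, smul_smul, smul_smul, mul_assoc x3] at e23
  have hab2 : γ = a * γ * (a * b) := (inj ((hx3.mul (hx1.mul hx2)).injective) e23).trans (by ring)
  have hba : b = a⁻¹ := mul_right_cancel₀ hγ (hab.symm.trans (mul_comm γ a⁻¹))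
  have ha1 : a = 1 := by
    rw [hba, mul_inv_cancel₀ ha, mul_one] at hab2
    exact mul_right_cancel₀ hγ (hab2.symm.trans (one_mul γ).symm)
  have hb1 : b = 1 := by rw [hba, ha1, inv_one]
  rw [ha1, one_smul] at h12 h23
  rw [hb1, one_smul] at h13
  have hγ2 : γ ^ 2 = 1 := by
    have := Cmul x3 x3
    rw [q3, C1, h3, smul_mul_smul_comm] at this
    rw [show x1 * x2 * (x1 * x2) = 1 by rw [mul_assoc, ← mul_assoc x2, ← h12, mul_assoc x1, q2, mul_one, q1]] at this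
    rw [sq]
    exact smul_one_inj (this.trans (one_smul L _).symm)
  have hm : ((2 : ℕ) : L) ≠ 0 := by exact_mod_cast h2
  obtain ⟨ζ, hζ⟩ := exists_zeta (L := L) 2 hm
  obtain ⟨i, hi, hζi⟩ := hζ.eq_pow_of_pow_eq_one hγ2
  let ε : ZMod 2 := (i : ZMod 2)
  have hε : rootPow ζ ε = γ := by rw [rootPow, ZMod.val_cast_of_lt hi, hζi]
  have p1 : x1 ^ 2 = 1 := by rw [sq, q1]
  have p2 : x2 ^ 2 = 1 := by rw [sq, q2]
  have p3 : x3 ^ 2 = 1 := by rw [sq, q3]
  have hzs := (R.isLift_rho (emb e g7)).surjective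
  have hzi := (R.isLift_rho (emb e g7)).injective
  have hA : ∀ w, Occurs ζ x1 x2 x3 w → Occurs ζ x1 x2 x3 (A8 ε w) := by
    rintro w ⟨v, hv0, w1, w2, w3⟩
    obtain ⟨u, rfl⟩ := hzs v
    refine ⟨u, fun e0 => hv0 (by rw [e0, map_zero]), eigen_pull hzi (Cint x1) rfl (hx2d ▸ w2),
      eigen_pull hzi (Cint x2) rfl (hx3d ▸ w3), eigen_pull hzi (Cint x3) rfl ?_⟩
    show C x3 _ = rootPow ζ (ε + (w.1 + w.2.1)) • _
    rw [h3, LinearMap.smul_apply, End.mul_apply, w2, map_smul, w1, smul_smul, smul_smul, rootPow_add hζ,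
      rootPow_add hζ, hε]
    congr 1
    ring
  have hall : ∀ (v : V) (a' : ZMod 2), a' ≠ ε → proj ζ x1 a' v = 0 := fun v a' ha' => by
    by_contra hv
    obtain ⟨b', c', hw⟩ := exists_occurs hζ hm p2 p3 h12 h13 h23 hv (proj_eigen hζ p1 a' v)
    exact hn (le_trans (closure8 ε (a', b', c') (Or.inl ha')) (card_closure_le_finrank hζ hm hA hA hw 6))
  refine ne1 (emb_injective e ((IsLift.eq_one hx1 (c := rootPow ζ ε) (LinearMap.ext fun v => ?_)).trans
    (map_one _).symm))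
  have hv : v = proj ζ x1 ε v := by
    conv_lhs => rw [← proj_sum (x := x1) hζ hm v]
    exact Finset.sum_eq_single ε (fun a' _ h => hall v a' h) (by simp)
  rw [hv, proj_eigen hζ p1]
  rfl

end PRep

end Cfsg.Lib.Linear.AltDeg
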