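import Mathlib.GroupTheory.SpecificGroups.Alternating.Simple
import Mathlib.GroupTheory.Perm.ViaEmbedding
import Mathlib.Logic.Equiv.Fintype

/-!
# Alternating groups on fewer letters inside alternating groups
-/

set_option autoImplicit false

namespace Cfsg.Lib.Linear.AltDeg

open Equiv

/-- The alternating group on `Fin r`. -/
abbrev Alt (r : ℕ) : Subgroup (Perm (Fin r)) := alternatingGroup (Fin r)

variable {k m r : ℕ}

theorem sign_viaEmbedding (f : Fin k ↪ Fin r) (e : Perm (Fin k)) :
    Perm.sign (e.viaEmbedding f) = Perm.sign e := by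
  classical
  unfold Perm.viaEmbedding
  convert Perm.sign_extendDomain e _

/-- The inclusion along an injection of the letters. -/
noncomputable def emb (f : Fin k ↪ Fin r) : Alt k →* Alt r where
  toFun a := ⟨Perm.viaEmbedding a.1 f, Perm.mem_alternatingGroup.2 (by
    rw [sign_viaEmbedding]; exact Perm.mem_alternatingGroup.1 a.2)⟩
  map_one' := Subtype.ext (map_one (Perm.viaEmbeddingHom f))
  map_mul' a b := Subtype.ext (map_mul (Perm.viaEmbeddingHom f) a.1 b.1)

theorem emb_injective (f : Fin k ↪ Fin r) : Function.Injective (emb f) := fun _ _ h =>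
  Subtype.ext (Perm.viaEmbeddingHom_injective f (congrArg Subtype.val h))

theorem emb_apply (f : Fin k ↪ Fin r) (a : Alt k) (i : Fin k) : (emb f a).1 (f i) = f (a.1 i) :=
  Perm.viaEmbedding_apply a.1 f i

theorem emb_apply_of_notMem (f : Fin k ↪ Fin r) (a : Alt k) {x : Fin r} (hx : ∀ i, f i ≠ x) :
    (emb f a).1 x = x :=
  Perm.viaEmbedding_apply_of_notMem a.1 f x fun ⟨i, hi⟩ => hx i hi

/-- An element of `Alt r` with the right values is the included element. -/
theorem emb_eq (f : Fin k ↪ Fin r) (a : Alt k) (b : Alt r) (h1 : ∀ i, b.1 (f i) = f (a.1 i))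
    (h2 : ∀ x, (∀ i, f i ≠ x) → b.1 x = x) : emb f a = b := by
  refine Subtype.ext (Equiv.ext fun x => ?_)
  by_cases hx : ∀ i, f i ≠ x
  · rw [emb_apply_of_notMem f a hx, h2 x hx]
  · push Not at hx
    obtain ⟨i, rfl⟩ := hx
    rw [emb_apply, h1]

theorem emb_trans (f : Fin k ↪ Fin m) (g : Fin m ↪ Fin r) (a : Alt k) :
    emb g (emb f a) = emb (f.trans g) a := by
  refine (emb_eq (f.trans g) a _ (fun i => ?_) fun x hx => ?_).symm
  · show (emb g (emb f a)).1 (g (f i)) = g (f (a.1 i))
    rw [emb_apply, emb_apply]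
  · by_cases hy : ∀ j, g j ≠ x
    · exact emb_apply_of_notMem g _ hy
    · push Not at hy
      obtain ⟨j, rfl⟩ := hy
      rw [emb_apply, emb_apply_of_notMem f a fun i hi => hx i (by show g (f i) = g j; rw [hi])]

/-- The image of an injection under a permutation. -/
def move (σ : Alt r) (f : Fin k ↪ Fin r) : Fin k ↪ Fin r := f.trans σ.1.toEmbedding

@[simp] theorem move_apply (σ : Alt r) (f : Fin k ↪ Fin r) (i : Fin k) : move σ f i = σ.1 (f i) := rfl

theorem conj_emb (σ : Alt r) (f : Fin k ↪ Fin r) (a : Alt k) : σ * emb f a * σ⁻¹ = emb (move σ f) a := by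
  refine (emb_eq (move σ f) a _ (fun i => ?_) fun x hx => ?_).symm
  · show σ.1 ((emb f a).1 (σ.1⁻¹ (σ.1 (f i)))) = σ.1 (f (a.1 i))
    simp [emb_apply]
  · show σ.1 ((emb f a).1 (σ.1⁻¹ x)) = x
    rw [emb_apply_of_notMem f a fun i hi => hx i (by simp [hi]), ← Perm.mul_apply, mul_inv_cancel,
      Perm.one_apply]

theorem commute_of_disjoint (f : Fin k ↪ Fin r) (g : Fin m ↪ Fin r) (h : ∀ i j, f i ≠ g j) (a : Alt k)
    (b : Alt m) : Commute (emb f a) (emb g b) := by
  refine Subtype.ext (Perm.Disjoint.commute fun x => ?_).eq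
  by_cases hx : ∀ i, f i ≠ x
  · exact Or.inl (emb_apply_of_notMem f a hx)
  · push Not at hx
    obtain ⟨i, rfl⟩ := hx
    exact Or.inr (emb_apply_of_notMem g b fun j hj => h i j hj.symm)

/-- Even permutations are transitive on injections leaving two letters free. -/
theorem exists_move (f g : Fin k ↪ Fin r) (h : k + 2 ≤ r) : ∃ σ : Alt r, move σ f = g := by
  classical
  let e : {x // x ∈ Set.range f} ≃ {x // x ∈ Set.range g} :=
    (Equiv.ofInjective f f.injective).symm.trans (Equiv.ofInjective g g.injective)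
  have he : ∀ i, e.extendSubtype (f i) = g i := fun i => by
    rw [Equiv.extendSubtype_apply_of_mem e (f i) ⟨i, rfl⟩]
    show ((Equiv.ofInjective g g.injective) ((Equiv.ofInjective f f.injective).symm ⟨f i, _⟩) : Fin r) = g i
    rw [Equiv.ofInjective_symm_apply f.injective i]
    rfl
  rcases Int.units_eq_one_or (Perm.sign e.extendSubtype) with hs | hs
  · exact ⟨⟨_, Perm.mem_alternatingGroup.2 hs⟩, Function.Embedding.ext he⟩
  · have hc : 1 < (Finset.univ \ Finset.univ.map g).card := by
      rw [Finset.card_sdiff_of_subset (Finset.subset_univ _), Finset.card_map, Finset.card_univ, Finset.card_univ,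
        Fintype.card_fin, Fintype.card_fin]
      omega
    obtain ⟨u, hu, v, hv, huv⟩ := Finset.one_lt_card.1 hc
    simp only [Finset.mem_sdiff, Finset.mem_univ, true_and, Finset.mem_map, not_exists] at hu hv
    refine ⟨⟨Equiv.swap u v * e.extendSubtype, Perm.mem_alternatingGroup.2 ?_⟩, Function.Embedding.ext fun i => ?_⟩
    · rw [map_mul, Perm.sign_swap huv, hs]; rfl
    · show Equiv.swap u v (e.extendSubtype (f i)) = g i
      rw [he, Equiv.swap_apply_of_ne_of_ne (hu i) (hv i)]

/-- Perfectness. -/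
theorem hom_trivial {M : Type*} [CommGroup M] (hk : 5 ≤ k) (φ : Alt k →* M) (a : Alt k) : φ a = 1 := by
  have h : commutator (Alt k) ≤ φ.ker := by
    rw [commutator_def, Subgroup.commutator_le]
    intro x _ y _
    simp [MonoidHom.mem_ker, map_commutatorElement, commutatorElement_eq_one_iff_commute, Commute.all]
  rw [commutator_alternatingGroup_eq_top (by simpa using hk)] at h
  exact h (Subgroup.mem_top a)

/-- A normal subset containing a nontrivial element generates. -/
theorem eq_top_of_normal (hk : 5 ≤ k) (N : Subgroup (Alt k)) [hN : N.Normal] {a : Alt k} (ha : a ∈ N)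
    (ha1 : a ≠ 1) : N = ⊤ := by
  haveI : IsSimpleGroup (Alt k) := alternatingGroup.isSimpleGroup (by simpa using hk)
  exact hN.eq_bot_or_eq_top.resolve_left fun e => ha1 (by simpa [e] using ha)

end Cfsg.Lib.Linear.AltDeg
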