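import Cfsg.Agent.Lib.Linear.AltDeg.Chain
import Cfsg.Agent.Lib.Linear.AltDeg.Deleted

/-!
# The degree bound from a moved class
-/

set_option autoImplicit false

namespace Cfsg.Lib.Linear.AltDeg

open Module

variable {L : Type*} [Field L] {V : Type*} [AddCommGroup V] [Module L V] [FiniteDimensional L V] {c r : ℕ}

/-- The bound on the degree: `r - 2`, and `r - 1` unless the characteristic divides `r`. -/
def DegBound (L V : Type*) [Field L] [AddCommGroup V] [Module L V] (r : ℕ) : Prop :=
  r - 2 ≤ finrank L V ∧ ((r : L) ≠ 0 → r - 1 ≤ finrank L V)

theorem MovedClass.degBound {R : PRep L V r} (M : MovedClass R c) (hc : c = 3 ∨ c = 4) (hr : c + 6 ≤ r)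
    {T : Finset (Fin r)} (hT : T.card = c) (hD : c - 1 ≤ finrank L (M.span T)) : DegBound L V r := by
  classical
  obtain ⟨hlow, hex⟩ := M.finrank_bound (by omega) T hT hD
  refine ⟨hlow, fun hr0 => ?_⟩
  by_contra hn
  have hn' : finrank L V ≤ r - 2 := by omega
  have hdim := hex hn'
  let P4 : Flat L V r 4 :=
    { F := M.span
      equivariant := fun σ => ⟨R.ρ σ, (R.isLift_rho σ).injective, fun S _ _ => M.map_span (R.isLift_rho σ) S⟩
      dim := fun S h1 h2 => hdim S (by omega) (by omega)
      join := fun S q r0 h1 _ hq hr0 => M.span_insert (by omega) hq hr0
      noinv := fun U hU => by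
        rcases hc with rfl | rfl
        · refine M.eq_bot_of_le (by omega) fun A hA => ?_
          obtain ⟨a, ha, b, hb, hab⟩ := Finset.one_lt_card.1 (show 1 < (Aᶜ : Finset (Fin r)).card by
            rw [Finset.card_compl, Fintype.card_fin]; omega)
          rw [Finset.mem_compl] at ha hb
          have hb' : b ∉ insert a A := by simp [hab.symm, hb]
          have ca : (insert a A).card = 4 := by rw [Finset.card_insert_of_notMem ha, hA]
          have cb : (insert b A).card = 4 := by rw [Finset.card_insert_of_notMem hb, hA]
          have hj := M.span_insert (S := insert a A) (by omega) hb' (Finset.mem_insert_self a A)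
          rw [Finset.erase_insert ha] at hj
          have h := Submodule.finrank_sup_add_finrank_inf_eq (M.span (insert a A)) (M.span (insert b A))
          rw [← hj] at h
          have d1 := hdim (insert a A) (by omega) (by omega)
          have d2 := hdim (insert b A) (by omega) (by omega)
          have d3 := hdim (insert b (insert a A)) (by rw [Finset.card_insert_of_notMem hb']; omega)
            (by rw [Finset.card_insert_of_notMem hb']; omega)
          rw [Finset.card_insert_of_notMem hb'] at d3
          have d0 := hdim A (by omega) (by omega)
          have he : M.span A = M.span (insert a A) ⊓ M.span (insert b A) :=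
            Submodule.eq_of_le_of_finrank_eq (le_inf (M.span_mono (Finset.subset_insert _ _))
              (M.span_mono (Finset.subset_insert _ _))) (by omega)
          rw [he]
          exact le_inf (hU _ ca) (hU _ cb)
        · exact M.eq_bot_of_le (by omega) hU }
  exact hr0 ((((P4.descend (by omega) (by omega)).descend (by omega) (by omega)).char_dvd (by omega) (by omega)))

end Cfsg.Lib.Linear.AltDeg
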