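import Cfsg.Agent.Lib.Linear.AltDeg.Emb
import Mathlib.LinearAlgebra.FiniteDimensional.Lemmas
import Mathlib.LinearAlgebra.Dimension.Constructions

/-!
# The points and lines of the deleted permutation module
-/

set_option autoImplicit false

namespace Cfsg.Lib.Linear.AltDeg

open Module

variable {L : Type*} [Field L] {V : Type*} [AddCommGroup V] [Module L V] {r : ℕ}

/-- A family of subspaces indexed by sets of letters that looks like the sum-zero vectors on those letters, for
sets of `k`, `k + 1` and `k + 2` letters. -/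
structure Flat (L V : Type*) [Field L] [AddCommGroup V] [Module L V] (r k : ℕ) where
  /-- The subspace of a set of letters. -/
  F : Finset (Fin r) → Submodule L V
  equivariant : ∀ σ : Alt r, ∃ y : End L V, Function.Injective y ∧ ∀ S, k ≤ S.card → S.card ≤ k + 2 →
    (F S).map y = F (S.map σ.1.toEmbedding)
  dim : ∀ S : Finset (Fin r), k ≤ S.card → S.card ≤ k + 2 → finrank L (F S) + 1 = S.card
  join : ∀ (S : Finset (Fin r)) (q r0 : Fin r), k ≤ S.card → S.card ≤ k + 1 → q ∉ S → r0 ∈ S →
    F (insert q S) = F S ⊔ F (insert q (S.erase r0))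
  noinv : ∀ U : Submodule L V, (∀ S : Finset (Fin r), S.card = k → U ≤ F S) → U = ⊥

namespace Flat

variable [FiniteDimensional L V] {k : ℕ}

theorem le_insert (P : Flat L V r k) {S : Finset (Fin r)} (h1 : k ≤ S.card) (h2 : S.card ≤ k + 1) {q : Fin r}
    (hq : q ∉ S) (hne : S.Nonempty) : P.F S ≤ P.F (insert q S) := by
  obtain ⟨r0, hr0⟩ := hne
  rw [P.join S q r0 h1 h2 hq hr0]
  exact le_sup_left

theorem finrank_pair (P : Flat L V r (k + 1)) {S : Finset (Fin r)} (hS : S.card = k) {q q' : Fin r}
    (hq : q ∉ S) (hq' : q' ∉ S) (hne : q ≠ q') :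
    finrank L ↥(P.F (insert q S) ⊓ P.F (insert q' S)) + 1 = k ∧
      P.F (insert q S) ⊔ P.F (insert q' S) = P.F (insert q' (insert q S)) := by
  have hq1 : q' ∉ insert q S := by simp [hne.symm, hq']
  have c1 : (insert q S).card = k + 1 := by rw [Finset.card_insert_of_notMem hq, hS]
  have c2 : (insert q' S).card = k + 1 := by rw [Finset.card_insert_of_notMem hq', hS]
  have hj := P.join (insert q S) q' q c1.ge (by omega) hq1 (Finset.mem_insert_self _ _)
  rw [Finset.erase_insert hq] at hj
  refine ⟨?_, hj.symm⟩
  have h := Submodule.finrank_sup_add_finrank_inf_eq (P.F (insert q S)) (P.F (insert q' S))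
  rw [← hj] at h
  have d1 := P.dim _ c1.ge (by omega)
  have d2 := P.dim _ c2.ge (by omega)
  have d3 := P.dim (insert q' (insert q S)) (by rw [Finset.card_insert_of_notMem hq1]; omega)
    (by rw [Finset.card_insert_of_notMem hq1]; omega)
  rw [Finset.card_insert_of_notMem hq1] at d3
  omega

/-- Two of three subspaces determine their intersection. -/
theorem inf_eq_inf (P : Flat L V r (k + 1)) {S : Finset (Fin r)} (hS : S.card = k) {a b c : Fin r}
    (ha : a ∉ S) (hb : b ∉ S) (hc : c ∉ S) (hab : a ≠ b) (hac : a ≠ c) (hbc : b ≠ c) :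
    P.F (insert a S) ⊓ P.F (insert b S) = P.F (insert a S) ⊓ P.F (insert c S) := by
  by_contra hne
  obtain ⟨dab, sab⟩ := P.finrank_pair hS ha hb hab
  obtain ⟨dac, sac⟩ := P.finrank_pair hS ha hc hac
  obtain ⟨dcb, -⟩ := P.finrank_pair hS hc hb hbc.symm
  set A := P.F (insert a S)
  set B := P.F (insert b S)
  set C := P.F (insert c S)
  by_cases hcb : C ⊓ B = A ⊓ C
  · refine hne (Submodule.eq_of_le_of_finrank_eq ?_ (by omega)).symm
    exact le_inf inf_le_left (hcb ▸ inf_le_right)
  have hlt : A ⊓ C < (A ⊓ C) ⊔ (C ⊓ B) := lt_of_le_of_ne le_sup_left fun e =>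
    hcb (Submodule.eq_of_le_of_finrank_eq (e.symm ▸ le_sup_right) (by omega))
  have hC : C ≤ A ⊔ B := by
    have h1 : (A ⊓ C) ⊔ (C ⊓ B) = C := Submodule.eq_of_le_of_finrank_le (sup_le inf_le_right inf_le_left) (by
      have := Submodule.finrank_lt_finrank_of_lt hlt
      have d := P.dim (insert c S) (by rw [Finset.card_insert_of_notMem hc, hS]) (by
        rw [Finset.card_insert_of_notMem hc]; omega)
      rw [Finset.card_insert_of_notMem hc, hS] at d
      change finrank L C + 1 = k + 1 at d
      omega)
    rw [← h1]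
    exact sup_le_sup inf_le_left inf_le_right
  have hle : P.F (insert c (insert a S)) ≤ P.F (insert b (insert a S)) := by
    rw [← sac, ← sab]
    exact sup_le le_sup_left hC
  have hb1 : b ∉ insert a S := by simp [hab.symm, hb]
  have hc1 : c ∉ insert b (insert a S) := by simp [hbc.symm, hac.symm, hc]
  have c2 : (insert b (insert a S)).card = k + 2 := by
    rw [Finset.card_insert_of_notMem hb1, Finset.card_insert_of_notMem ha, hS]
  have hj := P.join (insert b (insert a S)) c b (by omega) (by omega) hc1 (Finset.mem_insert_self _ _)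
  rw [Finset.erase_insert hb1, sup_eq_left.2 hle] at hj
  have d1 := P.dim (insert b (insert a S)) (by omega) (by omega)
  have d2 := P.dim (insert c (insert b (insert a S))) (by rw [Finset.card_insert_of_notMem hc1]; omega)
    (by rw [Finset.card_insert_of_notMem hc1]; omega)
  rw [hj, Finset.card_insert_of_notMem hc1] at d2
  omega

/-- The subspace of a set with one letter fewer. -/
noncomputable def low (P : Flat L V r (k + 1)) (S : Finset (Fin r)) : Submodule L V :=
  if S.card = k then ⨅ (q : Fin r) (_ : q ∉ S), P.F (insert q S) else P.F S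

theorem low_eq (P : Flat L V r (k + 1)) {S : Finset (Fin r)} (hS : S.card = k) {a b : Fin r}
    (ha : a ∉ S) (hb : b ∉ S) (hab : a ≠ b) : P.low S = P.F (insert a S) ⊓ P.F (insert b S) := by
  rw [low, if_pos hS]
  refine le_antisymm (le_inf (iInf₂_le a ha) (iInf₂_le b hb)) (le_iInf₂ fun c hc => ?_)
  by_cases hca : c = a
  · rw [hca]; exact inf_le_left
  by_cases hcb : c = b
  · rw [hcb]; exact inf_le_right
  rw [P.inf_eq_inf hS ha hb hc hab (Ne.symm hca) (Ne.symm hcb)]
  exact inf_le_right

theorem low_of_ne (P : Flat L V r (k + 1)) {S : Finset (Fin r)} (hS : S.card ≠ k) : P.low S = P.F S := if_neg hS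

theorem exists_two {S : Finset (Fin r)} (h : S.card + 2 ≤ r) : ∃ a b, a ∉ S ∧ b ∉ S ∧ a ≠ b := by
  obtain ⟨a, ha, b, hb, hab⟩ := Finset.one_lt_card.1 (show 1 < (Sᶜ : Finset (Fin r)).card by
    rw [Finset.card_compl, Fintype.card_fin]; omega)
  exact ⟨a, b, Finset.mem_compl.1 ha, Finset.mem_compl.1 hb, hab⟩

/-- One step down. -/
noncomputable def descend (P : Flat L V r (k + 1)) (hk : 2 ≤ k) (hr : k + 5 ≤ r) : Flat L V r k where
  F := P.low
  equivariant σ := by
    obtain ⟨y, hy, hF⟩ := P.equivariant σ
    refine ⟨y, hy, fun S h1 h2 => ?_⟩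
    rcases h1.lt_or_eq with h | h
    · rw [P.low_of_ne (by omega), P.low_of_ne (by rw [Finset.card_map]; omega)]
      exact hF S (by omega) (by omega)
    · obtain ⟨a, b, ha, hb, hab⟩ := exists_two (S := S) (by omega)
      rw [P.low_eq h.symm ha hb hab, Submodule.map_inf _ hy,
        hF _ (by rw [Finset.card_insert_of_notMem ha]; omega) (by rw [Finset.card_insert_of_notMem ha]; omega),
        hF _ (by rw [Finset.card_insert_of_notMem hb]; omega) (by rw [Finset.card_insert_of_notMem hb]; omega),
        Finset.map_insert, Finset.map_insert,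
        P.low_eq (a := σ.1 a) (b := σ.1 b) (by rw [Finset.card_map]; exact h.symm) (by simp [ha]) (by simp [hb])
          (σ.1.injective.ne hab)]
      rfl
  dim S h1 h2 := by
    rcases h1.lt_or_eq with h | h
    · rw [P.low_of_ne (by omega)]
      exact P.dim S (by omega) (by omega)
    · obtain ⟨a, b, ha, hb, hab⟩ := exists_two (S := S) (by omega)
      rw [P.low_eq h.symm ha hb hab]
      have := (P.finrank_pair h.symm ha hb hab).1
      omega
  join S q r0 h1 h2 hq hr0 := by
    rcases h1.lt_or_eq with h | h
    · have c3 : (insert q (S.erase r0)).card = S.card := by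
        rw [Finset.card_insert_of_notMem (fun hh => hq (Finset.mem_of_mem_erase hh)), Finset.card_erase_of_mem hr0]
        omega
      rw [P.low_of_ne (S := S) (by omega), P.low_of_ne (S := insert q S) (by rw [Finset.card_insert_of_notMem hq]; omega),
        P.low_of_ne (S := insert q (S.erase r0)) (by omega)]
      exact P.join S q r0 (by omega) (by omega) hq hr0
    set T := insert q (S.erase r0) with hT
    have hTc : T.card = k := by
      rw [hT, Finset.card_insert_of_notMem (fun hh => hq (Finset.mem_of_mem_erase hh)), Finset.card_erase_of_mem hr0]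
      omega
    have hr0T : r0 ∉ T := by simp [hT]; rintro rfl; exact hq hr0
    have hins : insert r0 T = insert q S := by
      rw [hT, Finset.insert_comm, Finset.insert_erase hr0]
    have hlow : ∀ {A : Finset (Fin r)} {a : Fin r}, A.card = k → a ∉ A → P.low A ≤ P.F (insert a A) :=
      fun {A a} hA ha => by rw [low, if_pos hA]; exact iInf₂_le a ha
    have hle : P.low S ⊔ P.low T ≤ P.F (insert q S) := sup_le (hlow h.symm hq) (hins ▸ hlow hTc hr0T)
    rw [P.low_of_ne (by rw [Finset.card_insert_of_notMem hq]; omega)]
    refine (Submodule.eq_of_le_of_finrank_le hle ?_).symm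
    have dS : ∀ A : Finset (Fin r), A.card = k → finrank L (P.low A) + 1 = k := fun A hA => by
      obtain ⟨a, b, ha, hb, hab⟩ := exists_two (S := A) (by omega)
      rw [P.low_eq hA ha hb hab]
      exact (P.finrank_pair hA ha hb hab).1
    have dq := P.dim (insert q S) (by rw [Finset.card_insert_of_notMem hq]; omega)
      (by rw [Finset.card_insert_of_notMem hq]; omega)
    rw [Finset.card_insert_of_notMem hq] at dq
    suffices hne : P.low S ≠ P.low T by
      have h3 : P.low S < P.low S ⊔ P.low T := lt_of_le_of_ne le_sup_left fun e =>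
        hne (Submodule.eq_of_le_of_finrank_eq (e.symm ▸ le_sup_right) (by have := dS S h.symm; have := dS T hTc; omega)).symm
      have := Submodule.finrank_lt_finrank_of_lt h3
      have := dS S h.symm
      omega
    intro he
    -- all such subspaces would be equal
    have hall : ∀ (A : Finset (Fin r)) (a b : Fin r), A.card = k → a ∉ A → b ∈ A →
        P.low A = P.low (insert a (A.erase b)) := by
      intro A a b hA ha hb
      let mk : ∀ (B : Finset (Fin r)) (u v : Fin r), B.card = k → u ∉ B → v ∈ B →
          ∃ f : Fin (k + 1) ↪ Fin r, f 0 = u ∧ f 1 = v ∧ (Finset.univ.erase (0 : Fin (k + 1))).map f = B := by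
        intro B u v hB hu hv
        have hc' : (insert u B).card = k + 1 := by rw [Finset.card_insert_of_notMem hu, hB]
        let e := ((insert u B).orderEmbOfFin hc').toEmbedding
        have he : ∀ i, e i ∈ insert u B := Finset.orderEmbOfFin_mem _ _
        have hsw : ∀ (x y : Fin r), x ∈ insert u B → y ∈ insert u B → ∀ z ∈ insert u B, Equiv.swap x y z ∈ insert u B :=
          fun x y hx hy z hz => by rw [Equiv.swap_apply_def]; split_ifs <;> assumption
        let e1 := e.trans (Equiv.swap (e 0) u).toEmbedding
        have he1 : ∀ i, e1 i ∈ insert u B := fun i => hsw _ _ (he 0) (Finset.mem_insert_self _ _) _ (he i)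
        let e2 := e1.trans (Equiv.swap (e1 1) v).toEmbedding
        have he2 : ∀ i, e2 i ∈ insert u B := fun i => hsw _ _ (he1 1) (Finset.mem_insert_of_mem hv) _ (he1 i)
        have h10 : e1 0 = u := Equiv.swap_apply_left _ _
        have h01 : (0 : Fin (k + 1)) ≠ 1 := by simp only [ne_eq, Fin.ext_iff, Fin.val_zero, Fin.val_one']; rw [Nat.mod_eq_of_lt (by omega)]; omega
        have h20 : e2 0 = u := by
          show Equiv.swap (e1 1) v (e1 0) = u
          rw [Equiv.swap_apply_of_ne_of_ne (e1.injective.ne h01) (by rw [h10]; exact fun e => hu (e ▸ hv)), h10]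
        refine ⟨e2, h20, Equiv.swap_apply_left _ _, Finset.eq_of_subset_of_card_le (fun z hz => ?_) (by simp [hB])⟩
        obtain ⟨i, hi, rfl⟩ := Finset.mem_map.1 hz
        exact (Finset.mem_insert.1 (he2 i)).resolve_left fun e =>
          (Finset.mem_erase.1 hi).1 (e2.injective (e.trans h20.symm))
      obtain ⟨f, f0, f1, fS⟩ := mk S q r0 h.symm hq hr0
      obtain ⟨g, g0, g1, gA⟩ := mk A a b hA ha hb
      obtain ⟨σ, hσ⟩ := exists_move f g (by omega)
      have hmS : S.map σ.1.toEmbedding = A := by
        rw [← fS, Finset.map_map, ← gA]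
        exact congrArg (fun e => (Finset.univ.erase (0 : Fin (k + 1))).map e) hσ
      have hmT : T.map σ.1.toEmbedding = insert a (A.erase b) := by
        rw [hT, Finset.map_insert, Finset.map_erase, hmS]
        have e0 : σ.1.toEmbedding q = a := by rw [← g0, ← hσ, ← f0]; rfl
        have e1 : σ.1.toEmbedding r0 = b := by rw [← g1, ← hσ, ← f1]; rfl
        rw [e0, e1]
      obtain ⟨y, hy, hF⟩ := P.equivariant σ
      have hmap : ∀ B : Finset (Fin r), B.card = k → (P.low B).map y = P.low (B.map σ.1.toEmbedding) := fun B hB => by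
        obtain ⟨u, v, hu, hv, huv⟩ := exists_two (S := B) (by omega)
        rw [P.low_eq hB hu hv huv, Submodule.map_inf _ hy,
          hF _ (by rw [Finset.card_insert_of_notMem hu]; omega) (by rw [Finset.card_insert_of_notMem hu]; omega),
          hF _ (by rw [Finset.card_insert_of_notMem hv]; omega) (by rw [Finset.card_insert_of_notMem hv]; omega),
          Finset.map_insert, Finset.map_insert,
          P.low_eq (a := σ.1 u) (b := σ.1 v) (by rw [Finset.card_map]; exact hB) (by simp [hu]) (by simp [hv])
            (σ.1.injective.ne huv)]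
        rfl
      rw [← hmS, ← hmap S h.symm, he, hmap T hTc, hmT]
      rw [hmS]
    have heq : ∀ (n : ℕ) (A : Finset (Fin r)), A.card = k → (A \ S).card = n → P.low A = P.low S := by
      intro n
      induction n with
      | zero =>
        intro A hA hn
        rw [Finset.eq_of_subset_of_card_le (Finset.sdiff_eq_empty_iff_subset.1 (Finset.card_eq_zero.1 hn)) (by omega)]
      | succ n ih =>
        intro A hA hn
        obtain ⟨b, hb⟩ := Finset.card_pos.1 (by omega : 0 < (A \ S).card)
        obtain ⟨hbA, hbS⟩ := Finset.mem_sdiff.1 hb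
        obtain ⟨a, haS, haA⟩ := Finset.not_subset.1 fun hh : S ⊆ A =>
          hbS (Finset.eq_of_subset_of_card_le hh (by omega) ▸ hbA)
        rw [hall A a b hA haA hbA]
        refine ih _ (by rw [Finset.card_insert_of_notMem (fun hh => haA (Finset.mem_of_mem_erase hh)),
          Finset.card_erase_of_mem hbA]; omega) ?_
        rw [Finset.insert_sdiff_of_mem _ haS, Finset.erase_sdiff_comm, Finset.card_erase_of_mem hb]
        omega
    have hbot : P.low S = ⊥ := P.noinv _ fun B hB => by
      obtain ⟨b, hb⟩ := Finset.card_pos.1 (by omega : 0 < B.card)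
      rw [← heq _ (B.erase b) (by rw [Finset.card_erase_of_mem hb]; omega) rfl]
      have := hlow (A := B.erase b) (a := b) (by rw [Finset.card_erase_of_mem hb]; omega) (Finset.notMem_erase _ _)
      rwa [Finset.insert_erase hb] at this
    have := dS S h.symm
    rw [hbot, finrank_bot] at this
    omega
  noinv U hU := P.noinv U fun B hB => by
    obtain ⟨b, hb⟩ := Finset.card_pos.1 (by omega : 0 < B.card)
    refine (hU (B.erase b) (by rw [Finset.card_erase_of_mem hb]; omega)).trans ?_
    rw [low, if_pos (by rw [Finset.card_erase_of_mem hb]; omega)]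
    refine (iInf₂_le b (Finset.notMem_erase _ _)).trans ?_
    rw [Finset.insert_erase hb]

end Flat

end Cfsg.Lib.Linear.AltDeg
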