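import Cfsg.Agent.Lib.Linear.AltDeg.Weights

/-!
# Joint eigenvalues and moved spaces
-/

set_option autoImplicit false

namespace Cfsg.Lib.Linear.AltDeg

open Module

variable {L : Type*} [Field L] {V : Type*} [AddCommGroup V] [Module L V] {m : ℕ} [NeZero m] {ζ : L}
  {x y z : End L V}

/-- If no joint eigenvalue moves both, the second fixes what the first moves. -/
theorem fixes_range (hζ : IsPrimitiveRoot ζ m) (hm : (m : L) ≠ 0) (hx : x ^ m = 1) (hy : y ^ m = 1)
    (hxy : x * y = y * x) (h : ∀ w : ZMod m × ZMod m × ZMod m, Occurs ζ x y 1 w → w.1 ≠ 0 → w.2.1 = 0) {v : V}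
    (hv : v ∈ LinearMap.range (x - 1)) : y v = v := by
  have h0 : ∀ a : ZMod m, a ≠ 0 → y (proj ζ x a v) = proj ζ x a v := fun a ha => by
    set u := proj ζ x a v with hu
    have hxu : x u = rootPow ζ a • u := proj_eigen hζ hx a v
    have hz : ∀ b : ZMod m, b ≠ 0 → proj ζ y b u = 0 := fun b hb => by
      by_contra hne
      obtain ⟨c, hc⟩ : ∃ c, Occurs ζ x y 1 (a, b, c) := ⟨0, proj ζ y b u, hne,
        by rw [proj_commute hxy.symm, hxu, map_smul], proj_eigen hζ hy b u, by rw [rootPow_zero, one_smul]; rfl⟩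
      exact hb (h _ hc ha)
    have hu0 : u = proj ζ y (0 : ZMod m) u := by
      conv_lhs => rw [← proj_sum (x := y) hζ hm u]
      exact Finset.sum_eq_single 0 (fun b _ hb => hz b hb) (by simp)
    rw [hu0, proj_eigen hζ hy, rootPow_zero, one_smul]
  have hv0 : proj ζ x (0 : ZMod m) v = 0 := by
    obtain ⟨w, rfl⟩ := hv
    rw [LinearMap.sub_apply, End.one_apply, map_sub, ← proj_commute rfl, proj_eigen hζ hx, rootPow_zero, one_smul,
      sub_self]
  conv_lhs => rw [← proj_sum (x := x) hζ hm v]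
  conv_rhs => rw [← proj_sum (x := x) hζ hm v]
  rw [map_sum]
  refine Finset.sum_congr rfl fun a _ => ?_
  by_cases ha : a = 0
  · rw [ha, hv0, map_zero]
  · exact h0 a ha

/-- A set of joint eigenvalues closed under two substitutions bounds the dimension by the closure of any member. -/
theorem card_closure_le_finrank [FiniteDimensional L V] (hζ : IsPrimitiveRoot ζ m) (hm : (m : L) ≠ 0)
    {P Q : ZMod m × ZMod m × ZMod m → ZMod m × ZMod m × ZMod m} (hP : ∀ w, Occurs ζ x y z w → Occurs ζ x y z (P w))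
    (hQ : ∀ w, Occurs ζ x y z w → Occurs ζ x y z (Q w)) {w : ZMod m × ZMod m × ZMod m} (hw : Occurs ζ x y z w)
    (n : ℕ) : ((fun S : Finset (ZMod m × ZMod m × ZMod m) => S ∪ S.image P ∪ S.image Q)^[n] {w}).card ≤ finrank L V := by
  refine card_le_finrank (x := x) (y := y) (z := z) hζ hm _ ?_
  induction n with
  | zero => simpa using hw
  | succ n ih =>
    intro u hu
    rw [Function.iterate_succ_apply'] at hu
    simp only [Finset.mem_union, Finset.mem_image] at hu
    rcases hu with (hu | ⟨u', hu', rfl⟩) | ⟨u', hu', rfl⟩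
    · exact ih u hu
    · exact hP _ (ih _ hu')
    · exact hQ _ (ih _ hu')

end Cfsg.Lib.Linear.AltDeg
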