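import Cfsg.Agent.Lib.Linear.AltDeg.PRep
import Mathlib.FieldTheory.IsAlgClosed.Basic

/-!
# Normalised lifts of elements of odd order
-/

set_option autoImplicit false

namespace Cfsg.Lib.Linear.AltDeg

open Module

/-- An element fixing the range of `f` pointwise comes from the alternating group on the other letters. -/
theorem exists_emb_of_fix {k m r : ℕ} (f : Fin k ↪ Fin r) (g : Fin m ↪ Fin r)
    (hg : ∀ x, (∃ i, g i = x) ↔ ∀ i, f i ≠ x) (u : Alt r) (hu : ∀ i, u.1 (f i) = f i) :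
    ∃ b : Alt m, emb g b = u := by
  classical
  have hmem : ∀ j, ∃ i, g i = u.1 (g j) := fun j => (hg _).2 fun i hi =>
    (hg _).1 ⟨j, rfl⟩ i (u.1.injective (by rw [hu]; exact hi))
  choose e he using hmem
  have hinj : Function.Injective e := fun x y h => g.injective (u.1.injective (by rw [← he, ← he, h]))
  let eq : Equiv.Perm (Fin m) := Equiv.ofBijective e (Finite.injective_iff_bijective.1 hinj)
  have hvia : eq.viaEmbedding g = u.1 := Equiv.ext fun x => by
    by_cases hx : ∃ i, g i = x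
    · obtain ⟨i, rfl⟩ := hx
      rw [Equiv.Perm.viaEmbedding_apply]
      exact he i
    · rw [Equiv.Perm.viaEmbedding_apply_of_notMem _ _ _ (fun ⟨i, hi⟩ => hx ⟨i, hi⟩)]
      obtain ⟨i, rfl⟩ := not_forall_not.1 fun h => hx ((hg x).2 h)
      rw [hu]
  refine ⟨⟨eq, Equiv.Perm.mem_alternatingGroup.2 ?_⟩, Subtype.ext hvia⟩
  rw [← sign_viaEmbedding g eq, hvia]
  exact Equiv.Perm.mem_alternatingGroup.1 u.2

/-- A letter list for the complement. -/
theorem exists_compl {k r : ℕ} (f : Fin k ↪ Fin r) :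
    ∃ g : Fin (r - k) ↪ Fin r, ∀ x, (∃ i, g i = x) ↔ ∀ i, f i ≠ x := by
  classical
  have hc : (Finset.univ.map f)ᶜ.card = r - k := by simp [Finset.card_compl]
  refine ⟨((Finset.univ.map f)ᶜ.orderEmbOfFin hc).toEmbedding, fun x => ?_⟩
  have h : x ∈ Set.range ((Finset.univ.map f)ᶜ.orderEmbOfFin hc) ↔ x ∈ ((Finset.univ.map f)ᶜ : Finset (Fin r)) := by
    rw [Finset.range_orderEmbOfFin]; rfl
  simp only [Set.mem_range, Finset.mem_compl, Finset.mem_map, Finset.mem_univ, true_and, not_exists] at h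
  exact h

/-- The centraliser of a full cycle on the range of `f`. -/
theorem centralizer_cases {k m r : ℕ} (f : Fin k ↪ Fin r) (g : Fin m ↪ Fin r)
    (hg : ∀ x, (∃ i, g i = x) ↔ ∀ i, f i ≠ x) (c : Alt k) (hc : ∀ i, c.1 i ≠ i)
    (hcent : ∀ e : Equiv.Perm (Fin k), e * c.1 = c.1 * e → ∃ i < k, e = c.1 ^ i)
    {u : Alt r} (hu : Commute (emb f c) u) : ∃ (i : ℕ) (b : Alt m), u = emb f c ^ i * emb g b := by
  classical
  have hu' : ∀ x, (emb f c).1 (u.1 x) = u.1 ((emb f c).1 x) := fun x =>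
    congrArg (fun z : Alt r => z.1 x) hu.eq
  have hmap : ∀ i, ∃ j, f j = u.1 (f i) := fun i => by
    by_contra h
    have h1 := hu' (f i)
    rw [emb_apply_of_notMem f c fun j hj => h ⟨j, hj⟩, emb_apply] at h1
    exact hc i (f.injective (u.1.injective h1)).symm
  choose e he using hmap
  have hinj : Function.Injective e := fun x y h => f.injective (u.1.injective (by rw [← he, ← he, h]))
  obtain ⟨i, -, hi⟩ := hcent (Equiv.ofBijective e (Finite.injective_iff_bijective.1 hinj)) (Equiv.ext fun x =>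
    f.injective (by
      show f (e (c.1 x)) = f (c.1 (e x))
      rw [he, ← emb_apply, ← emb_apply, he]
      exact (hu' (f x)).symm))
  obtain ⟨b, hb⟩ := exists_emb_of_fix f g hg ((emb f c ^ i)⁻¹ * u) fun x => by
    show ((emb f c ^ i)⁻¹).1 (u.1 (f x)) = f x
    rw [Subgroup.coe_inv, Equiv.Perm.inv_eq_iff_eq, ← map_pow, emb_apply, ← he]
    exact congrArg f (Equiv.congr_fun hi x)
  exact ⟨i, b, by rw [hb, mul_inv_cancel_left]⟩

namespace PRep

variable {L : Type*} [Field L] {V : Type*} [AddCommGroup V] [Module L V] {r : ℕ}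

variable (R : PRep L V r)

/-- A lift of order dividing `m` inverted by the lift of some element. -/
def IsNorm (m : ℕ) (a : Alt r) (x : End L V) : Prop :=
  R.IsLift a x ∧ x ^ m = 1 ∧ ∃ (s : Alt r) (t : End L V), R.IsLift s t ∧ a * s * a = s ∧ x * t * x = t

variable {R}

theorem exists_norm [IsAlgClosed L] (hr : 3 ≤ r) {m : ℕ} (hm : Odd m) {a s : Alt r} (ha : a ^ m = 1)
    (hs : a * s * a = s) : ∃ x, R.IsNorm m a x := by
  haveI : Nontrivial V := R.nontrivial hr
  set y := R.ρ a with hy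
  set t := R.ρ s with ht
  have hyl : R.IsLift a y := R.isLift_rho a
  have htl : R.IsLift s t := R.isLift_rho s
  obtain ⟨e, he, hyt⟩ := htl.exists_smul (((hyl.mul htl).mul hyl).congr hs)
  obtain ⟨c, hc, hym⟩ := ((hyl.pow m).congr ha).eq_scalar
  have hpow : ∀ i : ℕ, y ^ i * t * y ^ i = e ^ i • t := fun i => by
    induction i with
    | zero => simp
    | succ i ih =>
      calc y ^ (i + 1) * t * y ^ (i + 1) = y * (y ^ i * t * y ^ i) * y := by
            rw [pow_succ' y i, show y * y ^ i = y ^ i * y from (Commute.self_pow y i).eq]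
            simp only [mul_assoc]
            rw [← mul_assoc (y ^ i) y, ← (Commute.self_pow y i).eq, mul_assoc]
        _ = _ := by rw [ih, mul_smul_comm, smul_mul_assoc, hyt, smul_smul, ← pow_succ]
  have ht0 : t ≠ 0 := fun h => by
    obtain ⟨v, hv⟩ := exists_ne (0 : V)
    exact hv (htl.injective (by rw [h]; simp))
  have hem : e ^ m = c * c := by
    have h := hpow m
    rw [hym, smul_mul_assoc, one_mul, mul_smul_comm, mul_one, smul_smul] at h
    exact (smul_left_injective L ht0 h).symm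
  have hm0 : 0 < m := hm.pos
  obtain ⟨κ, hκ⟩ := IsAlgClosed.exists_pow_nat_eq c⁻¹ hm0
  set η := κ * κ * e with hη
  have hηm : η ^ m = 1 := by
    rw [hη, mul_pow, mul_pow, hκ, hem]
    field_simp
  obtain ⟨j, hj⟩ := hm
  refine ⟨(κ * η ^ j) • y, hyl.smul (mul_ne_zero (fun h => ?_) (pow_ne_zero _ fun h => ?_)), ?_, s, t, htl, hs, ?_⟩
  · rw [h, zero_pow hm0.ne'] at hκ; exact inv_ne_zero hc hκ.symm
  · rw [h, zero_pow hm0.ne'] at hηm; exact zero_ne_one hηm
  · rw [smul_pow, hym, smul_smul, mul_pow, hκ, ← pow_mul, mul_comm j m, pow_mul, hηm, one_pow, mul_one,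
      inv_mul_cancel₀ hc, one_smul]
  · rw [smul_mul_assoc, smul_mul_assoc, mul_smul_comm, hyt, smul_smul, smul_smul,
      show κ * η ^ j * (κ * η ^ j) * e = η ^ (2 * j + 1) by rw [hη]; ring, ← hj, hηm, one_smul]

/-- Normalised lifts are unique when the centraliser's lifts centralise. -/
theorem IsNorm.unique (hr : 3 ≤ r) {m : ℕ} (hm : Odd m) {a : Alt r} {x x' : End L V} (hx : R.IsNorm m a x)
    (hx' : R.IsNorm m a x') (hC : ∀ u y, Commute a u → R.IsLift u y → x * y = y * x) : x' = x := by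
  haveI : Nontrivial V := R.nontrivial hr
  obtain ⟨hl, hxm, s, t, htl, hs, hxt⟩ := hx
  obtain ⟨hl', hxm', s', t', htl', hs', hxt'⟩ := hx'
  obtain ⟨γ, hγ, rfl⟩ := hl.exists_smul hl'
  have hu : Commute a (s⁻¹ * s') := by
    show a * (s⁻¹ * s') = s⁻¹ * s' * a
    calc a * (s⁻¹ * s') = a * s⁻¹ * (a * s' * a) := by rw [hs', mul_assoc]
      _ = a * s⁻¹ * a * s' * a := by simp only [mul_assoc]
      _ = s⁻¹ * s' * a := by
        congr 2
        calc a * s⁻¹ * a = a * (a * s * a)⁻¹ * a := by rw [hs]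
          _ = s⁻¹ := by group
  obtain ⟨y, hy⟩ : ∃ y, R.IsLift (s⁻¹ * s') y := ⟨_, R.isLift_rho _⟩
  obtain ⟨d, hd, rfl⟩ := ((htl.mul hy).congr (mul_inv_cancel_left s s')).exists_smul htl'
  have hcomm := hC _ y hu hy
  have h1 : x * (d • (t * y)) * x = d • (t * y) := by
    rw [mul_smul_comm, smul_mul_assoc]
    congr 1
    calc x * (t * y) * x = x * t * (y * x) := by simp only [mul_assoc]
      _ = x * t * (x * y) := by rw [hcomm]
      _ = _ := by rw [← mul_assoc, hxt]
  rw [smul_mul_assoc, smul_mul_assoc, mul_smul_comm, h1, smul_smul] at hxt'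
  have hne : d • (t * y) ≠ 0 := fun h => by
    obtain ⟨v, hv⟩ := exists_ne (0 : V)
    exact hv (htl'.injective (by rw [h]; simp))
  have h2 : γ * γ = 1 := smul_left_injective L hne (hxt'.trans (one_smul L _).symm)
  have h3 : γ ^ m = 1 := by
    rw [smul_pow, hxm] at hxm'
    exact smul_one_inj (hxm'.trans (one_smul L _).symm)
  obtain ⟨j, hj⟩ := hm
  rw [hj, pow_succ, pow_mul, sq, h2, one_pow, one_mul] at h3
  rw [h3, one_smul]

/-- Conjugates of normalised lifts are normalised. -/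
theorem IsNorm.conj {m : ℕ} {a σ : Alt r} {x y y' : End L V} (hx : R.IsNorm m a x) (hy : R.IsLift σ y)
    (hy' : R.IsLift σ⁻¹ y') (h : y * y' = 1) (h' : y' * y = 1) : R.IsNorm m (σ * a * σ⁻¹) (y * x * y') := by
  obtain ⟨hl, hxm, s, t, htl, hs, hxt⟩ := hx
  refine ⟨(hy.mul hl).mul hy', ?_, σ * s * σ⁻¹, y * t * y', (hy.mul htl).mul hy', ?_, ?_⟩
  · let u : (End L V)ˣ := ⟨y, y', h, h'⟩
    calc (y * x * y') ^ m = y * x ^ m * y' := Units.conj_pow u x m
      _ = 1 := by rw [hxm, mul_one, h]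
  · calc σ * a * σ⁻¹ * (σ * s * σ⁻¹) * (σ * a * σ⁻¹) = σ * (a * s * a) * σ⁻¹ := by group
      _ = _ := by rw [hs]
  · calc y * x * y' * (y * t * y') * (y * x * y') = y * (x * (y' * y) * t * (y' * y) * x) * y' := by
          simp only [mul_assoc]
      _ = _ := by rw [h', mul_one, mul_one, hxt]

end PRep

end Cfsg.Lib.Linear.AltDeg
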