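import Cfsg.Agent.Lib.Linear.AltDeg.Emb
import Mathlib.LinearAlgebra.FiniteDimensional.Lemmas
import Mathlib.RingTheory.SimpleModule.Basic

/-!
# Projective representations of alternating groups
-/

set_option autoImplicit false

namespace Cfsg.Lib.Linear.AltDeg

open Module

variable {L : Type*} [Field L] {V : Type*} [AddCommGroup V] [Module L V] {k r : ℕ}

/-- A projective representation of `Alt r` with no nontrivial element acting by a scalar. -/
structure PRep (L V : Type*) [Field L] [AddCommGroup V] [Module L V] (r : ℕ) where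
  /-- The chosen representing maps. -/
  ρ : Alt r → End L V
  one : ρ 1 = 1
  mul : ∀ a b, ∃ c : L, c ≠ 0 ∧ ρ a * ρ b = c • ρ (a * b)
  faithful : ∀ a, (∃ c : L, ρ a = c • (1 : End L V)) → a = 1

namespace PRep

variable (R : PRep L V r)

/-- `x` represents `a`. -/
def IsLift (a : Alt r) (x : End L V) : Prop := ∃ c : L, c ≠ 0 ∧ x = c • R.ρ a

variable {R} {a b : Alt r} {x y : End L V}

theorem isLift_rho (a : Alt r) : R.IsLift a (R.ρ a) := ⟨1, one_ne_zero, (one_smul _ _).symm⟩

theorem isLift_one : R.IsLift 1 (1 : End L V) := by simpa [R.one] using R.isLift_rho 1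

theorem IsLift.smul (h : R.IsLift a x) {c : L} (hc : c ≠ 0) : R.IsLift a (c • x) := by
  obtain ⟨d, hd, rfl⟩ := h
  exact ⟨c * d, mul_ne_zero hc hd, smul_smul c d _⟩

theorem IsLift.mul (hx : R.IsLift a x) (hy : R.IsLift b y) : R.IsLift (a * b) (x * y) := by
  obtain ⟨c, hc, rfl⟩ := hx
  obtain ⟨d, hd, rfl⟩ := hy
  obtain ⟨e, he, h⟩ := R.mul a b
  exact ⟨c * d * e, mul_ne_zero (mul_ne_zero hc hd) he, by rw [smul_mul_smul_comm, h, smul_smul]⟩

theorem IsLift.pow (hx : R.IsLift a x) : ∀ i : ℕ, R.IsLift (a ^ i) (x ^ i)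
  | 0 => by simpa using R.isLift_one
  | i + 1 => by rw [pow_succ, pow_succ]; exact (hx.pow i).mul hx

theorem IsLift.exists_smul (hx : R.IsLift a x) (hy : R.IsLift a y) : ∃ c : L, c ≠ 0 ∧ y = c • x := by
  obtain ⟨c, hc, rfl⟩ := hx
  obtain ⟨d, hd, rfl⟩ := hy
  exact ⟨d * c⁻¹, mul_ne_zero hd (inv_ne_zero hc), by rw [smul_smul, inv_mul_cancel_right₀ hc]⟩

theorem IsLift.congr {a' : Alt r} (hx : R.IsLift a x) (h : a = a') : R.IsLift a' x := h ▸ hx

theorem IsLift.eq_one (hx : R.IsLift a x) {c : L} (h : x = c • (1 : End L V)) : a = 1 := by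
  obtain ⟨d, hd, rfl⟩ := hx
  refine R.faithful a ⟨d⁻¹ * c, ?_⟩
  rw [← smul_smul, ← h, smul_smul, inv_mul_cancel₀ hd, one_smul]

theorem IsLift.eq_scalar (hx : R.IsLift 1 x) : ∃ c : L, c ≠ 0 ∧ x = c • (1 : End L V) :=
  R.isLift_one.exists_smul hx

theorem IsLift.exists_inv (hx : R.IsLift a x) : ∃ y, R.IsLift a⁻¹ y ∧ x * y = 1 ∧ y * x = 1 := by
  have hy := R.isLift_rho a⁻¹
  obtain ⟨c, hc, h1⟩ := ((hx.mul hy).congr (mul_inv_cancel a)).eq_scalar
  obtain ⟨d, hd, h2⟩ := ((hy.mul hx).congr (inv_mul_cancel a)).eq_scalar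
  have e1 : x * (c⁻¹ • R.ρ a⁻¹) = 1 := by rw [mul_smul_comm, h1, smul_smul, inv_mul_cancel₀ hc, one_smul]
  have e2 : (d⁻¹ • R.ρ a⁻¹) * x = 1 := by rw [smul_mul_assoc, h2, smul_smul, inv_mul_cancel₀ hd, one_smul]
  exact ⟨_, hy.smul (inv_ne_zero hc), e1, (left_inv_eq_right_inv e2 e1) ▸ e2⟩

theorem IsLift.injective (hx : R.IsLift a x) : Function.Injective x := by
  obtain ⟨y, -, -, h⟩ := hx.exists_inv
  exact Function.LeftInverse.injective (g := y) fun v => LinearMap.congr_fun h v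

theorem IsLift.surjective (hx : R.IsLift a x) : Function.Surjective x := by
  obtain ⟨y, -, h, -⟩ := hx.exists_inv
  exact fun v => ⟨y v, LinearMap.congr_fun h v⟩

include R in
theorem nontrivial (hr : 3 ≤ r) : Nontrivial V := by
  by_contra h
  rw [not_nontrivial_iff_subsingleton] at h
  haveI := alternatingGroup.nontrivial_of_three_le_card (α := Fin r) (by simpa using hr)
  obtain ⟨a, ha⟩ := exists_ne (1 : Alt r)
  exact ha (R.faithful a ⟨1, Subsingleton.elim _ _⟩)

theorem smul_one_inj [Nontrivial V] {c d : L} (h : c • (1 : End L V) = d • 1) : c = d :=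
  smul_left_injective L (one_ne_zero (α := End L V)) h

theorem exists_comm (hx : R.IsLift a x) (hy : R.IsLift b y) (h : Commute a b) :
    ∃ c : L, c ≠ 0 ∧ x * y = c • (y * x) :=
  (hy.mul hx).exists_smul ((hx.mul hy).congr h.eq)

/-- A lift commutes with the lifts of a centralising copy of a perfect alternating group. -/
theorem commute_emb (hk : 5 ≤ k) (f : Fin k ↪ Fin r) (hx : R.IsLift a x) (hc : ∀ b, Commute a (emb f b))
    {b : Alt k} {y : End L V} (hy : R.IsLift (emb f b) y) : x * y = y * x := by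
  classical
  haveI : Nontrivial V := R.nontrivial (by
    have := Fintype.card_le_of_injective f f.injective
    simp at this; omega)
  choose c hc0 hc' using fun b => R.exists_comm hx (R.isLift_rho (emb f b)) (hc b)
  have hne : ∀ b : Alt k, R.ρ (emb f b) * x ≠ 0 := fun b h => by
    obtain ⟨v, hv⟩ := exists_ne (0 : V)
    exact hv (((R.isLift_rho (emb f b)).mul hx).injective (by rw [h, map_zero]; rfl))
  have huniq : ∀ (b : Alt k) (d : L), x * R.ρ (emb f b) = d • (R.ρ (emb f b) * x) → d = c b := fun b d h =>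
    smul_left_injective L (hne b) (h.symm.trans (hc' b))
  let γ : Alt k →* Lˣ :=
    { toFun := fun b => Units.mk0 (c b) (hc0 b)
      map_one' := Units.ext (huniq 1 1 (by rw [map_one, R.one, one_smul, mul_one, one_mul])).symm
      map_mul' := fun b b' => Units.ext (by
        obtain ⟨e, he, h⟩ := R.mul (emb f b) (emb f b')
        refine (huniq (b * b') (c b * c b') ?_).symm
        rw [← map_mul] at h
        rw [show R.ρ (emb f (b * b')) = e⁻¹ • (R.ρ (emb f b) * R.ρ (emb f b')) by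
          rw [h, smul_smul, inv_mul_cancel₀ he, one_smul], mul_smul_comm, smul_mul_assoc, smul_comm (c b * c b'),
          ← mul_assoc, hc' b, smul_mul_assoc, mul_assoc, hc' b', mul_smul_comm, smul_smul, ← mul_assoc]
        simp only [smul_smul]
        ring_nf) }
  obtain ⟨d, -, rfl⟩ := hy
  have h1 : c b = 1 := congrArg Units.val (hom_trivial hk γ b)
  rw [mul_smul_comm, smul_mul_assoc, hc' b, h1, one_smul]

/-- `x` acts as a scalar on `W`. -/
def ScalarOn (x : End L V) (W : Submodule L V) : Prop := ∃ c : L, ∀ v ∈ W, x v = c • v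

theorem ScalarOn.smul {W : Submodule L V} (h : ScalarOn x W) (d : L) : ScalarOn (d • x) W := by
  obtain ⟨c, hc⟩ := h
  exact ⟨d * c, fun v hv => by rw [LinearMap.smul_apply, hc v hv, smul_smul]⟩

theorem ScalarOn.mono {W W' : Submodule L V} (h : ScalarOn x W) (hle : W' ≤ W) : ScalarOn x W' := by
  obtain ⟨c, hc⟩ := h
  exact ⟨c, fun v hv => hc v (hle hv)⟩

theorem ScalarOn.mul {W : Submodule L V} (hx : ScalarOn x W) (hy : ScalarOn y W) : ScalarOn (x * y) W := by
  obtain ⟨c, hc⟩ := hx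
  obtain ⟨d, hd⟩ := hy
  exact ⟨d * c, fun v hv => by rw [End.mul_apply, hd v hv, map_smul, hc v hv, smul_smul]⟩

theorem IsLift.scalarOn_iff {W : Submodule L V} (hx : R.IsLift a x) : ScalarOn x W ↔ ScalarOn (R.ρ a) W := by
  obtain ⟨c, hc, rfl⟩ := hx
  exact ⟨fun h => by simpa [smul_smul, hc] using h.smul c⁻¹, fun h => h.smul c⟩

variable (R)

/-- `W` is invariant under the copy of `Alt k` along `f`. -/
def Inv (f : Fin k ↪ Fin r) (W : Submodule L V) : Prop := ∀ b, ∀ v ∈ W, R.ρ (emb f b) v ∈ W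

/-- The copy of `Alt k` along `f` acts on `W` by scalars. -/
def ScalarAlong (f : Fin k ↪ Fin r) (W : Submodule L V) : Prop := ∀ b, ScalarOn (R.ρ (emb f b)) W

variable {R}

theorem IsLift.maps {f : Fin k ↪ Fin r} {W : Submodule L V} (hW : R.Inv f W) {b : Alt k}
    (hx : R.IsLift (emb f b) x) : ∀ v ∈ W, x v ∈ W := fun v hv => by
  obtain ⟨c, -, rfl⟩ := hx
  exact W.smul_mem c (hW b v hv)

/-- The elements acting on `W` by scalars. -/
noncomputable def scalarSubgroup (R : PRep L V r) (f : Fin k ↪ Fin r) (W : Submodule L V) : Subgroup (Alt k) where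
  carrier := {b | ScalarOn (R.ρ (emb f b)) W}
  one_mem' := ⟨1, fun v _ => by rw [map_one, R.one, one_smul]; rfl⟩
  mul_mem' {b b'} hb hb' := by
    obtain ⟨c, hc, h⟩ := R.mul (emb f b) (emb f b')
    show ScalarOn (R.ρ (emb f (b * b'))) W
    rw [map_mul, show R.ρ (emb f b * emb f b') = c⁻¹ • (R.ρ (emb f b) * R.ρ (emb f b')) by
      rw [h, smul_smul, inv_mul_cancel₀ hc, one_smul]]
    exact (hb.mul hb').smul _
  inv_mem' {b} hb := by
    obtain ⟨y, hy, -, hyx⟩ := (R.isLift_rho (emb f b)).exists_inv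
    show ScalarOn (R.ρ (emb f b⁻¹)) W
    rw [map_inv, ← hy.scalarOn_iff]
    obtain ⟨c, hc⟩ := hb
    by_cases hW : W = ⊥
    · exact ⟨1, fun v hv => by rw [hW, Submodule.mem_bot] at hv; simp [hv]⟩
    obtain ⟨v₀, hv₀, hne⟩ := Submodule.exists_mem_ne_zero_of_ne_bot hW
    have hc0 : c ≠ 0 := fun h => hne ((R.isLift_rho (emb f b)).injective (by rw [hc v₀ hv₀, h, zero_smul, map_zero]))
    refine ⟨c⁻¹, fun v hv => ?_⟩
    have := LinearMap.congr_fun hyx v
    rw [End.mul_apply, hc v hv, map_smul] at this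
    exact (eq_inv_smul_iff₀ hc0).2 this

theorem scalarSubgroup_normal {f : Fin k ↪ Fin r} {W : Submodule L V} (hW : R.Inv f W) :
    (scalarSubgroup R f W).Normal := ⟨fun b hb g => by
  obtain ⟨y, hy, hgy, -⟩ := (R.isLift_rho (emb f g)).exists_inv
  have hl := ((R.isLift_rho (emb f g)).mul (R.isLift_rho (emb f b))).mul hy
  show ScalarOn (R.ρ (emb f (g * b * g⁻¹))) W
  rw [map_mul, map_mul, map_inv, ← hl.scalarOn_iff]
  obtain ⟨c, hc⟩ := hb
  refine ⟨c, fun v hv => ?_⟩
  have hyv : y v ∈ W := IsLift.maps hW (b := g⁻¹) (hy.congr (map_inv _ g).symm) v hv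
  have h := LinearMap.congr_fun hgy v
  rw [End.mul_apply] at h
  rw [End.mul_apply, End.mul_apply, hc _ hyv, map_smul, h]
  rfl⟩

/-- One nontrivial element acting by a scalar makes the whole copy act by scalars. -/
theorem scalarAlong_of_mem (hk : 5 ≤ k) {f : Fin k ↪ Fin r} {W : Submodule L V} (hW : R.Inv f W) {b : Alt k}
    (hb1 : b ≠ 1) (hb : ScalarOn (R.ρ (emb f b)) W) : R.ScalarAlong f W := fun g => by
  haveI := scalarSubgroup_normal hW
  have h := eq_top_of_normal hk (scalarSubgroup R f W) hb hb1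
  exact (h ▸ Subgroup.mem_top g : g ∈ scalarSubgroup R f W)

/-- An invariant subspace not acted on by scalars carries a projective representation. -/
theorem exists_restrict (hk : 5 ≤ k) {f : Fin k ↪ Fin r} {W : Submodule L V} (hW : R.Inv f W)
    (h : ¬ R.ScalarAlong f W) : Nonempty (PRep L W k) := by
  refine ⟨⟨fun b => (R.ρ (emb f b)).restrict (hW b), ?_, fun b b' => ?_, fun b ⟨c, hc⟩ => ?_⟩⟩
  · refine LinearMap.ext fun v => Subtype.ext ?_
    show R.ρ (emb f 1) v = v
    rw [map_one, R.one]; rfl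
  · obtain ⟨c, hc, e⟩ := R.mul (emb f b) (emb f b')
    refine ⟨c, hc, LinearMap.ext fun v => Subtype.ext ?_⟩
    show R.ρ (emb f b) (R.ρ (emb f b') v) = c • R.ρ (emb f (b * b')) v
    rw [map_mul]
    exact LinearMap.congr_fun e v
  · by_contra hb
    exact h (scalarAlong_of_mem hk hW hb ⟨c, fun v hv =>
      congrArg Subtype.val (LinearMap.congr_fun hc ⟨v, hv⟩)⟩)

end PRep

end Cfsg.Lib.Linear.AltDeg
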