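import Cfsg.Agent.Lib.Linear.AltDeg.Cycles
import Cfsg.Agent.Lib.Linear.AltDeg.Joint
import Mathlib.RingTheory.RootsOfUnity.AlgebraicallyClosed

/-!
# Normalised lifts of disjoint short cycles
-/

set_option autoImplicit false

namespace Cfsg.Lib.Linear.AltDeg

open Module Equiv

/-- Two disjoint lists of letters make one. -/
theorem exists_join {k m r : ℕ} (f : Fin k ↪ Fin r) (g : Fin m ↪ Fin r) (h : ∀ i j, f i ≠ g j) :
    ∃ e : Fin (k + m) ↪ Fin r, (Fin.castAddEmb m).trans e = f ∧ (Fin.natAddEmb k).trans e = g := by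
  refine ⟨⟨Fin.append f g, Fin.append_injective_iff.2 ⟨f.injective, g.injective, h⟩⟩, ?_, ?_⟩
  · exact Function.Embedding.ext fun i => Fin.append_left _ _ i
  · exact Function.Embedding.ext fun i => Fin.append_right _ _ i

/-- A third list of letters besides two. -/
theorem exists_third {k m n r : ℕ} (f : Fin k ↪ Fin r) (g : Fin m ↪ Fin r) (h : k + m + n ≤ r) :
    ∃ e : Fin n ↪ Fin r, (∀ i j, f i ≠ e j) ∧ ∀ i j, g i ≠ e j := by
  classical
  have hc : n ≤ (Finset.univ.map f ∪ Finset.univ.map g)ᶜ.card := by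
    rw [Finset.card_compl, Fintype.card_fin]
    have := Finset.card_union_le (Finset.univ.map f) (Finset.univ.map g)
    simp at this
    omega
  obtain ⟨e⟩ : Nonempty (Fin n ↪ {x // x ∈ (Finset.univ.map f ∪ Finset.univ.map g)ᶜ}) :=
    Function.Embedding.nonempty_of_card_le (by rw [Fintype.card_fin, Fintype.card_coe]; exact hc)
  refine ⟨e.trans (Function.Embedding.subtype _), fun i j he => ?_, fun i j he => ?_⟩ <;>
    exact Finset.mem_compl.1 (e j).2 (by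
      show (e j).1 ∈ _
      rw [show (e j).1 = _ from he.symm]
      simp)

namespace Elts

/-- Two disjoint five-cycles and two elements normalising their pair. -/
def a5 : Alt 10 := ⟨swap 0 1 * swap 1 2 * swap 2 3 * swap 3 4, Perm.mem_alternatingGroup.2 (by decide)⟩

@[inherit_doc a5]
def b5 : Alt 10 := ⟨swap 5 6 * swap 6 7 * swap 7 8 * swap 8 9, Perm.mem_alternatingGroup.2 (by decide)⟩

@[inherit_doc a5]
def p5 : Alt 10 := ⟨⟨![5, 6, 7, 8, 9, 0, 2, 4, 1, 3], ![5, 8, 6, 9, 7, 0, 1, 2, 3, 4], by decide, by decide⟩,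
  Perm.mem_alternatingGroup.2 (by decide)⟩

@[inherit_doc a5]
def q5 : Alt 10 := ⟨⟨![0, 2, 4, 1, 3, 5, 8, 6, 9, 7], ![0, 3, 1, 4, 2, 5, 7, 9, 6, 8], by decide, by decide⟩,
  Perm.mem_alternatingGroup.2 (by decide)⟩

/-- Three disjoint three-cycles and two elements normalising their triple. -/
def a3 : Alt 9 := ⟨swap 0 1 * swap 1 2, Perm.mem_alternatingGroup.2 (by decide)⟩

@[inherit_doc a3]
def b3 : Alt 9 := ⟨swap 3 4 * swap 4 5, Perm.mem_alternatingGroup.2 (by decide)⟩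

@[inherit_doc a3]
def d3 : Alt 9 := ⟨swap 6 7 * swap 7 8, Perm.mem_alternatingGroup.2 (by decide)⟩

@[inherit_doc a3]
def p3 : Alt 9 := ⟨⟨![3, 4, 5, 0, 2, 1, 6, 7, 8], ![3, 5, 4, 0, 1, 2, 6, 7, 8], by decide, by decide⟩,
  Perm.mem_alternatingGroup.2 (by decide)⟩

@[inherit_doc a3]
def q3 : Alt 9 := ⟨⟨![3, 4, 5, 6, 7, 8, 0, 1, 2], ![6, 7, 8, 0, 1, 2, 3, 4, 5], by decide, by decide⟩,
  Perm.mem_alternatingGroup.2 (by decide)⟩

theorem conj5 : p5 * a5 * p5⁻¹ = b5 ∧ p5 * b5 * p5⁻¹ = a5 ^ 2 ∧ q5 * a5 * q5⁻¹ = a5 ^ 2 ∧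
    q5 * b5 * q5⁻¹ = b5 * b5 ^ 2 ∧ Commute a5 b5 := by
  refine ⟨?_, ?_, ?_, ?_, ?_⟩ <;> first | decide | (show _ * _ = _ * _; decide)

theorem conj3 : p3 * a3 * p3⁻¹ = b3 ∧ p3 * b3 * p3⁻¹ = a3 ^ 2 ∧ p3 * d3 * p3⁻¹ = d3 ∧
    q3 * a3 * q3⁻¹ = b3 ∧ q3 * b3 * q3⁻¹ = d3 ∧ q3 * d3 * q3⁻¹ = a3 ∧
    Commute a3 b3 ∧ Commute a3 d3 ∧ Commute b3 d3 := by
  refine ⟨?_, ?_, ?_, ?_, ?_, ?_, ?_, ?_, ?_⟩ <;> first | decide | (show _ * _ = _ * _; decide)

/-- Weights of pairs of five-cycles, acted on by the two normalising elements. -/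
def P5 (w : ZMod 5 × ZMod 5 × ZMod 5) : ZMod 5 × ZMod 5 × ZMod 5 := (w.2.1, w.1 + w.1, w.2.2)

@[inherit_doc P5]
def Q5 (w : ZMod 5 × ZMod 5 × ZMod 5) : ZMod 5 × ZMod 5 × ZMod 5 := (w.1 + w.1, w.2.1 + (w.2.1 + w.2.1), w.2.2)

/-- Weights of triples of three-cycles, acted on by the two normalising elements. -/
def P3 (w : ZMod 3 × ZMod 3 × ZMod 3) : ZMod 3 × ZMod 3 × ZMod 3 := (w.2.1, w.1 + w.1, w.2.2)

@[inherit_doc P3]
def Q3 (w : ZMod 3 × ZMod 3 × ZMod 3) : ZMod 3 × ZMod 3 × ZMod 3 := (w.2.1, w.2.2, w.1)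

theorem closure5 : ∀ a b : ZMod 5, a ≠ 0 → b ≠ 0 → 16 ≤
    ((fun S : Finset (ZMod 5 × ZMod 5 × ZMod 5) => S ∪ S.image P5 ∪ S.image Q5)^[6] {(a, b, 0)}).card := by
  decide +kernel

theorem closure3 : ∀ w : ZMod 3 × ZMod 3 × ZMod 3, w.1 ≠ 0 → w.2.1 ≠ 0 → 8 ≤
    ((fun S : Finset (ZMod 3 × ZMod 3 × ZMod 3) => S ∪ S.image P3 ∪ S.image Q3)^[5] {w}).card := by
  decide +kernel

end Elts

open Elts

variable {L : Type*} [Field L] {V : Type*} [AddCommGroup V] [Module L V]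

theorem exists_zeta [IsAlgClosed L] (m : ℕ) [NeZero m] (hm : (m : L) ≠ 0) : ∃ ζ : L, IsPrimitiveRoot ζ m := by
  haveI : NeZero (m : L) := ⟨hm⟩
  exact HasEnoughRootsOfUnity.exists_primitiveRoot L m

/-- An eigenvector pulled back along an intertwining map. -/
theorem eigen_pull {Y x z : End L V} (hY : Function.Injective Y) (h : Y * x = z * Y) {v u : V} (huv : Y u = v)
    {c : L} (hz : z v = c • v) : x u = c • u := by
  refine hY ?_
  have := LinearMap.congr_fun h u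
  rw [End.mul_apply, End.mul_apply, huv, hz] at this
  rw [this, map_smul, huv]

namespace PRep

variable {r : ℕ} {R : PRep L V r} [FiniteDimensional L V] [IsAlgClosed L]

theorem sq_eigen {m : ℕ} [NeZero m] {ζ : L} (hζ : IsPrimitiveRoot ζ m) {x : End L V} {v : V} {a : ZMod m}
    (h : x v = rootPow ζ a • v) : (x ^ 2) v = rootPow ζ (a + a) • v := by
  rw [sq, End.mul_apply, h, map_smul, h, smul_smul, rootPow_add hζ]

/-- Five-cycles: large degree, or each fixes what a disjoint one moves. -/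
theorem five_fix_or (R : PRep L V r) (hr : 10 ≤ r) (h5 : (5 : L) ≠ 0) :
    16 ≤ finrank L V ∨ ∀ f g : Fin 5 ↪ Fin r, (∀ i j, f i ≠ g j) →
      ∀ v ∈ LinearMap.range (R.nrm 5 (emb f c5) - 1), R.nrm 5 (emb g c5) v = v := by
  refine or_iff_not_imp_left.2 fun hn f g hfg v hv => ?_
  have hm : ((5 : ℕ) : L) ≠ 0 := by exact_mod_cast h5
  obtain ⟨ζ, hζ⟩ := exists_zeta (L := L) 5 hm
  have hgood : ∀ f : Fin 5 ↪ Fin r, R.Good 5 (emb f c5) := fun f =>
    good_emb (by omega) f c5 (by decide) c5_centralizer (by decide) (exists_inverts_five f)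
  obtain ⟨e, hef, heg⟩ := exists_join f g hfg
  have ea : emb f c5 = emb e a5 := by
    rw [← hef, ← emb_trans]
    exact congrArg _ (emb_eq _ _ _ (by decide) (by decide))
  have eb : emb g c5 = emb e b5 := by
    rw [← heg, ← emb_trans]
    exact congrArg _ (emb_eq _ _ _ (by decide) (by decide))
  have odd5 : Odd 5 := by decide
  have hr3 : 3 ≤ r := by omega
  have ga := hgood f
  have gb := hgood g
  rw [ea] at ga hv
  rw [eb] at gb ⊢
  have hca : ∀ σ u w, σ * u * σ⁻¹ = w → emb e σ * emb e u * (emb e σ)⁻¹ = emb e w := fun σ u w h => by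
    rw [← map_inv, ← map_mul, ← map_mul, h]
  obtain ⟨cpa, cpb, cqa, cqb, cab⟩ := conj5
  have ga2 : R.Good 5 (emb e a5 ^ 2) := by
    rw [← map_pow, ← hca _ _ _ cqa]; exact ga.conj _
  have gb3 : R.Good 5 (emb e b5 * emb e b5 ^ 2) := by
    rw [← map_pow, ← map_mul, ← hca _ _ _ cqb]; exact gb.conj _
  set x := R.nrm 5 (emb e a5) with hx
  set y := R.nrm 5 (emb e b5) with hy
  have sx := ga.nrm_spec hr3 odd5
  have sy := gb.nrm_spec hr3 odd5
  have eb3 : R.nrm 5 (emb e b5 * emb e b5 ^ 2) = y * y ^ 2 := by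
    obtain ⟨hl, hym, s, t, htl, hs, hyt⟩ := sy
    refine (IsNorm.eq_nrm hr3 odd5 gb3 ⟨hl.mul (hl.pow 2), ?_, s, t, htl, ?_, ?_⟩).symm
    · rw [← pow_succ', ← pow_mul, mul_comm, pow_mul, hym, one_pow]
    · calc emb e b5 * emb e b5 ^ 2 * s * (emb e b5 * emb e b5 ^ 2)
          = emb e b5 * (emb e b5 * (emb e b5 * s * emb e b5) * emb e b5) * emb e b5 := by
            simp only [sq, mul_assoc]
        _ = s := by rw [hs, hs, hs]
    · calc y * y ^ 2 * t * (y * y ^ 2) = y * (y * (y * t * y) * y) * y := by simp only [sq, mul_assoc]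
        _ = t := by rw [hyt, hyt, hyt]
  have hY := fun σ => (R.isLift_rho (emb e σ)).injective
  have hSurj := fun σ => (R.isLift_rho (emb e σ)).surjective
  have i1 : R.ρ (emb e p5) * x = y * R.ρ (emb e p5) := by
    rw [hx, ga.nrm_conj hr3 odd5 (R.isLift_rho _), hca _ _ _ cpa]
  have i2 : R.ρ (emb e p5) * y = x ^ 2 * R.ρ (emb e p5) := by
    rw [hy, gb.nrm_conj hr3 odd5 (R.isLift_rho _), hca _ _ _ cpb, map_pow, Good.nrm_sq hr3 odd5 ga ga2]
  have i3 : R.ρ (emb e q5) * x = x ^ 2 * R.ρ (emb e q5) := by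
    rw [hx, ga.nrm_conj hr3 odd5 (R.isLift_rho _), hca _ _ _ cqa, map_pow, Good.nrm_sq hr3 odd5 ga ga2]
  have i4 : R.ρ (emb e q5) * y = (y * y ^ 2) * R.ρ (emb e q5) := by
    rw [← eb3, hy, gb.nrm_conj hr3 odd5 (R.isLift_rho _), hca _ _ _ cqb, map_mul, map_pow]
  have hxy : x * y = y * x := ga.comm _ x y sx.1 sy.1 (cab.map (emb e))
  have hP : ∀ w, Occurs ζ x y 1 w → Occurs ζ x y 1 (P5 w) := by
    rintro w ⟨v, hv0, h1, h2, h3⟩
    obtain ⟨u, rfl⟩ := hSurj p5 v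
    exact ⟨u, fun e => hv0 (by rw [e, map_zero]), eigen_pull (hY p5) i1 rfl h2,
      eigen_pull (hY p5) i2 rfl (sq_eigen hζ h1), eigen_pull (hY p5) ((mul_one _).trans (one_mul _).symm) rfl h3⟩
  have hQ : ∀ w, Occurs ζ x y 1 w → Occurs ζ x y 1 (Q5 w) := by
    rintro w ⟨v, hv0, h1, h2, h3⟩
    obtain ⟨u, rfl⟩ := hSurj q5 v
    refine ⟨u, fun e => hv0 (by rw [e, map_zero]), eigen_pull (hY q5) i3 rfl (sq_eigen hζ h1),
      eigen_pull (hY q5) i4 rfl ?_, eigen_pull (hY q5) ((mul_one _).trans (one_mul _).symm) rfl h3⟩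
    show (y * y ^ 2) _ = rootPow ζ (w.2.1 + (w.2.1 + w.2.1)) • _
    rw [End.mul_apply, sq_eigen hζ h2, map_smul, h2, smul_smul]
    congr 1
    simp only [rootPow_add hζ]
    ring
  refine fixes_range hζ hm sx.2.1 sy.2.1 hxy (fun w hw ha => ?_) hv
  by_contra hb
  obtain ⟨v, hv0, -, -, hc⟩ := id hw
  have hc0 : w.2.2 = 0 := rootPow_injective hζ (by
    rw [rootPow_zero]
    exact smul_left_injective L hv0 (hc.symm.trans (one_smul L v).symm))
  have := card_closure_le_finrank hζ hm hP hQ hw 6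
  rw [show w = (w.1, w.2.1, 0) by rw [← hc0]] at this
  exact hn (le_trans (closure5 _ _ ha hb) this)

/-- Three-cycles: degree at least eight, or each fixes what a disjoint one moves. -/
theorem three_fix_or (R : PRep L V r) (hr : 9 ≤ r) (h3 : (3 : L) ≠ 0) :
    8 ≤ finrank L V ∨ ∀ f g : Fin 3 ↪ Fin r, (∀ i j, f i ≠ g j) →
      ∀ v ∈ LinearMap.range (R.nrm 3 (emb f c3) - 1), R.nrm 3 (emb g c3) v = v := by
  refine or_iff_not_imp_left.2 fun hn f g hfg v hv => ?_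
  have hm : ((3 : ℕ) : L) ≠ 0 := by exact_mod_cast h3
  obtain ⟨ζ, hζ⟩ := exists_zeta (L := L) 3 hm
  have hgood : ∀ f : Fin 3 ↪ Fin r, R.Good 3 (emb f c3) := fun f => by
    obtain ⟨e, -, -⟩ := exists_third (n := 2) f f (by omega)
    obtain ⟨e', he', -⟩ := exists_third (n := 2) f f (by omega)
    obtain ⟨h, s, -, hs, -⟩ := exists_inverts_three f (e'.injective.ne (show (0 : Fin 2) ≠ 1 by decide))
      (fun i => he' i 0) (fun i => he' i 1)
    exact good_emb (by omega) f c3 (by decide) c3_centralizer (by decide) ⟨_, hs⟩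
  obtain ⟨h, hfh, hgh⟩ := exists_third (n := 3) f g (by omega)
  obtain ⟨e0, he0f, he0g⟩ := exists_join f g hfg
  obtain ⟨e, hee, heh⟩ := exists_join e0 h (fun i j => by
    refine Fin.addCases (fun i => ?_) (fun i => ?_) i
    · rw [← Fin.castAddEmb_apply, ← Function.Embedding.trans_apply, he0f]; exact hfh i j
    · rw [← Fin.natAddEmb_apply, ← Function.Embedding.trans_apply, he0g]; exact hgh i j)
  have hef : ((Fin.castAddEmb 3).trans (Fin.castAddEmb 3)).trans e = f := by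
    rw [← he0f, ← hee]; rfl
  have heg : ((Fin.natAddEmb 3).trans (Fin.castAddEmb 3)).trans e = g := by
    rw [← he0g, ← hee]; rfl
  have ea : emb f c3 = emb e a3 := by
    rw [← hef, ← emb_trans]
    exact congrArg _ (emb_eq _ _ _ (by decide) (by decide))
  have eb : emb g c3 = emb e b3 := by
    rw [← heg, ← emb_trans]
    exact congrArg _ (emb_eq _ _ _ (by decide) (by decide))
  have ec : emb h c3 = emb e d3 := by
    rw [← heh, ← emb_trans]
    exact congrArg _ (emb_eq _ _ _ (by decide) (by decide))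
  have odd3 : Odd 3 := by decide
  have hr3 : 3 ≤ r := by omega
  have ga := hgood f
  have gb := hgood g
  have gc := hgood h
  rw [ea] at ga hv
  rw [eb] at gb ⊢
  rw [ec] at gc
  have hca : ∀ σ u w, σ * u * σ⁻¹ = w → emb e σ * emb e u * (emb e σ)⁻¹ = emb e w := fun σ u w h => by
    rw [← map_inv, ← map_mul, ← map_mul, h]
  obtain ⟨cpa, cpb, cpd, cqa, cqb, cqd, cab, cad, cbd⟩ := conj3
  have ga2 : R.Good 3 (emb e a3 ^ 2) := by
    rw [← map_pow, ← hca _ _ _ cpb]; exact gb.conj _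
  set x := R.nrm 3 (emb e a3) with hx
  set y := R.nrm 3 (emb e b3) with hy
  set z := R.nrm 3 (emb e d3) with hz
  have sx := ga.nrm_spec hr3 odd3
  have sy := gb.nrm_spec hr3 odd3
  have sz := gc.nrm_spec hr3 odd3
  have hY := fun σ => (R.isLift_rho (emb e σ)).injective
  have hSurj := fun σ => (R.isLift_rho (emb e σ)).surjective
  have i1 : R.ρ (emb e p3) * x = y * R.ρ (emb e p3) := by
    rw [hx, ga.nrm_conj hr3 odd3 (R.isLift_rho _), hca _ _ _ cpa]
  have i2 : R.ρ (emb e p3) * y = x ^ 2 * R.ρ (emb e p3) := by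
    rw [hy, gb.nrm_conj hr3 odd3 (R.isLift_rho _), hca _ _ _ cpb, map_pow, Good.nrm_sq hr3 odd3 ga ga2]
  have i3 : R.ρ (emb e p3) * z = z * R.ρ (emb e p3) := by
    rw [hz, gc.nrm_conj hr3 odd3 (R.isLift_rho _), hca _ _ _ cpd]
  have i4 : R.ρ (emb e q3) * x = y * R.ρ (emb e q3) := by
    rw [hx, ga.nrm_conj hr3 odd3 (R.isLift_rho _), hca _ _ _ cqa]
  have i5 : R.ρ (emb e q3) * y = z * R.ρ (emb e q3) := by
    rw [hy, gb.nrm_conj hr3 odd3 (R.isLift_rho _), hca _ _ _ cqb]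
  have i6 : R.ρ (emb e q3) * z = x * R.ρ (emb e q3) := by
    rw [hz, gc.nrm_conj hr3 odd3 (R.isLift_rho _), hca _ _ _ cqd]
  have hxy : x * y = y * x := ga.comm _ x y sx.1 sy.1 (cab.map (emb e))
  have hxz : x * z = z * x := ga.comm _ x z sx.1 sz.1 (cad.map (emb e))
  have hyz : y * z = z * y := gb.comm _ y z sy.1 sz.1 (cbd.map (emb e))
  have hP : ∀ w, Occurs ζ x y z w → Occurs ζ x y z (P3 w) := by
    rintro w ⟨v, hv0, h1, h2, h3⟩
    obtain ⟨u, rfl⟩ := hSurj p3 v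
    exact ⟨u, fun e => hv0 (by rw [e, map_zero]), eigen_pull (hY p3) i1 rfl h2,
      eigen_pull (hY p3) i2 rfl (sq_eigen hζ h1), eigen_pull (hY p3) i3 rfl h3⟩
  have hQ : ∀ w, Occurs ζ x y z w → Occurs ζ x y z (Q3 w) := by
    rintro w ⟨v, hv0, h1, h2, h3⟩
    obtain ⟨u, rfl⟩ := hSurj q3 v
    exact ⟨u, fun e => hv0 (by rw [e, map_zero]), eigen_pull (hY q3) i4 rfl h2, eigen_pull (hY q3) i5 rfl h3,
      eigen_pull (hY q3) i6 rfl h1⟩
  refine fixes_range hζ hm sx.2.1 sy.2.1 hxy (fun w hw ha => ?_) hv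
  by_contra hb
  obtain ⟨v, hv0, h1, h2, -⟩ := hw
  obtain ⟨c, hc⟩ := exists_eigen_component (x := z) hζ hm hv0
  have hw' : Occurs ζ x y z (w.1, w.2.1, c) := ⟨proj ζ z c v, hc, by rw [proj_commute hxz.symm, h1, map_smul],
    by rw [proj_commute hyz.symm, h2, map_smul], proj_eigen hζ sz.2.1 c v⟩
  exact hn (le_trans (closure3 (w.1, w.2.1, c) ha hb) (card_closure_le_finrank hζ hm hP hQ hw' 5))

end PRep

end Cfsg.Lib.Linear.AltDeg
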