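import Cfsg.Agent.Lib.Linear.AltDeg.Eight
import Cfsg.Agent.Lib.Linear.AltDeg.FromClass

/-!
# The degree bound away from characteristic three, through three-cycles
-/

set_option autoImplicit false

namespace Cfsg.Lib.Linear.AltDeg

open Module Equiv

variable {L : Type*} [Field L] {V : Type*} [AddCommGroup V] [Module L V] {r : ℕ}

theorem degBound_of_le (h : r - 1 ≤ finrank L V) : DegBound L V r := ⟨by omega, fun _ => h⟩

theorem degBound_of_le_of_eq (h : r - 2 ≤ finrank L V) (h0 : (r : L) = 0) : DegBound L V r :=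
  ⟨h, fun h' => absurd h0 h'⟩

theorem neg_ne : ∀ i : ZMod 3, i ≠ 0 → i ≠ -i := by decide

namespace PRep

/-- A scalar element of order dividing three inverted by a scalar element is one. -/
theorem eq_self_of_inverted {R : PRep L V r} {s : Alt r} {x t : End L V} {W : Submodule L V} (hx : x ^ 3 = 1)
    (ht : R.IsLift s t) (h : x * t * x = t) (hxW : ScalarOn x W) (htW : ScalarOn t W) {v : V} (hv : v ∈ W) :
    x v = v := by
  obtain ⟨c, hc⟩ := hxW
  obtain ⟨d, hd⟩ := htW
  by_cases hv0 : v = 0
  · simp [hv0]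
  have hd0 : d ≠ 0 := fun e => hv0 (ht.injective (by rw [hd v hv, e, zero_smul, map_zero]))
  have h1 := LinearMap.congr_fun h v
  rw [End.mul_apply, End.mul_apply, hc v hv, map_smul, map_smul, hd v hv, map_smul, hc v hv, smul_smul, smul_smul]
    at h1
  have h3 : c ^ 3 = 1 := by
    have := LinearMap.congr_fun hx v
    rw [pow_succ', pow_two, End.mul_apply, End.mul_apply, hc v hv, map_smul, map_smul, hc v hv, map_smul, hc v hv,
      smul_smul, smul_smul, End.one_apply] at this
    calc c ^ 3 = c * (c * c) := by ring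
      _ = 1 := smul_left_injective L hv0 (((mul_assoc c c c).symm ▸ this : (c * (c * c)) • v = v).trans (one_smul L v).symm)
  have h2 : c * c = 1 := mul_right_cancel₀ hd0 (by
    rw [one_mul]
    calc c * c * d = c * d * c := by ring
      _ = d := smul_left_injective L hv0 h1)
  rw [hc v hv, show c = 1 by rw [pow_succ, sq, h2, one_mul] at h3; exact h3, one_smul]

/-- Three-cycles are good. -/
theorem good_three (R : PRep L V r) (hr : 9 ≤ r) (f : Fin 3 ↪ Fin r) : R.Good 3 (emb f c3) := by
  obtain ⟨e, he, -⟩ := exists_third (n := 2) f f (by omega)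
  obtain ⟨h, s, -, hs, -⟩ := exists_inverts_three f (e.injective.ne (show (0 : Fin 2) ≠ 1 by decide))
    (fun i => he i 0) (fun i => he i 1)
  exact good_emb (by omega) f c3 (by decide) c3_centralizer (by decide) ⟨_, hs⟩

theorem good_five (R : PRep L V r) (hr : 10 ≤ r) (f : Fin 5 ↪ Fin r) : R.Good 5 (emb f c5) :=
  good_emb (by omega) f c5 (by decide) c5_centralizer (by decide) (exists_inverts_five f)

variable [IsAlgClosed L]

/-- A three-cycle lying with an inverter in a scalar copy fixes the space. -/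
theorem fixes_of_scalarAlong (R : PRep L V r) (hr : 9 ≤ r) {k : ℕ} {g : Fin k ↪ Fin r} (h : Fin 3 ↪ Fin r)
    {u v : Fin r} (huv : u ≠ v) (hu : ∀ i, h i ≠ u) (hv : ∀ i, h i ≠ v) {W : Submodule L V}
    (hW : R.ScalarAlong g W) {m : ℕ} (f : Fin m ↪ Fin r) (hg : ∀ x, (∃ i, g i = x) ↔ ∀ i, f i ≠ x)
    (hfh : ∀ i j, f i ≠ h j) (hfu : ∀ i, f i ≠ u) (hfv : ∀ i, f i ≠ v) {w : V} (hw : w ∈ W) :
    R.nrm 3 (emb h c3) w = w := by
  obtain ⟨h5, s, -, hs, hh, h5u, h5v⟩ := exists_inverts_three h huv hu hv
  have ha := good_three R hr h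
  have sp := ha.nrm_spec (by omega) (by decide)
  have hdis : ∀ (i : Fin m) (j : Fin 5), h5 j ≠ f i := fun i j e => by
    fin_cases j
    · exact hfh i 0 (e.symm.trans (hh 0))
    · exact hfh i 1 (e.symm.trans (hh 1))
    · exact hfh i 2 (e.symm.trans (hh 2))
    · exact hfu i (e.symm.trans h5u)
    · exact hfv i (e.symm.trans h5v)
  obtain ⟨b, hb⟩ := exists_emb_of_fix f g hg (emb h c3) fun i => emb_apply_of_notMem h c3 fun j e => hfh i j e.symm
  obtain ⟨b', hb'⟩ := exists_emb_of_fix f g hg (emb h5 s) fun i => emb_apply_of_notMem h5 s (hdis i)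
  refine eq_self_of_inverted sp.2.1 (R.isLift_rho (emb h5 s))
    (ha.inverts (by omega) (by decide) hs (R.isLift_rho _)) ((sp.1.scalarOn_iff).2 ?_) ?_ hw
  · rw [← hb]; exact hW b
  · rw [← hb']; exact hW b'

variable [FiniteDimensional L V]

/-- Disjoint three-cycles fix what each moves, or the bound holds. -/
theorem three_fixes (R : PRep L V r) (hr : 9 ≤ r) (h3 : (3 : L) ≠ 0)
    (IH : 12 ≤ r → ∀ U : Submodule L V, PRep L U (r - 3) → r - 5 ≤ finrank L U) :
    DegBound L V r ∨ ∀ f h : Fin 3 ↪ Fin r, (∀ i j, f i ≠ h j) →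
      ∀ v ∈ LinearMap.range (R.nrm 3 (emb f c3) - 1), R.nrm 3 (emb h c3) v = v := by
  by_cases hsmall : r = 9 ∨ (r = 10 ∧ (5 : L) = 0)
  · rcases three_fix_or R hr h3 with h8 | h
    · refine Or.inl ?_
      rcases hsmall with rfl | ⟨rfl, h5⟩
      · exact degBound_of_le (by omega)
      · exact degBound_of_le_of_eq (by omega) (by
          rw [show ((10 : ℕ) : L) = 2 * 5 by norm_num, h5, mul_zero])
    · exact Or.inr h
  push Not at hsmall
  refine or_iff_not_imp_left.2 fun hn f h hfh v hv => ?_
  have hr10 : 10 ≤ r := by omega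
  have hm : ((3 : ℕ) : L) ≠ 0 := by exact_mod_cast h3
  obtain ⟨ω, hω⟩ := exists_zeta (L := L) 3 hm
  have ha := good_three R hr f
  have sp := ha.nrm_spec (R := R) (by omega) (by decide)
  set x := R.nrm 3 (emb f c3) with hx
  obtain ⟨g, hg⟩ := exists_compl f
  have hfg : ∀ i j, f i ≠ g j := fun i j e => (hg (g j)).1 ⟨j, rfl⟩ i e
  let E : ZMod 3 → Submodule L V := fun i => LinearMap.ker (x - rootPow ω i • (1 : End L V))
  have hE : ∀ i w, w ∈ E i ↔ x w = rootPow ω i • w := fun i w => by simp [E, sub_eq_zero]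
  have hinv : ∀ i, R.Inv g (E i) := fun i b w hw => by
    rw [hE] at hw ⊢
    have := LinearMap.congr_fun (R.commute_emb (k := r - 3) (by omega) g sp.1
      (fun b' => commute_of_disjoint f g hfg c3 b') (R.isLift_rho (emb g b))) w
    rw [End.mul_apply, End.mul_apply, hw, map_smul] at this
    exact this
  have hscal : ∀ i : ZMod 3, i ≠ 0 → R.ScalarAlong g (E i) := fun i hi => by
    by_contra hns
    obtain ⟨R'⟩ := exists_restrict (k := r - 3) (by omega) (hinv i) hns
    have hdim : 2 * finrank L (E i) ≤ finrank L V := by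
      obtain ⟨hl, hxm, s, t, htl, hs, hxt⟩ := sp
      have hmap : (E i).map t ≤ E (-i) := by
        rintro _ ⟨w, hw, rfl⟩
        rw [SetLike.mem_coe, hE] at hw
        rw [hE]
        have h1 := LinearMap.congr_fun hxt w
        rw [End.mul_apply, End.mul_apply, hw, map_smul, map_smul] at h1
        have h2 : rootPow ω (-i) * rootPow ω i = 1 := by
          rw [← rootPow_add hω, neg_add_cancel, rootPow_zero]
        calc x (t w) = (rootPow ω (-i) * rootPow ω i) • x (t w) := by rw [h2, one_smul]
          _ = _ := by rw [← smul_smul, h1]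
      have hd := Submodule.finrank_sup_add_finrank_inf_eq (E i) (E (-i))
      rw [show E i ⊓ E (-i) = ⊥ from by
        rw [eq_bot_iff]
        rintro w ⟨h1, h2⟩
        rw [SetLike.mem_coe, hE] at h1 h2
        rw [Submodule.mem_bot]
        by_contra hw0
        exact neg_ne i hi (rootPow_injective hω (smul_left_injective L hw0 (h1.symm.trans h2))), finrank_bot, add_zero] at hd
      have := Submodule.finrank_le (E i ⊔ E (-i))
      have h1 := Submodule.finrank_mono hmap
      rw [← (Submodule.equivMapOfInjective t htl.injective (E i)).finrank_eq] at h1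
      omega
    by_cases h12 : 12 ≤ r
    · have := IH h12 _ R'
      exact hn (degBound_of_le (by omega))
    by_cases h5 : (5 : L) = 0
    · have : r ≠ 10 := fun e => hsmall.2 e h5
      have h2 : (2 : L) ≠ 0 := fun h2 => one_ne_zero (α := L) (by
        calc (1 : L) = 5 - 2 * 2 := by norm_num
          _ = 0 := by rw [h5, h2]; ring)
      have := R'.seven_le (by omega) h2
      exact hn (degBound_of_le (by omega))
    rcases five_fix_or R hr10 h5 with h16 | hfive
    · exact hn (degBound_of_le (by omega))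
    let q : Fin 5 ↪ Fin (r - 3) := Fin.castLEEmb (by omega)
    let e2 : Fin 5 ↪ Fin r := q.trans g
    obtain ⟨e, hef, he2⟩ := exists_third (n := 2) f e2 (by omega)
    have huv : e 0 ≠ e 1 := e.injective.ne (by decide)
    obtain ⟨h5', s5, hsplit, hs5, hh, h5u, h5v⟩ :=
      exists_inverts_three f huv (fun i => hef i 0) (fun i => hef i 1)
    have hdis : ∀ (i j : Fin 5), e2 i ≠ h5' j := fun i j e0 => by
      fin_cases j
      · exact hfg 0 (q i) ((hh 0).symm.trans e0.symm)
      · exact hfg 1 (q i) ((hh 1).symm.trans e0.symm)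
      · exact hfg 2 (q i) ((hh 2).symm.trans e0.symm)
      · exact he2 i 0 (e0.trans h5u)
      · exact he2 i 1 (e0.trans h5v)
    have g2 := good_five R hr10 e2
    have s2 := g2.nrm_spec (R := R) (by omega) (by decide)
    set y := R.nrm 5 (emb e2 c5) with hy
    have hW2 : R.Inv h5' (LinearMap.range (y - 1)) := fun b w hw => by
      obtain ⟨w, rfl⟩ := hw
      refine ⟨R.ρ (emb h5' b) w, ?_⟩
      have := LinearMap.congr_fun (g2.comm _ y _ s2.1 (R.isLift_rho (emb h5' b))
        (commute_of_disjoint e2 h5' hdis c5 b)) w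
      simp only [End.mul_apply] at this
      simp [this]
    have hsc : R.ScalarAlong h5' (LinearMap.range (y - 1)) :=
      scalarAlong_of_mem (le_refl 5) hW2 (b := c5) (by decide)
        (((good_five R hr10 h5').nrm_spec (by omega) (by decide)).1.scalarOn_iff.1
          ⟨1, fun w hw => by rw [one_smul]; exact hfive e2 h5' hdis w hw⟩)
    have hxfix : ∀ w ∈ LinearMap.range (y - 1), x w = w := fun w hw =>
      eq_self_of_inverted sp.2.1 (R.isLift_rho (emb h5' s5)) (ha.inverts (by omega) (by decide) hs5 (R.isLift_rho _))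
        (sp.1.scalarOn_iff.2 (by rw [hsplit]; exact hsc _)) (hsc _) hw
    have hm5 : ((5 : ℕ) : L) ≠ 0 := by exact_mod_cast h5
    obtain ⟨η, hη⟩ := exists_zeta (L := L) 5 hm5
    have hxy := g2.comm _ y x s2.1 sp.1 (commute_of_disjoint e2 f (fun i j e0 => hfg j (q i) e0.symm) c5 c3)
    refine hns (scalarAlong_of_mem (by omega) (hinv i) (b := emb q c5) (fun e0 => ?_) ?_)
    · exact absurd (emb_injective q (e0.trans (map_one _).symm)) (by decide)
    rw [emb_trans]
    refine s2.1.scalarOn_iff.1 ⟨1, fun w hw => ?_⟩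
    rw [one_smul]
    obtain ⟨a, haW, b, hb, rfl⟩ := range_sub_one_sup hη hm5 s2.2.1 w
    suffices a = 0 by rw [this, zero_add, hb]
    rw [hE, map_add, hxfix a haW, smul_add] at hw
    have hyxb : y (x b) = x b := by
      have := LinearMap.congr_fun hxy b
      rw [End.mul_apply, End.mul_apply, hb] at this
      exact this
    have key : (1 - rootPow ω i) • a = rootPow ω i • b - x b := by
      rw [sub_smul, one_smul, sub_eq_sub_iff_add_eq_add, hw]; abel
    have h0 := range_sub_one_inf hη hm5 s2.2.1 (Submodule.smul_mem _ (1 - rootPow ω i) haW) (by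
      rw [key, map_sub, map_smul, hb, hyxb])
    refine (smul_eq_zero.1 h0).resolve_left fun e0 => hi (rootPow_injective hω ?_)
    rw [rootPow_zero, ← sub_eq_zero.1 e0]
  obtain ⟨e, hfe, hhe⟩ := exists_third (n := 2) f h (by omega)
  have hv0 : proj ω x (0 : ZMod 3) v = 0 := by
    obtain ⟨w, rfl⟩ := hv
    rw [LinearMap.sub_apply, End.one_apply, map_sub, ← proj_commute rfl, proj_eigen hω sp.2.1, rootPow_zero,
      one_smul, sub_self]
  conv_lhs => rw [← proj_sum (x := x) hω hm v]
  conv_rhs => rw [← proj_sum (x := x) hω hm v]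
  rw [map_sum]
  refine Finset.sum_congr rfl fun i _ => ?_
  by_cases hi : i = 0
  · rw [hi, hv0, map_zero]
  exact fixes_of_scalarAlong R hr h (e.injective.ne (show (0 : Fin 2) ≠ 1 by decide)) (fun j => hhe j 0)
    (fun j => hhe j 1) (hscal i hi) f hg hfh (fun j => hfe j 0) (fun j => hfe j 1)
    ((hE i _).2 (proj_eigen hω sp.2.1 i v))

theorem swap_three (f g : Fin 3 ↪ Fin r) (h : ∀ i j, f i = g j → i.val = 0 ∧ j.val = 0)
    (h0 : ∀ i, i.val = 0 → f i = g i) : ¬ Commute (emb f c3) (emb g c3) ∧
      ∃ σ : Alt r, σ * emb f c3 * σ⁻¹ = emb g c3 ∧ σ * emb g c3 * σ⁻¹ = emb f c3 := by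
  have hinj : Function.Injective ![f 0, f 1, f 2, g 1, g 2] := by
    intro i j
    have n1 : ∀ a b, (a : Fin 3).val ≠ 0 ∨ (b : Fin 3).val ≠ 0 → f a ≠ g b := fun a b hab e => by
      have := h a b e; omega
    fin_cases i <;> fin_cases j <;>
      simp [f.injective.eq_iff, g.injective.eq_iff, n1, (n1 _ _ _).symm, Ne.symm]
  let e : Fin 5 ↪ Fin r := ⟨_, hinj⟩
  let i1 : Fin 3 ↪ Fin 5 := Fin.castAddEmb 2
  let i2 : Fin 3 ↪ Fin 5 := ⟨![0, 3, 4], by decide⟩
  have e1 : i1.trans e = f := Function.Embedding.ext fun i => by fin_cases i <;> rfl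
  have e2 : i2.trans e = g := Function.Embedding.ext fun i => by
    fin_cases i
    · exact h0 0 rfl
    · rfl
    · rfl
  let a : Alt 5 := ⟨swap 0 1 * swap 1 2, Perm.mem_alternatingGroup.2 (by decide)⟩
  let b : Alt 5 := ⟨swap 0 3 * swap 3 4, Perm.mem_alternatingGroup.2 (by decide)⟩
  have ea : emb f c3 = emb e a := by
    rw [← e1, ← emb_trans]; exact congrArg _ (emb_eq _ _ _ (by decide) (by decide))
  have eb : emb g c3 = emb e b := by
    rw [← e2, ← emb_trans]; exact congrArg _ (emb_eq _ _ _ (by decide) (by decide))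
  rw [ea, eb]
  refine ⟨fun hc => ?_, emb e ⟨swap 1 3 * swap 2 4, Perm.mem_alternatingGroup.2 (by decide)⟩, ?_, ?_⟩
  · have : a * b = b * a := emb_injective e (by rw [map_mul, map_mul]; exact hc.eq)
    revert this; decide
  · rw [← map_inv, ← map_mul, ← map_mul]; congr 1; decide
  · rw [← map_inv, ← map_mul, ← map_mul]; congr 1; decide

/-- A normalised lift of a three-cycle moves at least two dimensions. -/
theorem two_le_range {R : PRep L V r} {ω : L} (hω : IsPrimitiveRoot ω 3) (hm : ((3 : ℕ) : L) ≠ 0) {f0 : Fin 3 ↪ Fin r}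
    {c : Alt 3} {x : End L V} (sp : R.IsNorm 3 (emb f0 c) x) (hc : c ≠ 1) :
    2 ≤ finrank L (LinearMap.range (x - 1)) := by
  obtain ⟨hl, hxm, s, t, htl, hs, hxt⟩ := sp
  obtain ⟨i, hi, v, hv0, hv⟩ : ∃ i : ZMod 3, i ≠ 0 ∧ ∃ v, v ≠ 0 ∧ x v = rootPow ω i • v := by
    by_contra hno
    push Not at hno
    have hx1 : x = (1 : L) • (1 : End L V) := by
      rw [one_smul]
      refine LinearMap.ext fun v => ?_
      have hv : v = proj ω x (0 : ZMod 3) v := by
        conv_lhs => rw [← proj_sum (x := x) hω hm v]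
        refine Finset.sum_eq_single 0 (fun a _ ha => ?_) (by simp)
        by_contra hne
        exact hno a ha _ hne (proj_eigen hω hxm a v)
      rw [hv, proj_eigen hω hxm, rootPow_zero, one_smul]
      rfl
    exact hc (emb_injective f0 ((hl.eq_one hx1).trans (map_one _).symm))
  have hmem : ∀ (j : ZMod 3) (w : V), j ≠ 0 → x w = rootPow ω j • w → w ∈ LinearMap.range (x - 1) := fun j w hj hw => by
    refine mem_range_sub_one hω hm hxm ?_
    rw [proj_of_eigen hω hm 0 j hw, if_neg (Ne.symm hj)]
  have hw : x (t v) = rootPow ω (-i) • t v := by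
    have h1 := LinearMap.congr_fun hxt v
    rw [End.mul_apply, End.mul_apply, hv, map_smul, map_smul] at h1
    have h2 : rootPow ω (-i) * rootPow ω i = 1 := by rw [← rootPow_add hω, neg_add_cancel, rootPow_zero]
    calc x (t v) = (rootPow ω (-i) * rootPow ω i) • x (t v) := by rw [h2, one_smul]
      _ = _ := by rw [← smul_smul, h1]
  let v' : Fin 2 → LinearMap.range (x - 1) := ![⟨v, hmem i v hi hv⟩, ⟨t v, hmem (-i) _ (neg_ne_zero.2 hi) hw⟩]
  have hli : LinearIndependent L v' := by
    rw [LinearIndependent.pair_iff]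
    intro a b hab
    have hab' : a • v + b • t v = 0 := congrArg Subtype.val hab
    have h1 := congrArg (proj ω x i) hab'
    have hne : i ≠ -i := neg_ne i hi
    rw [map_add, map_smul, map_smul, map_zero, proj_of_eigen hω hm i i hv, if_pos rfl,
      proj_of_eigen hω hm i (-i) hw, if_neg hne, smul_zero, add_zero] at h1
    have ha : a = 0 := (smul_eq_zero.1 h1).resolve_right hv0
    rw [ha, zero_smul, zero_add] at hab'
    exact ⟨ha, (smul_eq_zero.1 hab').resolve_right fun e => hv0 (htl.injective (by rw [e, map_zero]))⟩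
  simpa using hli.fintype_card_le_finrank


/-- The bound away from characteristic three. -/
theorem degBound_three (R : PRep L V r) (hr : 9 ≤ r) (h3 : (3 : L) ≠ 0)
    (IH : 12 ≤ r → ∀ U : Submodule L V, PRep L U (r - 3) → r - 5 ≤ finrank L U) : DegBound L V r := by
  rcases three_fixes R hr h3 IH with h | hfix
  · exact h
  have hm : ((3 : ℕ) : L) ≠ 0 := by exact_mod_cast h3
  obtain ⟨ω, hω⟩ := exists_zeta (L := L) 3 hm
  have hg := good_three R hr
  have sp := fun f => (hg f).nrm_spec (R := R) (by omega) (by decide)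
  let M : MovedClass R 3 :=
    { π0 := c3
      x := R.nrm 3
      two_le := by omega
      moves := by decide
      isLift := fun f => (sp f).1
      conj := fun f σ y hy => (hg f).nrm_conj (by omega) (by decide) hy
      fix := hfix
      swap := swap_three
      core := fun T hT v hv hfixv => by
        let f0 : Fin 3 ↪ Fin r := (T.orderEmbOfFin hT).toEmbedding
        have h1 : ∀ i, f0 i ∈ T := fun i => T.orderEmbOfFin_mem hT i
        refine range_sub_one_inf hω hm (sp f0).2.1 ?_ (hfixv f0 h1)
        refine (iSup₂_le fun f hf => ?_ : _ ≤ LinearMap.range (R.nrm 3 (emb f0 c3) - 1)) hv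
        have hrange : ∀ i, ∃ j, f0 j = f i := fun i => by
          have hi : f i ∈ Set.range (T.orderEmbOfFin hT) := by rw [Finset.range_orderEmbOfFin]; exact hf i
          exact hi
        choose π hπ using hrange
        have hπi : Function.Injective π := fun a b e => f.injective (by rw [← hπ, ← hπ, e])
        let π' : Perm (Fin 3) := Equiv.ofBijective π (Finite.injective_iff_bijective.1 hπi)
        have hcases : ∀ p : Perm (Fin 3), p * c3.1 = c3.1 * p ∨ p * c3.1 = (c3 ^ 2).1 * p := by decide
        have hf' : f = (π'.toEmbedding).trans f0 := Function.Embedding.ext fun i => (hπ i).symm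
        have hcomp : ∀ c : Alt 3, π' * c3.1 = c.1 * π' → emb f c3 = emb f0 c := fun c hc => by
          rw [hf', ← emb_trans]
          refine congrArg _ (emb_eq _ _ _ (fun i => (Equiv.congr_fun hc i).symm) fun x hx => ?_)
          exact absurd (π'.apply_symm_apply x) (hx _)
        rcases hcases π' with hc | hc
        · rw [hcomp c3 hc]
        · rw [hcomp (c3 ^ 2) hc, map_pow, Good.nrm_sq (by omega) (by decide) (hg f0)
            (by rw [← map_pow, ← hcomp _ hc]; exact hg f)]
          rintro _ ⟨w, rfl⟩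
          refine ⟨R.nrm 3 (emb f0 c3) w + w, ?_⟩
          simp [sq]; abel }
  obtain ⟨T, -, hT⟩ := Finset.exists_subset_card_eq (s := (Finset.univ : Finset (Fin r))) (n := 3) (by simp; omega)
  refine M.degBound (Or.inl rfl) (by omega) hT ?_
  let f0 : Fin 3 ↪ Fin r := (T.orderEmbOfFin hT).toEmbedding
  refine le_trans ?_ (Submodule.finrank_mono (M.W_le_span (f := f0) fun i => T.orderEmbOfFin_mem hT i))
  exact two_le_range hω hm (sp f0) (by decide)

end PRep

end Cfsg.Lib.Linear.AltDeg
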