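import Cfsg.Agent.Lib.Linear.AltDeg.TwoLocal

/-!
# The degree bound in characteristic three, through double transpositions
-/

set_option autoImplicit false

namespace Cfsg.Lib.Linear.AltDeg

open Module Equiv Klein

variable {L : Type*} [Field L] {V : Type*} [AddCommGroup V] [Module L V] {r : ℕ}

theorem swap_four (f g : Fin 4 ↪ Fin r) (h : ∀ i j, f i = g j → i.val = 0 ∧ j.val = 0)
    (h0 : ∀ i, i.val = 0 → f i = g i) : ¬ Commute (emb f k0) (emb g k0) ∧
      ∃ σ : Alt r, σ * emb f k0 * σ⁻¹ = emb g k0 ∧ σ * emb g k0 * σ⁻¹ = emb f k0 := by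
  have hinj : Function.Injective ![f 0, f 1, f 2, f 3, g 1, g 2, g 3] := by
    intro i j
    have n1 : ∀ a b, (a : Fin 4).val ≠ 0 ∨ (b : Fin 4).val ≠ 0 → f a ≠ g b := fun a b hab e => by
      have := h a b e; omega
    fin_cases i <;> fin_cases j <;>
      simp [f.injective.eq_iff, g.injective.eq_iff, n1, (n1 _ _ _).symm, Ne.symm]
  let e : Fin 7 ↪ Fin r := ⟨_, hinj⟩
  let i1 : Fin 4 ↪ Fin 7 := ⟨![0, 1, 2, 3], by decide⟩
  let i2 : Fin 4 ↪ Fin 7 := ⟨![0, 4, 5, 6], by decide⟩
  have e1 : i1.trans e = f := Function.Embedding.ext fun i => by fin_cases i <;> rfl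
  have e2 : i2.trans e = g := Function.Embedding.ext fun i => by
    fin_cases i
    · exact h0 0 rfl
    · rfl
    · rfl
    · rfl
  let a : Alt 7 := ⟨swap 0 1 * swap 2 3, Perm.mem_alternatingGroup.2 (by decide)⟩
  let b : Alt 7 := ⟨swap 0 4 * swap 5 6, Perm.mem_alternatingGroup.2 (by decide)⟩
  let σ : Alt 7 := ⟨⟨![0, 4, 5, 6, 1, 3, 2], ![0, 4, 6, 5, 1, 2, 3], by decide, by decide⟩,
    Perm.mem_alternatingGroup.2 (by decide)⟩
  have ea : emb f k0 = emb e a := by
    rw [← e1, ← emb_trans]; exact congrArg _ (emb_eq _ _ _ (by decide) (by decide))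
  have eb : emb g k0 = emb e b := by
    rw [← e2, ← emb_trans]; exact congrArg _ (emb_eq _ _ _ (by decide) (by decide))
  rw [ea, eb]
  refine ⟨fun hc => ?_, emb e σ, ?_, ?_⟩
  · have : a * b = b * a := emb_injective e (by rw [map_mul, map_mul]; exact hc.eq)
    revert this; decide
  · rw [← map_inv, ← map_mul, ← map_mul]; congr 1; decide
  · rw [← map_inv, ← map_mul, ← map_mul]; congr 1; decide

namespace PRep

open scoped Classical in
/-- The chosen side lift. -/
noncomputable def sd (R : PRep L V r) (a : Alt r) : End L V := if h : ∃ x, R.Side a x then h.choose else 1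

variable [IsAlgClosed L] [FiniteDimensional L V]

/-- The bound in odd characteristic other than five, through double transpositions. -/
theorem degBound_two (R : PRep L V r) (hr : 10 ≤ r) (h2 : (2 : L) ≠ 0) (h5 : (5 : L) ≠ 0)
    (IH : 13 ≤ r → ∀ U : Submodule L V, PRep L U (r - 4) → r - 6 ≤ finrank L U) : DegBound L V r := by
  by_contra hn
  haveI : Nontrivial V := R.nontrivial (by omega)
  have hex := fun f => exists_side R hr h2 h5 IH hn f
  have spec : ∀ f, R.Side (emb f k0) (R.sd (emb f k0)) := fun f => by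
    rw [sd, dif_pos (hex f)]; exact (hex f).choose_spec
  have conj : ∀ (f : Fin 4 ↪ Fin r) (σ : Alt r) (y : End L V), R.IsLift σ y →
      y * R.sd (emb f k0) = R.sd (σ * emb f k0 * σ⁻¹) * y := fun f σ y hy => by
    obtain ⟨y', hy', e, e'⟩ := hy.exists_inv
    have h1 := (spec f).conj hy hy' e e'
    have h3 := spec (move σ f)
    rw [← conj_emb] at h3
    rw [conj_emb] at h1 h3 ⊢
    rw [Side.unique (by omega) h2 h1 h3, mul_assoc _ y' y, e', mul_one]
  obtain ⟨cz0, cz1, cz2, k01, s0, s1, kne, kc⟩ := facts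
  let nx : (Fin 4 ↪ Fin r) → (Fin 4 ↪ Fin r) := fun f => move (emb f z4) f
  let nx2 : (Fin 4 ↪ Fin r) → (Fin 4 ↪ Fin r) := fun f => move (emb f z4) (nx f)
  have en : ∀ f, emb (nx f) k0 = emb f k1 := fun f => by
    rw [← conj_emb, ← map_inv, ← map_mul, ← map_mul, cz0]
  have en2 : ∀ f, emb (nx2 f) k0 = emb f k2 := fun f => by
    rw [← conj_emb, en, ← map_inv, ← map_mul, ← map_mul, cz1]
  have sp1 : ∀ f, R.Side (emb f k1) (R.sd (emb f k1)) := fun f => en f ▸ spec (nx f)
  have sp2 : ∀ f, R.Side (emb f k2) (R.sd (emb f k2)) := fun f => en2 f ▸ spec (nx2 f)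
  have rot0 : ∀ f (y : End L V), R.IsLift (emb f z4) y →
      y * R.sd (emb f k0) = R.sd (emb f k1) * y := fun f y hy => by
    rw [conj f _ y hy, ← map_inv, ← map_mul, ← map_mul, cz0]
  have rot1 : ∀ f (y : End L V), R.IsLift (emb f z4) y →
      y * R.sd (emb f k1) = R.sd (emb f k2) * y := fun f y hy => by
    rw [← en f, conj (nx f) _ y hy, en f, ← map_inv, ← map_mul, ← map_mul, cz1]
  -- the three lifts commute and multiply
  have klein : ∀ f, R.sd (emb f k0) * R.sd (emb f k1) = R.sd (emb f k1) * R.sd (emb f k0) ∧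
      R.sd (emb f k0) * R.sd (emb f k1) = R.sd (emb f k2) := fun f => by
    obtain ⟨hl, hx, hsx⟩ := spec f
    obtain ⟨hl1, hx1, hsx1⟩ := sp1 f
    obtain ⟨hl2, hx2, hsx2⟩ := sp2 f
    set x := R.sd (emb f k0)
    set x1 := R.sd (emb f k1)
    set x2 := R.sd (emb f k2)
    obtain ⟨g, hg⟩ := exists_compl f
    have hfg : ∀ i j, f i ≠ g j := fun i j e => (hg (g j)).1 ⟨j, rfl⟩ i e
    have hgf : ∀ (c : Alt 4) i, (emb f c).1 (g i) = g i := fun c i =>
      emb_apply_of_notMem f c fun j => hfg j i
    have hcomm : x * x1 = x1 * x := by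
      obtain ⟨c, hc, h01⟩ := R.exists_comm hl hl1 (kc.map (emb f))
      have hc2 : c * c = 1 := by
        have h1 : x1 = (c * c) • x1 := by
          calc x1 = x * x * x1 := by rw [hx, one_mul]
            _ = (c * c) • x1 := by
              rw [mul_assoc, h01, mul_smul_comm, ← mul_assoc, h01, smul_mul_assoc, smul_smul, mul_assoc, hx,
                mul_one]
        obtain ⟨v, hv⟩ := exists_ne (0 : V)
        have := LinearMap.congr_fun h1 v
        rw [LinearMap.smul_apply] at this
        exact smul_left_injective L (fun e => hv (hl1.injective (by rw [e, map_zero])))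
          (this.symm.trans (one_smul L _).symm)
      rcases mul_self_eq_one_iff.1 hc2 with rfl | rfl
      · rw [h01, one_smul]
      exfalso
      have hm := hsx g (hgf k0)
      refine scalar_cover R (by omega : 5 ≤ r - 4) hm (C := LinearMap.range (-x - 1)) hm (fun b => ?_) fun v => ?_
      · obtain ⟨d, hd⟩ := hm b
        refine ⟨d, fun w hw => ?_⟩
        rw [mem_range_neg h2 hx] at hw
        have e11 : x1 (x1 w) = w := LinearMap.congr_fun hx1 w
        have hw' : x1 w ∈ LinearMap.range (x - 1) := by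
          rw [mem_range_sq h2 hx, ← End.mul_apply, h01, LinearMap.smul_apply, End.mul_apply, hw, neg_one_smul]
        have hy := R.commute_emb (k := r - 4) (by omega) g hl1 (fun b' => commute_of_disjoint f g hfg k1 b')
          (R.isLift_rho (emb g b))
        conv_lhs => rw [← e11, ← End.mul_apply, ← hy, End.mul_apply, hd _ hw', map_smul, e11]
      · obtain ⟨a, b, ha, hb, rfl⟩ := exists_split h2 hx v
        exact add_mem (Submodule.mem_sup_left (Submodule.mem_sup_left ((mem_range_sq h2 hx).2 ha)))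
          (Submodule.mem_sup_right ((mem_range_neg h2 hx).2 hb))
    refine ⟨hcomm, ?_⟩
    obtain ⟨c, hc, h012⟩ := ((hl.mul hl1).congr (by rw [← map_mul, k01])).exists_smul hl2
    have hc2 : c * c = 1 := by
      have h1 := hx2
      rw [h012, smul_mul_smul_comm, show x * x1 * (x * x1) = 1 by
        rw [mul_assoc, ← mul_assoc x1, ← hcomm, mul_assoc x, hx1, mul_one, hx]] at h1
      exact smul_one_inj (h1.trans (one_smul L _).symm)
    rcases mul_self_eq_one_iff.1 hc2 with rfl | rfl
    · rw [h012, one_smul]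
    exfalso
    refine scalar_cover R (by omega : 5 ≤ r - 4) (hsx g (hgf k0)) (hsx1 g (hgf k1)) (hsx2 g (hgf k2)) fun v => ?_
    obtain ⟨a, b, ha, hb, rfl⟩ := exists_split h2 hx v
    refine add_mem (Submodule.mem_sup_left (Submodule.mem_sup_left ((mem_range_sq h2 hx).2 ha))) ?_
    obtain ⟨a', b', ha', hb', rfl⟩ := exists_split h2 hx1 b
    refine add_mem (Submodule.mem_sup_left (Submodule.mem_sup_right ((mem_range_sq h2 hx1).2 ha')))
      (Submodule.mem_sup_right ?_)
    rw [mem_range_sq h2 hx2, h012, neg_one_smul, LinearMap.neg_apply, End.mul_apply, hb']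
    refine congrArg Neg.neg ?_
    have h1 := LinearMap.congr_fun hcomm (a' + b')
    rw [End.mul_apply, End.mul_apply, hb, map_add x1, ha', hb', map_add, map_neg] at h1
    rw [map_add] at hb
    have : (2 : L) • (x b' - b') = 0 := by
      rw [two_smul]
      calc x b' - b' + (x b' - b') = (-(x a') + x b') - (-a' + b') + ((x a' + x b') - (a' + b')) := by abel
        _ = 0 := by rw [h1, hb, sub_self, sub_self, add_zero]
    exact sub_eq_zero.1 ((smul_eq_zero.1 this).resolve_left h2)
  -- disjoint ones fix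
  have hfix : ∀ f h : Fin 4 ↪ Fin r, (∀ i j, f i ≠ h j) → ∀ v ∈ LinearMap.range (R.sd (emb f k0) - 1),
      R.sd (emb h k0) v = v := fun f h hfh v hv => by
    obtain ⟨g, hg⟩ := exists_compl f
    have hgf : ∀ i, (emb f k0).1 (g i) = g i := fun i =>
      emb_apply_of_notMem f k0 ((hg (g i)).1 ⟨i, rfl⟩)
    have hsc := (spec f).2.2 g hgf
    have hW : ∀ (c : Alt 4) (y : End L V), R.IsLift (emb h c) y →
        ScalarOn y (LinearMap.range (R.sd (emb f k0) - 1)) := fun c y hy => by
      obtain ⟨b, hb⟩ := exists_emb_of_fix f g hg (emb h c) fun i =>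
        emb_apply_of_notMem h c fun j e => hfh i j e.symm
      exact hy.scalarOn_iff.2 (hb ▸ hsc b)
    obtain ⟨ε, hε⟩ := hW k0 _ (spec h).1
    obtain ⟨ε1, hε1⟩ := hW k1 _ (sp1 h).1
    obtain ⟨ε2, hε2⟩ := hW k2 _ (sp2 h).1
    have hyl := R.isLift_rho (emb h z4)
    obtain ⟨d, hd⟩ := hW z4 _ hyl
    by_cases hv0 : v = 0
    · simp [hv0]
    have hd0 : d ≠ 0 := fun e => hv0 (hyl.injective (by rw [hd v hv, e, zero_smul, map_zero]))
    have e1 : ε = ε1 := by
      have := LinearMap.congr_fun (rot0 h _ hyl) v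
      rw [End.mul_apply, End.mul_apply, hε v hv, map_smul, hd v hv, map_smul, hε1 v hv, smul_smul, smul_smul] at this
      exact mul_right_cancel₀ hd0 ((smul_left_injective L hv0 this).trans (mul_comm _ _))
    have e2 : ε1 = ε2 := by
      have := LinearMap.congr_fun (rot1 h _ hyl) v
      rw [End.mul_apply, End.mul_apply, hε1 v hv, map_smul, hd v hv, map_smul, hε2 v hv, smul_smul, smul_smul] at this
      exact mul_right_cancel₀ hd0 ((smul_left_injective L hv0 this).trans (mul_comm _ _))
    have e3 : ε1 * ε = ε2 := by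
      have := LinearMap.congr_fun (klein h).2 v
      rw [End.mul_apply, hε1 v hv, map_smul, hε v hv, smul_smul, hε2 v hv] at this
      exact smul_left_injective L hv0 this
    have hε0 : ε ≠ 0 := fun e => hv0 ((spec h).1.injective (by rw [hε v hv, e, zero_smul, map_zero]))
    rw [← e2, ← e1] at e3
    rw [hε v hv, mul_left_cancel₀ hε0 (e3.trans (mul_one ε).symm), one_smul]
  let M : MovedClass R 4 :=
    { π0 := k0
      x := R.sd
      two_le := by omega
      moves := by decide
      isLift := fun f => (spec f).1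
      conj := conj
      fix := hfix
      swap := swap_four
      core := fun T hT v hv hfixv => by
        let f0 : Fin 4 ↪ Fin r := (T.orderEmbOfFin hT).toEmbedding
        have hmem : ∀ i, f0 i ∈ T := fun i => T.orderEmbOfFin_mem hT i
        have hrange : ∀ (f : Fin 4 ↪ Fin r), (∀ i, f i ∈ T) →
            emb f k0 = emb f0 k0 ∨ emb f k0 = emb f0 k1 ∨ emb f k0 = emb f0 k2 := fun f hf => by
          have hrange : ∀ i, ∃ j, f0 j = f i := fun i => by
            have hi : f i ∈ Set.range (T.orderEmbOfFin hT) := by rw [Finset.range_orderEmbOfFin]; exact hf i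
            exact hi
          choose π hπ using hrange
          have hπi : Function.Injective π := fun a b e => f.injective (by rw [← hπ, ← hπ, e])
          let π' : Perm (Fin 4) := Equiv.ofBijective π (Finite.injective_iff_bijective.1 hπi)
          have hf' : f = π'.toEmbedding.trans f0 := Function.Embedding.ext fun i => (hπ i).symm
          rcases relabel_cases π' with hc | hc | hc
          · exact Or.inl (hf' ▸ emb_relabel π' f0 k0 k0 hc)
          · exact Or.inr (Or.inl (hf' ▸ emb_relabel π' f0 k0 k1 hc))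
          · exact Or.inr (Or.inr (hf' ▸ emb_relabel π' f0 k0 k2 hc))
        have hxv : R.sd (emb f0 k0) v = v := hfixv f0 hmem
        have hnx : ∀ i, nx f0 i ∈ T := fun i => by
          show (emb f0 z4).1 (f0 i) ∈ T
          rw [emb_apply]; exact hmem _
        have hx1v : R.sd (emb f0 k1) v = v := by rw [← en]; exact hfixv _ hnx
        obtain ⟨hc, hp⟩ := klein f0
        set x := R.sd (emb f0 k0) with hx
        set x1 := R.sd (emb f0 k1) with hx1
        have q := (spec f0).2.1
        have q1 := (sp1 f0).2.1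
        let Q : End L V := (1 + x1) * (1 + x)
        have hle : (⨆ (f : Fin 4 ↪ Fin r) (_ : ∀ i, f i ∈ T), LinearMap.range (R.sd (emb f k0) - 1)) ≤
            LinearMap.ker Q := iSup₂_le fun f hf => by
          rintro _ ⟨w, rfl⟩
          rw [LinearMap.mem_ker, ← End.mul_apply]
          suffices Q * (R.sd (emb f k0) - 1) = 0 by rw [this]; rfl
          have z0 : (1 + x) * (x - 1) = 0 := by
            rw [mul_sub, mul_one, add_mul, one_mul, q]; abel
          have z1 : (1 + x1) * (x1 - 1) = 0 := by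
            rw [mul_sub, mul_one, add_mul, one_mul, q1]; abel
          have hQ : Q = (1 + x) * (1 + x1) := by
            simp only [Q, mul_add, add_mul, one_mul, mul_one, hc]; abel
          rcases hrange f hf with e | e | e <;> rw [e]
          · rw [← hx, mul_assoc, z0, mul_zero]
          · rw [← hx1, hQ, mul_assoc, z1, mul_zero]
          · rw [← hp, show x * x1 - 1 = (x - 1) * x1 + (x1 - 1) by rw [sub_mul, one_mul]; abel, mul_add]
            rw [← mul_assoc, show Q * (x - 1) = 0 by rw [mul_assoc, z0, mul_zero], zero_mul, hQ, mul_assoc, z1,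
              mul_zero, add_zero]
        have hQv := LinearMap.mem_ker.1 (hle hv)
        rw [End.mul_apply] at hQv
        simp only [LinearMap.add_apply, End.one_apply, hxv, hx1v, map_add] at hQv
        have h4 : (2 * 2 : L) • v = 0 := by rw [← hQv, ← smul_smul, two_smul, two_smul]
        exact (smul_eq_zero.1 h4).resolve_left (mul_ne_zero h2 h2) }
  obtain ⟨T, -, hT⟩ := Finset.exists_subset_card_eq (s := (Finset.univ : Finset (Fin r))) (n := 4) (by simp; omega)
  refine hn (M.degBound (Or.inr rfl) (by omega) hT ?_)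
  let f0 : Fin 4 ↪ Fin r := (T.orderEmbOfFin hT).toEmbedding
  have hmem : ∀ i, f0 i ∈ T := fun i => T.orderEmbOfFin_mem hT i
  have hnx : ∀ i, nx f0 i ∈ T := fun i => by
    show (emb f0 z4).1 (f0 i) ∈ T
    rw [emb_apply]; exact hmem _
  obtain ⟨hc, hp⟩ := klein f0
  have hzl := R.isLift_rho (emb f0 z4)
  have r0 := rot0 f0 _ hzl
  have r1 := rot1 f0 _ hzl
  have r2 : R.ρ (emb f0 z4) * R.sd (emb f0 k2) = R.sd (emb f0 k0) * R.ρ (emb f0 z4) := by
    rw [← en2 f0, conj (nx2 f0) _ _ hzl, en2 f0, ← map_inv, ← map_mul, ← map_mul, cz2]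
  obtain ⟨hl, q, -⟩ := spec f0
  obtain ⟨-, q1, -⟩ := sp1 f0
  have hW0 : LinearMap.range (R.sd (emb f0 k0) - 1) ≤ M.span T := M.W_le_span hmem
  have hW1 : LinearMap.range (R.sd (emb f0 k1) - 1) ≤ M.span T := by rw [← en]; exact M.W_le_span hnx
  set x := R.sd (emb f0 k0)
  set x1 := R.sd (emb f0 k1)
  set z := R.ρ (emb f0 z4)
  rw [← hp] at r1 r2
  obtain ⟨v, hv0, hv⟩ : ∃ v, v ≠ 0 ∧ x v = -v := by
    by_contra hno
    push Not at hno
    refine absurd (emb_injective f0 ((hl.eq_one (c := (1 : L)) (LinearMap.ext fun w => ?_)).trans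
      (map_one _).symm)) kne
    obtain ⟨a, b, ha, hb, rfl⟩ := exists_split h2 q w
    have : a = 0 := by_contra fun h => hno a h ha
    rw [this, zero_add, hb, one_smul]
    rfl
  have hcx : ∀ w, x1 (x w) = x (x1 w) := fun w => (LinearMap.congr_fun hc w).symm
  have hx1x1 : ∀ w, x1 (x1 w) = w := fun w => LinearMap.congr_fun q1 w
  -- rotate a joint eigenvector
  have step : ∀ (w : V) (s t : L), x w = s • w → x1 w = t • w →
      x (z w) = (t * s) • z w ∧ x1 (z w) = s • z w := fun w s t hs ht => by
    have a0 := LinearMap.congr_fun r0 w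
    have a2 := LinearMap.congr_fun r2 w
    simp only [End.mul_apply] at a0 a2
    rw [hs, map_smul] at a0
    rw [ht, map_smul, hs, smul_smul, map_smul] at a2
    exact ⟨a2.symm, a0.symm⟩
  obtain ⟨u, hu0, hu, hu1⟩ : ∃ u, u ≠ 0 ∧ x u = (1 : L) • u ∧ x1 u = (-1 : L) • u := by
    obtain ⟨a, b, ha, hb, hab⟩ := exists_split h2 q1 v
    have hxa : x a = -a ∧ x b = -b := by
      have e1 : x a + x b = -a + -b := by rw [← map_add, ← hab, hv, hab, neg_add]
      have e2 : -(x a) + x b = a + -b := by
        have := hcx v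
        rw [hv, hab] at this
        simp only [map_add, map_neg, ha, hb, neg_add, neg_neg] at this
        exact this.symm
      have : (2 : L) • (x b + b) = 0 := by
        rw [two_smul]
        calc x b + b + (x b + b) = (x a + x b) + (-(x a) + x b) + b + b := by abel
          _ = 0 := by rw [e1, e2]; abel
      have hb' : x b = -b := eq_neg_of_add_eq_zero_left ((smul_eq_zero.1 this).resolve_left h2)
      exact ⟨by rw [hb'] at e1; exact add_right_cancel e1, hb'⟩
    by_cases ha0 : a = 0
    · have hb0 : b ≠ 0 := fun e => hv0 (by rw [hab, ha0, e, add_zero])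
      obtain ⟨w1, w2⟩ := step b (-1) 1 (by rw [neg_one_smul]; exact hxa.2) (by rw [one_smul]; exact hb)
      obtain ⟨w3, w4⟩ := step (z b) _ _ w1 w2
      refine ⟨z (z b), fun e => hb0 (hzl.injective (hzl.injective (e.trans (by rw [map_zero, map_zero])))), ?_, ?_⟩
      · rw [w3]; norm_num
      · rw [w4]; norm_num
    · obtain ⟨w1, w2⟩ := step a (-1) (-1) (by rw [neg_one_smul]; exact hxa.1) (by rw [neg_one_smul]; exact ha)
      refine ⟨z a, fun e => ha0 (hzl.injective (e.trans (map_zero z).symm)), ?_, ?_⟩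
      · rw [w1]; norm_num
      · rw [w2]
  obtain ⟨b1, b1'⟩ := step u 1 (-1) hu hu1
  obtain ⟨c1, c1'⟩ := step (z u) _ _ b1 b1'
  have hz0 : z u ≠ 0 := fun e => hu0 (hzl.injective (e.trans (map_zero z).symm))
  have hzz0 : z (z u) ≠ 0 := fun e => hz0 (hzl.injective (e.trans (map_zero z).symm))
  simp only [one_mul, mul_one] at b1 b1' c1 c1'
  have mu : u ∈ M.span T := hW1 ((mem_range_sq h2 q1).2 (by rw [hu1, neg_one_smul]))
  have mz : z u ∈ M.span T := hW0 ((mem_range_sq h2 q).2 (by rw [b1, neg_one_smul]))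
  have mzz : z (z u) ∈ M.span T := hW0 ((mem_range_sq h2 q).2 (by rw [c1, neg_one_smul]))
  let v' : Fin 3 → M.span T := ![⟨u, mu⟩, ⟨z u, mz⟩, ⟨z (z u), mzz⟩]
  have hli : LinearIndependent L v' := by
    rw [Fintype.linearIndependent_iff]
    intro c hcz
    have e0 : c 0 • u + c 1 • z u + c 2 • z (z u) = 0 := by
      have := congrArg Subtype.val hcz
      simpa [Fin.sum_univ_three, v'] using this
    have e1 := congrArg x e0
    have e2 := congrArg x1 e0
    simp only [map_add, map_smul, map_zero, hu, hu1, b1, b1', c1, c1', one_smul, neg_smul, smul_neg] at e1 e2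
    have a0 : c 0 = 0 := by
      have : (2 : L) • (c 0 • u) = 0 := by
        rw [two_smul]
        calc c 0 • u + c 0 • u = (c 0 • u + c 1 • z u + c 2 • z (z u)) + (c 0 • u + -(c 1 • z u) + -(c 2 • z (z u))) := by
              abel
          _ = 0 := by rw [e0, e1, add_zero]
      exact (smul_eq_zero.1 ((smul_eq_zero.1 this).resolve_left h2)).resolve_right hu0
    rw [a0, zero_smul, zero_add] at e0
    rw [a0, zero_smul, neg_zero, zero_add] at e2
    have a1 : c 1 = 0 := by
      have : (2 : L) • (c 1 • z u) = 0 := by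
        rw [two_smul]
        calc c 1 • z u + c 1 • z u = (c 1 • z u + c 2 • z (z u)) + (c 1 • z u + -(c 2 • z (z u))) := by abel
          _ = 0 := by rw [e0, e2, add_zero]
      exact (smul_eq_zero.1 ((smul_eq_zero.1 this).resolve_left h2)).resolve_right hz0
    rw [a1, zero_smul, zero_add] at e0
    intro i
    fin_cases i
    · exact a0
    · exact a1
    · exact (smul_eq_zero.1 e0).resolve_right hzz0
  simpa using hli.fintype_card_le_finrank

end PRep

end Cfsg.Lib.Linear.AltDeg
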