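import Cfsg.Agent.Lib.Linear.AltDeg.Three

/-!
# Eigenspaces of double transpositions
-/

set_option autoImplicit false

namespace Cfsg.Lib.Linear.AltDeg

open Module Equiv

namespace Klein

/-- The double transpositions of four letters and a three-cycle permuting them. -/
def k0 : Alt 4 := ⟨swap 0 1 * swap 2 3, Perm.mem_alternatingGroup.2 (by decide)⟩

@[inherit_doc k0]
def k1 : Alt 4 := ⟨swap 0 2 * swap 1 3, Perm.mem_alternatingGroup.2 (by decide)⟩

@[inherit_doc k0]
def k2 : Alt 4 := ⟨swap 0 3 * swap 1 2, Perm.mem_alternatingGroup.2 (by decide)⟩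

@[inherit_doc k0]
def z4 : Alt 4 := ⟨swap 1 2 * swap 2 3, Perm.mem_alternatingGroup.2 (by decide)⟩

theorem facts : z4 * k0 * z4⁻¹ = k1 ∧ z4 * k1 * z4⁻¹ = k2 ∧ z4 * k2 * z4⁻¹ = k0 ∧ k0 * k1 = k2 ∧
    k0 * k0 = 1 ∧ k1 * k1 = 1 ∧ k0 ≠ 1 ∧ Commute k0 k1 := by
  refine ⟨?_, ?_, ?_, ?_, ?_, ?_, ?_, ?_⟩ <;> first | decide | (show _ * _ = _ * _; decide)

theorem relabel_cases : ∀ p : Perm (Fin 4),
    p * k0.1 = k0.1 * p ∨ p * k0.1 = k1.1 * p ∨ p * k0.1 = k2.1 * p := by decide

end Klein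

open Klein

/-- Renaming the letters of a copy. -/
theorem emb_relabel {k r : ℕ} (p : Perm (Fin k)) (f : Fin k ↪ Fin r) (a c : Alt k) (h : p * a.1 = c.1 * p) :
    emb (p.toEmbedding.trans f) a = emb f c := by
  rw [← emb_trans]
  refine congrArg _ (emb_eq _ _ _ (fun i => (Equiv.congr_fun h i).symm) fun x hx => ?_)
  exact absurd (p.apply_symm_apply x) (hx _)

variable {L : Type*} [Field L] {V : Type*} [AddCommGroup V] [Module L V] {r : ℕ}

theorem mem_range_sq {x : End L V} (h2 : (2 : L) ≠ 0) (hx : x * x = 1) {v : V} :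
    v ∈ LinearMap.range (x - 1) ↔ x v = -v := by
  constructor
  · rintro ⟨w, rfl⟩
    have := LinearMap.congr_fun hx w
    rw [End.mul_apply, End.one_apply] at this
    simp [this]
  · intro h
    refine ⟨-(2 : L)⁻¹ • v, ?_⟩
    rw [map_smul, LinearMap.sub_apply, End.one_apply, h]
    rw [show -v - v = (-2 : L) • v by rw [neg_smul, two_smul]; abel, smul_smul]
    rw [show -(2 : L)⁻¹ * -2 = 1 by field_simp, one_smul]

theorem mem_range_neg {x : End L V} (h2 : (2 : L) ≠ 0) (hx : x * x = 1) {v : V} :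
    v ∈ LinearMap.range (-x - 1) ↔ x v = v := by
  rw [mem_range_sq h2 (by rw [neg_mul_neg, hx])]
  simp

theorem exists_split {x : End L V} (h2 : (2 : L) ≠ 0) (hx : x * x = 1) (v : V) :
    ∃ a b, x a = -a ∧ x b = b ∧ v = a + b := by
  have e : ∀ w, x (x w) = w := fun w => LinearMap.congr_fun hx w
  refine ⟨(2 : L)⁻¹ • (v - x v), (2 : L)⁻¹ • (v + x v), ?_, ?_, ?_⟩
  · rw [map_smul, map_sub, e, ← smul_neg, neg_sub]
  · rw [map_smul, map_add, e, add_comm]
  · rw [← smul_add, show v - x v + (v + x v) = (2 : L) • v by rw [two_smul]; abel, smul_smul,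
      inv_mul_cancel₀ h2, one_smul]

namespace PRep

/-- A copy cannot act by scalars on spanning subspaces. -/
theorem scalar_cover (R : PRep L V r) {k : ℕ} (hk : 5 ≤ k) {g : Fin k ↪ Fin r} {A B C : Submodule L V}
    (hA : R.ScalarAlong g A) (hB : R.ScalarAlong g B) (hC : R.ScalarAlong g C) (h : ∀ v, v ∈ A ⊔ B ⊔ C) : False := by
  let b1 : Alt 5 := ⟨swap 0 1 * swap 1 2, Perm.mem_alternatingGroup.2 (by decide)⟩
  let b2 : Alt 5 := ⟨swap 0 2 * swap 2 3, Perm.mem_alternatingGroup.2 (by decide)⟩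
  let q := ((Fin.castLEEmb hk).trans g)
  have hq : ∀ b : Alt 5, emb q b = emb g (emb (Fin.castLEEmb hk) b) := fun b => (emb_trans _ _ _).symm
  have hc : ∀ (W : Submodule L V), R.ScalarAlong g W →
      W ≤ LinearMap.ker (R.ρ (emb q b1) * R.ρ (emb q b2) - R.ρ (emb q b2) * R.ρ (emb q b1)) := fun W hW v hv => by
    obtain ⟨c, hc⟩ := hW (emb (Fin.castLEEmb hk) b1)
    obtain ⟨d, hd⟩ := hW (emb (Fin.castLEEmb hk) b2)
    rw [LinearMap.mem_ker, LinearMap.sub_apply, End.mul_apply, End.mul_apply, hq, hq, hd v hv, hc v hv, map_smul,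
      map_smul, hc v hv, hd v hv, smul_comm, sub_self]
  have e : R.ρ (emb q b1) * R.ρ (emb q b2) = R.ρ (emb q b2) * R.ρ (emb q b1) := LinearMap.ext fun v =>
    sub_eq_zero.1 (LinearMap.mem_ker.1 ((sup_le (sup_le (hc A hA) (hc B hB)) (hc C hC)) (h v)))
  have := MovedClass.eq_of_isLift ((R.isLift_rho (emb q b1)).mul (R.isLift_rho (emb q b2)))
    (e ▸ (R.isLift_rho (emb q b2)).mul (R.isLift_rho (emb q b1)))
  rw [← map_mul, ← map_mul] at this
  have h' := emb_injective q this
  revert h'; decide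

/-- A lift whose moved space is acted on by scalars by every complementary copy. -/
def Side (R : PRep L V r) (a : Alt r) (x : End L V) : Prop :=
  R.IsLift a x ∧ x * x = 1 ∧
    ∀ g : Fin (r - 4) ↪ Fin r, (∀ i, a.1 (g i) = g i) → R.ScalarAlong g (LinearMap.range (x - 1))

theorem Side.conj {R : PRep L V r} {a σ : Alt r} {x y y' : End L V} (h : R.Side a x) (hy : R.IsLift σ y)
    (hy' : R.IsLift σ⁻¹ y') (e : y * y' = 1) (e' : y' * y = 1) : R.Side (σ * a * σ⁻¹) (y * x * y') := by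
  obtain ⟨hl, hs, hsc⟩ := h
  refine ⟨(hy.mul hl).mul hy', ?_, fun g hg b => ?_⟩
  · calc y * x * y' * (y * x * y') = y * x * (y' * y) * x * y' := by simp only [mul_assoc]
      _ = 1 := by rw [e', mul_one, mul_assoc y, hs, mul_one, e]
  obtain ⟨c, hc⟩ := hsc (move σ⁻¹ g) (fun i => by
    have := congrArg σ.1.symm (hg i)
    simpa using this) b
  have hconj : σ * emb (move σ⁻¹ g) b * σ⁻¹ = emb g b := by
    rw [conj_emb]; congr 2; exact Function.Embedding.ext fun i => by simp
  rw [← (((hy.mul (R.isLift_rho (emb (move σ⁻¹ g) b))).mul hy').congr hconj).scalarOn_iff]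
  refine ⟨c, fun v hv => ?_⟩
  obtain ⟨w, rfl⟩ := hv
  have h1 : y' ((y * x * y' - 1) w) = (x - 1) (y' w) := by
    simp only [LinearMap.sub_apply, End.one_apply, map_sub, End.mul_apply]
    rw [show y' (y (x (y' w))) = x (y' w) from LinearMap.congr_fun e' _]
  rw [End.mul_apply, End.mul_apply, h1, hc _ ⟨y' w, rfl⟩, map_smul, ← h1]
  exact congrArg (c • ·) (LinearMap.congr_fun e _)

variable [IsAlgClosed L] [FiniteDimensional L V]

/-- A complementary copy scalar on neither eigenspace forces the bound. -/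
theorem bound_of_neither (R : PRep L V r) (hr : 10 ≤ r) (h2 : (2 : L) ≠ 0) (h5 : (5 : L) ≠ 0)
    (IH : 13 ≤ r → ∀ U : Submodule L V, PRep L U (r - 4) → r - 6 ≤ finrank L U) (f : Fin 4 ↪ Fin r)
    (g : Fin (r - 4) ↪ Fin r) (hg : ∀ x, (∃ i, g i = x) ↔ ∀ i, f i ≠ x) {x : End L V}
    (hl : R.IsLift (emb f k0) x) (hx : x * x = 1) (hm : ¬ R.ScalarAlong g (LinearMap.range (x - 1)))
    (hp : ¬ R.ScalarAlong g (LinearMap.range (-x - 1))) : DegBound L V r := by
  have hfg : ∀ i j, f i ≠ g j := fun i j e => (hg (g j)).1 ⟨j, rfl⟩ i e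
  have hcomm : ∀ b, x * R.ρ (emb g b) = R.ρ (emb g b) * x := fun b =>
    R.commute_emb (k := r - 4) (by omega) g hl (fun b' => commute_of_disjoint f g hfg k0 b') (R.isLift_rho _)
  have hi1 : R.Inv g (LinearMap.range (x - 1)) := fun b v hv => by
    rw [mem_range_sq h2 hx] at hv ⊢
    rw [← End.mul_apply, hcomm, End.mul_apply, hv, map_neg]
  have hi2 : R.Inv g (LinearMap.range (-x - 1)) := fun b v hv => by
    rw [mem_range_neg h2 hx] at hv ⊢
    rw [← End.mul_apply, hcomm, End.mul_apply, hv]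
  obtain ⟨R1⟩ := exists_restrict (k := r - 4) (by omega) hi1 hm
  obtain ⟨R2⟩ := exists_restrict (k := r - 4) (by omega) hi2 hp
  have hsum : finrank L (LinearMap.range (x - 1)) + finrank L (LinearMap.range (-x - 1)) ≤ finrank L V := by
    have hd := Submodule.finrank_sup_add_finrank_inf_eq (LinearMap.range (x - 1)) (LinearMap.range (-x - 1))
    rw [show LinearMap.range (x - 1) ⊓ LinearMap.range (-x - 1) = ⊥ by
      rw [eq_bot_iff]
      rintro v ⟨h1, h3⟩
      rw [SetLike.mem_coe, mem_range_sq h2 hx] at h1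
      rw [SetLike.mem_coe, mem_range_neg h2 hx, h1] at h3
      rw [Submodule.mem_bot]
      have : (2 : L) • v = 0 := by rw [two_smul]; nth_rw 1 [← h3]; exact neg_add_cancel v
      exact (smul_eq_zero.1 this).resolve_left h2, finrank_bot, add_zero] at hd
    rw [← hd]
    exact Submodule.finrank_le _
  by_cases h13 : 13 ≤ r
  · have := IH h13 _ R1
    have := IH h13 _ R2
    exact degBound_of_le (by omega)
  by_cases h12 : r = 12
  · have := R1.seven_le (by omega) h2
    have := R2.seven_le (by omega) h2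
    exact degBound_of_le (by omega)
  rcases five_fix_or R hr h5 with h16 | hfive
  · exact degBound_of_le (by omega)
  exfalso
  let q : Fin 5 ↪ Fin (r - 4) := Fin.castLEEmb (by omega)
  let e2 : Fin 5 ↪ Fin r := q.trans g
  obtain ⟨e, hfe, he2⟩ := exists_third (n := 1) f e2 (by omega)
  obtain ⟨h5', hh, hu⟩ := exists_join f e hfe
  have hdis : ∀ (i : Fin 5) (j : Fin (4 + 1)), e2 i ≠ h5' j := fun i j => by
    refine Fin.addCases (fun j e0 => ?_) (fun j e0 => ?_) j
    · exact hfg j (q i) (by rw [← hh]; exact e0.symm)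
    · exact he2 i j (by rw [← hu]; exact e0)
  have hr3 : 3 ≤ r := by omega
  have g2 := good_five R hr e2
  have s2 := g2.nrm_spec (R := R) hr3 (by decide)
  set y := R.nrm 5 (emb e2 c5) with hy
  have hW2 : R.Inv h5' (LinearMap.range (y - 1)) := fun b w hw => by
    obtain ⟨w, rfl⟩ := hw
    refine ⟨R.ρ (emb h5' b) w, ?_⟩
    have := LinearMap.congr_fun (g2.comm _ y _ s2.1 (R.isLift_rho (emb h5' b))
      (commute_of_disjoint e2 h5' hdis c5 b)) w
    simp only [End.mul_apply] at this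
    simp [this]
  have hsc : R.ScalarAlong h5' (LinearMap.range (y - 1)) :=
    scalarAlong_of_mem (le_refl 5) hW2 (b := c5) (by decide)
      (((good_five R hr h5').nrm_spec hr3 (by decide)).1.scalarOn_iff.1
        ⟨1, fun w hw => by rw [one_smul]; exact hfive e2 h5' hdis w hw⟩)
  obtain ⟨c, hc⟩ : ScalarOn x (LinearMap.range (y - 1)) := hl.scalarOn_iff.2 (by
    rw [← hh, ← emb_trans]; exact hsc _)
  have hm5 : ((5 : ℕ) : L) ≠ 0 := by exact_mod_cast h5
  obtain ⟨η, hη⟩ := exists_zeta (L := L) 5 hm5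
  have hxy := g2.comm _ y x s2.1 hl (commute_of_disjoint e2 f (fun i j e0 => hfg j (q i) e0.symm) c5 k0)
  have kill : ∀ ε : L, c ≠ ε → ∀ W : Submodule L V, R.Inv g W → (∀ w ∈ W, x w = ε • w) → R.ScalarAlong g W := by
    intro ε hne W hW hxW
    refine scalarAlong_of_mem (by omega) hW (b := emb q c5)
      (fun e0 => absurd (emb_injective q (e0.trans (map_one _).symm)) (by decide)) ?_
    rw [emb_trans]
    refine s2.1.scalarOn_iff.1 ⟨1, fun w hw => ?_⟩
    rw [one_smul]
    obtain ⟨a, haW, b, hb, rfl⟩ := range_sub_one_sup hη hm5 s2.2.1 w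
    suffices a = 0 by rw [this, zero_add, hb]
    have he := hxW _ hw
    rw [map_add, hc a haW, smul_add] at he
    have hyxb : y (x b) = x b := by
      have := LinearMap.congr_fun hxy b
      rw [End.mul_apply, End.mul_apply, hb] at this
      exact this
    have key : (c - ε) • a = ε • b - x b := by
      rw [sub_smul, sub_eq_sub_iff_add_eq_add, he]; abel
    have h0 := range_sub_one_inf hη hm5 s2.2.1 (Submodule.smul_mem _ (c - ε) haW) (by
      rw [key, map_sub, map_smul, hb, hyxb])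
    exact (smul_eq_zero.1 h0).resolve_left (sub_ne_zero.2 hne)
  by_cases hc1 : c = -1
  · refine hp (kill 1 ?_ _ hi2 fun w hw => by rw [one_smul]; exact (mem_range_neg h2 hx).1 hw)
    intro e0
    rw [e0] at hc1
    exact h2 (by rw [← one_add_one_eq_two]; nth_rw 1 [hc1]; exact neg_add_cancel 1)
  · exact hm (kill (-1) hc1 _ hi1 fun w hw => by rw [neg_one_smul]; exact (mem_range_sq h2 hx).1 hw)

/-- Off the bound, each double transposition has exactly one side. -/
theorem exists_side (R : PRep L V r) (hr : 10 ≤ r) (h2 : (2 : L) ≠ 0) (h5 : (5 : L) ≠ 0)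
    (IH : 13 ≤ r → ∀ U : Submodule L V, PRep L U (r - 4) → r - 6 ≤ finrank L U) (hn : ¬ DegBound L V r)
    (f : Fin 4 ↪ Fin r) : ∃ x, R.Side (emb f k0) x := by
  obtain ⟨x, hl, hx⟩ := R.exists_lift_sq (a := emb f k0) (by rw [← map_mul, facts.2.2.2.2.1, map_one])
  obtain ⟨g, hg⟩ := exists_compl f
  have htr : ∀ W, R.ScalarAlong g W → ∀ g' : Fin (r - 4) ↪ Fin r, (∀ i, (emb f k0).1 (g' i) = g' i) →
      R.ScalarAlong g' W := fun W hW g' hg' b => by
    obtain ⟨b', hb'⟩ := exists_emb_of_fix f g hg (emb g' b) fun i => emb_apply_of_notMem g' b fun j e => by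
      have := hg' j
      rw [e, emb_apply] at this
      exact absurd (f.injective this) ((by decide : ∀ i, k0.1 i ≠ i) _)
    rw [← hb']
    exact hW b'
  by_cases hm : R.ScalarAlong g (LinearMap.range (x - 1))
  · exact ⟨x, hl, hx, htr _ hm⟩
  by_cases hp : R.ScalarAlong g (LinearMap.range (-x - 1))
  · exact ⟨-x, by simpa using hl.smul (neg_ne_zero.2 (one_ne_zero (α := L))), by rw [neg_mul_neg, hx],
      htr _ hp⟩
  exact absurd (bound_of_neither R hr h2 h5 IH f g hg hl hx hm hp) hn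

/-- The side is unique. -/
theorem Side.unique {R : PRep L V r} (hr : 9 ≤ r) (h2 : (2 : L) ≠ 0) {f : Fin 4 ↪ Fin r} {x y : End L V}
    (hx : R.Side (emb f k0) x) (hy : R.Side (emb f k0) y) : y = x := by
  haveI : Nontrivial V := R.nontrivial (by omega)
  obtain ⟨c, -, rfl⟩ := hx.1.exists_smul hy.1
  have hc2 : c * c = 1 := by
    have := hy.2.1
    rw [smul_mul_smul_comm, hx.2.1] at this
    exact smul_one_inj (this.trans (one_smul L _).symm)
  rcases mul_self_eq_one_iff.1 hc2 with rfl | rfl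
  · rw [one_smul]
  · exfalso
    obtain ⟨g, hg⟩ := exists_compl f
    have hgf : ∀ i, (emb f k0).1 (g i) = g i := fun i => emb_apply_of_notMem f k0 ((hg (g i)).1 ⟨i, rfl⟩)
    refine scalar_cover R (by omega : 5 ≤ r - 4) (hx.2.2 g hgf) (hy.2.2 g hgf) (hy.2.2 g hgf) fun v => ?_
    obtain ⟨a, b, ha, hb, rfl⟩ := exists_split h2 hx.2.1 v
    refine add_mem (Submodule.mem_sup_left (Submodule.mem_sup_left ((mem_range_sq h2 hx.2.1).2 ha)))
      (Submodule.mem_sup_right ?_)
    rw [neg_one_smul]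
    exact (mem_range_neg h2 hx.2.1).2 hb

end PRep

end Cfsg.Lib.Linear.AltDeg
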